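import Groth.Agent.Lib.SymAlg.PE.Local
import Groth.Agent.Lib.ProjMor.Embed

/-!
# From immersions into projective space
-/

noncomputable section

set_option autoImplicit false
universe u

open CategoryTheory CategoryTheory.Limits AlgebraicGeometry Opposite TopologicalSpace

namespace Groth.Agent.Lib.SymAlg.PE

open Groth.Agent.Lib TensorMod TensorMod.Dual TensorMod.Gen TensorMod.HomGlue

/-- A fibre product maps by an immersion to the product. -/
theorem isImmersion_lift_of_isPullback {P A B Z : Scheme.{u}} {a : P ⟶ A} {b : P ⟶ B} {f : A ⟶ Z} {g : B ⟶ Z}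
    (h : IsPullback a b f g) :
    IsImmersion (pullback.lift (f := terminal.from A) (g := terminal.from B) a b (Subsingleton.elim _ _)) := by
  have e : pullback.lift (f := terminal.from A) (g := terminal.from B) a b (Subsingleton.elim _ _) =
      h.isoPullback.hom ≫ pullback.mapDesc f g (terminal.from Z) ≫
        (pullback.congrHom (terminal.comp_from f) (terminal.comp_from g)).hom := by
    apply pullback.hom_ext <;> simp only [Category.assoc, pullback.congrHom_hom, pullback.lift_fst, pullback.lift_snd, pullback.map, pullback.mapDesc, Category.comp_id, IsPullback.isoPullback_hom_fst, IsPullback.isoPullback_hom_snd, pullback.lift_fst_assoc, pullback.lift_snd_assoc]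
  rw [e]
  infer_instance

theorem lift_map_eq {T D V A B W : Scheme.{u}} (x : T ⟶ D) (y : T ⟶ V) (a : D ⟶ A) (b : V ⟶ B) (w : T ⟶ W)
    (p : W ⟶ A) (π : W ⟶ B) (h1 : x ≫ a = w ≫ p) (h2 : y ≫ b = w ≫ π) :
    pullback.lift (f := terminal.from D) (g := terminal.from V) x y (Subsingleton.elim _ _) ≫
        pullback.map (terminal.from D) (terminal.from V) (terminal.from A) (terminal.from B) a b (𝟙 _)
          (Subsingleton.elim _ _) (Subsingleton.elim _ _) =
      w ≫ pullback.lift (f := terminal.from A) (g := terminal.from B) p π (Subsingleton.elim _ _) := by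
  apply pullback.hom_ext
  · simp only [Category.assoc, pullback.map, pullback.lift_fst, pullback.lift_fst_assoc]
    exact h1
  · simp only [Category.assoc, pullback.map, pullback.lift_snd, pullback.lift_snd_assoc]
    exact h2

variable {X S : Scheme.{u}}

/-- An immersion into projective space gives the criterion for the direct image. -/
theorem crit_push_of_pn {f : X ⟶ S} {L : X.Modules} (h : RelAmple.IsRelVeryAmplePn f L) :
    Crit (𝟙 ((Scheme.Modules.pushforward f).obj L)) := by
  obtain ⟨n, j, hj, hjf, ⟨φ⟩⟩ := h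
  let Z : Type u := ULift.{u} ℤ
  let 𝒜 := CohB1.polyGrading n Z
  let p : CohB1.ProjSpaceOver n S ⟶ Proj 𝒜 :=
    pullback.fst (CohB1.ProjSpace.toSpec n Z) (specULiftZIsTerminal.from S)
  let π : CohB1.ProjSpaceOver n S ⟶ S := pullback.snd _ _
  let r : X ⟶ Proj 𝒜 := j ≫ p
  have hjπ : j ≫ π = f := hjf
  let τ : (Scheme.Modules.pullback r).obj (Twist.twist 𝒜 1) ≅ L :=
    ((Scheme.Modules.pullbackComp j p).app (Twist.twist 𝒜 1)).symm ≪≫ φ.symm
  let el : Fin (n + 1) → 𝒜 1 := fun i => ⟨MvPolynomial.X i, MvPolynomial.isHomogeneous_X Z i⟩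
  have hadj := ProjMor.Poly.adjoin_lin n Z
  have hcv := ProjMor.Main.cover (ProjMor.Poly.lin_mem n Z) hadj
  have hinv : PicF.IsInvertible (Twist.twist 𝒜 1) :=
    Groth.Agent.Lib.ProjTilde.Invertible.twist_isInvertible_of_cover (fun x => by
      obtain ⟨c, hc⟩ := hcv x
      exact ⟨c, c.2, hc⟩) 1
  let t : 𝒜 1 → Γ(L, ⊤) := fun c => τ.hom.app ⊤ (ProjUP.pullSec r (Twist.twist 𝒜 1) (ProjMor.Frame.g 𝒜 c))
  intro x
  obtain ⟨c, hc⟩ := hcv (r x)
  obtain ⟨V, hV, hxV, -⟩ := exists_isAffineOpen_mem_and_subset (x := f x) (U := ⊤) trivial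
  let D : (Proj 𝒜).Opens := Proj.basicOpen 𝒜 (c : MvPolynomial (Fin (n + 1)) Z)
  have hloc : ProjMor.Sec.locus (t c) = r ⁻¹ᵁ D := by
    rw [ProjMor.Sec.locus_iso τ, ProjMor.Sec.locus_pullback hinv r, ProjMor.Frame.locus_g hcv c]
  let e : ∀ d : 𝒜 1, Γ((Scheme.Modules.pushforward f).obj L, V) := fun d =>
    (rs L le_top (t d) : Γ(L, f ⁻¹ᵁ V))
  have hev : ∀ d, ev (𝟙 ((Scheme.Modules.pushforward f).obj L)) V (e d) = rs L le_top (t d) := fun _ => rfl
  have hgl : gloc (ev (𝟙 ((Scheme.Modules.pushforward f).obj L)) V (e c)) = r ⁻¹ᵁ D ⊓ f ⁻¹ᵁ V := by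
    rw [hev, gloc_rs, ← hloc]
    congr 1
    refine le_antisymm (ProjMor.Sec.le_locus ?_) (le_gloc le_top (ProjMor.Sec.isGen_locus (t c)))
    exact isGen_gloc (t c)
  refine ⟨V, hV, e c, by rw [hgl]; exact ⟨hc, hxV⟩, ?_⟩
  set T := gloc (ev (𝟙 ((Scheme.Modules.pushforward f).obj L)) V (e c)) with hT
  have h1 : T ≤ r ⁻¹ᵁ D := hgl.le.trans inf_le_left
  have h2 : T ≤ f ⁻¹ᵁ V := hgl.le.trans inf_le_right
  have hpair : IsImmersion (pullback.lift (f := terminal.from (D : Scheme.{u})) (g := terminal.from (V : Scheme.{u}))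
      (r.resLE D T h1) (f.resLE V T h2) (Subsingleton.elim _ _)) := by
    have hm : IsImmersion (pullback.map (terminal.from (D : Scheme.{u})) (terminal.from (V : Scheme.{u}))
        (terminal.from (Proj 𝒜)) (terminal.from S) D.ι V.ι (𝟙 _) (Subsingleton.elim _ _) (Subsingleton.elim _ _)) :=
      MorphismProperty.pullbackMap (P := @IsImmersion) inferInstance inferInstance (Subsingleton.elim _ _) (Subsingleton.elim _ _)
    have hl : IsImmersion (pullback.lift (f := terminal.from (Proj 𝒜)) (g := terminal.from S) p π (Subsingleton.elim _ _)) :=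
      isImmersion_lift_of_isPullback (IsPullback.of_hasPullback (CohB1.ProjSpace.toSpec n Z) (specULiftZIsTerminal.from S))
    have e1 : pullback.lift (f := terminal.from (D : Scheme.{u})) (g := terminal.from (V : Scheme.{u}))
        (r.resLE D T h1) (f.resLE V T h2) (Subsingleton.elim _ _) ≫
        pullback.map (terminal.from (D : Scheme.{u})) (terminal.from (V : Scheme.{u}))
          (terminal.from (Proj 𝒜)) (terminal.from S) D.ι V.ι (𝟙 _) (Subsingleton.elim _ _) (Subsingleton.elim _ _) =
        T.ι ≫ j ≫ pullback.lift (f := terminal.from (Proj 𝒜)) (g := terminal.from S) p π (Subsingleton.elim _ _) := by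
      rw [← Category.assoc]
      refine lift_map_eq _ _ _ _ (T.ι ≫ j) p π ?_ ?_
      · rw [Category.assoc]
        exact Scheme.Hom.resLE_comp_ι (j ≫ p) h1
      · rw [Category.assoc, hjπ]
        exact Scheme.Hom.resLE_comp_ι f h2
    have : IsImmersion (pullback.lift (f := terminal.from (D : Scheme.{u})) (g := terminal.from (V : Scheme.{u}))
        (r.resLE D T h1) (f.resLE V T h2) (Subsingleton.elim _ _) ≫
        pullback.map (terminal.from (D : Scheme.{u})) (terminal.from (V : Scheme.{u}))
          (terminal.from (Proj 𝒜)) (terminal.from S) D.ι V.ι (𝟙 _) (Subsingleton.elim _ _) (Subsingleton.elim _ _)) := by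
      rw [e1]
      infer_instance
    exact IsImmersion.of_comp _ (pullback.map (terminal.from (D : Scheme.{u})) (terminal.from (V : Scheme.{u}))
      (terminal.from (Proj 𝒜)) (terminal.from S) D.ι V.ι (𝟙 _) (Subsingleton.elim _ _) (Subsingleton.elim _ _))
  have hDa : IsAffineOpen D := Proj.isAffineOpen_basicOpen 𝒜 _ c.2 one_pos
  refine (ImmOn.pair r f h1 h2 hpair (immOn_top hDa) (immOn_top hV)).mono (sup_le ?_ ?_)
  · have hgen : Subring.closure ((𝒜 0 : Set (MvPolynomial (Fin (n + 1)) Z)) ∪ (𝒜 1 : Set _)) = ⊤ := by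
      refine eq_top_iff.2 fun z _ => ?_
      have hz : z ∈ (Algebra.adjoin Z (Set.range (ProjMor.Poly.lin n Z))).toSubring := hadj.ge Algebra.mem_top
      rw [Algebra.adjoin_eq_ring_closure] at hz
      refine Subring.closure_mono (Set.union_subset_union ?_ ?_) hz
      · rintro _ ⟨a, rfl⟩
        exact SetLike.algebraMap_mem_graded 𝒜 a
      · rintro _ ⟨a, rfl⟩
        exact ProjMor.Poly.lin_mem n Z a
    have htop : (⊤ : Subring Γ(Proj 𝒜, D)) = Subring.closure (Set.range fun d : 𝒜 1 => ProjMor.Frame.fr 𝒜 c d) := by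
      have hb : Function.Surjective (Proj.awayToSection 𝒜 (c : MvPolynomial (Fin (n + 1)) Z)) := by
        have h := ConcreteCategory.bijective_of_isIso (Proj.basicOpenIsoAway 𝒜 _ c.2 one_pos).hom
        rw [Proj.basicOpenIsoAway_hom] at h
        exact h.2
      have := congrArg (Subring.map (Proj.awayToSection 𝒜 (c : MvPolynomial (Fin (n + 1)) Z)).hom)
        (Away.closure_frac 𝒜 hgen c.2)
      rw [RingHom.map_closure, ← Set.range_comp, ← RingHom.range_eq_map, RingHom.range_eq_top.2 hb] at this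
      exact this.symm
    rw [htop, rats, RingHom.map_closure, Subring.closure_le]
    rintro _ ⟨_, ⟨d, rfl⟩, rfl⟩
    refine Subring.subset_closure ⟨e d, ?_⟩
    refine (rf_self le_rfl _).symm.trans (ratio_unique_on le_rfl ?_)
    refine ((rs_rs L le_top _ (t d)).trans ?_).trans (congrArg (_ • ·) (rs_rs L le_top _ (t c)).symm)
    exact ProjMor.Embed.ratio_of_iso τ (va := t c) (vb := t d) rfl rfl h1
  · rw [rats]
    rintro _ ⟨a, -, rfl⟩
    refine Subring.subset_closure ⟨a • e c, ?_⟩
    have h3 : ev (𝟙 ((Scheme.Modules.pushforward f).obj L)) V (a • e c) =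
        f.app V a • ev (𝟙 ((Scheme.Modules.pushforward f).obj L)) V (e c) := rfl
    beta_reduce
    rw [h3, ratio_smul, ratio_self, mul_one]
    rfl

end Groth.Agent.Lib.SymAlg.PE
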