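import Groth.Agent.Lib.SymAlg.PE.Crit

/-!
# `RelProj.IsRelVeryAmple` in terms of sections
-/

noncomputable section

set_option autoImplicit false
universe u

open CategoryTheory CategoryTheory.Limits AlgebraicGeometry Opposite TopologicalSpace
open scoped HomogeneousIdeal

namespace Groth.Agent.Lib.SymAlg.PE

open Groth.Agent.Lib TensorMod TensorMod.Dual TensorMod.Gen TensorMod.HomGlue TensorMod.Pullback

variable {S X : Scheme.{u}} {q : X ⟶ S} {L : X.Modules}

/-- A quasi-coherent module with a map to `q_*L` satisfying the criterion gives relative very ampleness. -/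
theorem isRelVeryAmple_of_crit {E : S.Modules} (hE : Coh.IsQCoh E)
    (v : E ⟶ (Scheme.Modules.pushforward q).obj L) (hv : Crit v) : RelProj.IsRelVeryAmple q L := by
  haveI : E.IsQuasicoherent := hE
  have hj : RelProj.IsGrSymAlg E (Exists.grAlg E) (Exists.jmap E) := Exists.isGrSymAlg E
  let B : Tw S := Tw.ofAlg (Exists.grAlg E) (Gen.isGenDegOne hj hE)
  obtain ⟨r, hr⟩ := exists_isMapFor (B := B) (hE := hE) hj v hv.generates
  obtain ⟨τ, hτ⟩ := exists_tau (G := Tw.Gens.ofSym B hE hj) hv.generates hr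
  have heq : ∀ (U : S.Opens) (hU : IsAffineOpen U) (e : Γ((Tw.Gens.ofSym B hE hj).E, U)),
      gloc (ev v U e) = r ⁻¹ᵁ B.D hU ((Tw.Gens.ofSym B hE hj).g U e) := fun U hU e => by
    have h1 : ev v U e = ev (vOf (Tw.Gens.ofSym B hE hj) r hr.hq τ) U e :=
      (hτ U hU e).trans (ev_vOf (Tw.Gens.ofSym B hE hj) r hr.hq τ hU e).symm
    exact (congrArg gloc h1).trans (gloc_vOf _ r hr.hq τ hU e)
  exact ⟨E, hE, B.alg, Exists.jmap E, hj, B.P, B.p, B.chart, B.hP, B.O1, B.lam, B.hO, r,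
    isImmersion_of_crit (Tw.Gens.ofSym B hE hj) hr heq hv, hr.hq, ⟨τ.symm⟩⟩

/-- An immersion into any relative Proj generated in degree one gives sections satisfying the criterion. -/
theorem exists_data_of_tw (B : Tw S) (i : X ⟶ B.P) [IsImmersion i] (hi : i ≫ B.p = q)
    (τ : L ≅ (Scheme.Modules.pullback i).obj B.O1) :
    ∃ (E : S.Modules) (_ : Coh.IsQCoh E) (v : E ⟶ (Scheme.Modules.pushforward q).obj L), Generates v ∧
      ∀ (U : S.Opens), IsAffineOpen U → ∀ e : Γ(E, U), ImmOn (gloc (ev v U e)) (rats v U e) := by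
  obtain ⟨G⟩ := B.nonempty_gens
  refine ⟨G.E, G.qcoh, vOf G i hi τ.symm, fun x => ?_,
    fun U hU e => immOn_of_isMapFor G (isMapFor_vOf G i hi τ.symm) hU e⟩
  obtain ⟨U, hU, hxU, -⟩ := exists_isAffineOpen_mem_and_subset (x := B.p (i x)) (U := ⊤) trivial
  obtain ⟨g, hg, hxg⟩ := B.exists_mem_D hU hxU
  obtain ⟨e, rfl⟩ := G.surj U hU g hg
  refine ⟨U, hU, e, ?_⟩
  rw [gloc_vOf G i hi τ.symm hU e]
  exact hxg

/-- Relative very ampleness gives sections satisfying the criterion everywhere. -/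
theorem exists_data (h : RelProj.IsRelVeryAmple q L) :
    ∃ (E : S.Modules) (_ : Coh.IsQCoh E) (v : E ⟶ (Scheme.Modules.pushforward q).obj L), Generates v ∧
      ∀ (U : S.Opens), IsAffineOpen U → ∀ e : Γ(E, U), ImmOn (gloc (ev v U e)) (rats v U e) := by
  obtain ⟨E, hE, 𝒮, j, hj, P, p, chart, hP, O1, lam, hO, i, hi, hiq, ⟨τ⟩⟩ := h
  exact exists_data_of_tw ⟨𝒮, Gen.isGenDegOne hj hE, P, p, chart, hP, O1, lam, hO⟩ i hiq τ

theorem crit_of_data {E : S.Modules} {v : E ⟶ (Scheme.Modules.pushforward q).obj L} (hv : Generates v)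
    (h : ∀ (U : S.Opens), IsAffineOpen U → ∀ e : Γ(E, U), ImmOn (gloc (ev v U e)) (rats v U e)) : Crit v :=
  fun x => by
    obtain ⟨U, hU, e, hx⟩ := hv x
    exact ⟨U, hU, e, hx, h U hU e⟩

theorem isRelVeryAmple_of_iso {M : X.Modules} (φ : L ≅ M) (h : RelProj.IsRelVeryAmple q L) :
    RelProj.IsRelVeryAmple q M := by
  obtain ⟨E, hE, 𝒮, j, hj, P, p, chart, hP, O1, lam, hO, i, hi, hiq, ⟨τ⟩⟩ := h
  exact ⟨E, hE, 𝒮, j, hj, P, p, chart, hP, O1, lam, hO, i, hi, hiq, ⟨φ.symm ≪≫ τ⟩⟩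

end Groth.Agent.Lib.SymAlg.PE
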