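import Groth.Agent.Lib.SymAlg.PE.Main
import Groth.Agent.H95.LefFEt.Adjunct

/-!
# The universal property of `P(E)`
-/

noncomputable section

set_option autoImplicit false
universe u

open CategoryTheory CategoryTheory.Limits AlgebraicGeometry Opposite TopologicalSpace
open scoped HomogeneousIdeal

namespace Groth.Agent.Lib.SymAlg.PE

open Groth.Agent.Lib TensorMod TensorMod.Dual TensorMod.Gen TensorMod.HomGlue TensorMod.Pullback

variable {S X : Scheme.{u}} {L : X.Modules} {B : Tw S} (G : B.Gens)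

theorem canon_unique {φ : G.E ⟶ (Scheme.Modules.pushforward B.p).obj B.O1}
    (h : ∀ (U : S.Opens) (hU : IsAffineOpen U) (e : Γ(G.E, U))
      (y : ↥(B.e hU ⁻¹ᵁ (B.p ⁻¹ᵁ U))),
      GrTwist.val (V := B.e hU ⁻¹ᵁ (B.p ⁻¹ᵁ U)) ((B.lam U hU).app (B.p ⁻¹ᵁ U) ((φ.app U) e)) y =
        algebraMap (B.R U) (GrTwist.Loc (B.alg.deg U hU) y.1) (G.g U e)) : φ = G.canon := by
  refine ArtinFun.HomAffine.hom_ext_affine fun U e => ?_
  rw [G.canon_app U.2 e]
  refine B.ext_val (hU := U.2) le_rfl fun y => ?_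
  rw [B.val_sec]
  exact (h U.1 U.2 e y).trans (Localization.mk_one_eq_algebraMap _).symm

theorem homEquiv_eq_vOf {q : X ⟶ S} (r : X ⟶ B.P) (hr : r ≫ B.p = q)
    (τ : (Scheme.Modules.pullback r).obj B.O1 ≅ L) :
    (Scheme.Modules.pullbackPushforwardAdjunction q).homEquiv G.E L
      ((Scheme.Modules.pullbackCongr hr).inv.app G.E ≫ (Scheme.Modules.pullbackComp r B.p).inv.app G.E ≫
        (Scheme.Modules.pullback r).map
          (((Scheme.Modules.pullbackPushforwardAdjunction B.p).homEquiv G.E B.O1).symm G.canon) ≫ τ.hom) =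
      vOf G r hr τ := by
  subst hr
  rw [show (Scheme.Modules.pullbackCongr (rfl : r ≫ B.p = r ≫ B.p)).inv.app G.E = 𝟙 _ by
    simp [Scheme.Modules.pullbackCongr]]
  rw [Category.id_comp, vOf, H95.LefFEt.Adjunct.pushforwardCongr_rfl, Category.comp_id,
    ← H95.LefFEt.Adjunct.homEquiv_comp r B.p, Iso.hom_inv_id_app_assoc, ← Category.assoc]
  congr 1
  rw [H95.LefFEt.Adjunct.hE, H95.LefFEt.Adjunct.hE, Adjunction.homEquiv_naturality_left,
    Adjunction.homEquiv_naturality_right, Equiv.apply_symm_apply, Adjunction.homEquiv_unit]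

/-- Morphisms over `S` into `P(E)` are the invertible quotients of the inverse image of `E`. -/
theorem existsUnique_map {E : S.Modules} (hE : Coh.IsQCoh E) {j : E ⟶ B.alg.toModule}
    (hj : RelProj.IsGrSymAlg E B.alg j) (q : X ⟶ S) (hL : PicF.IsInvertible L)
    (s : (Scheme.Modules.pullback q).obj E ⟶ L) [Epi s] :
    ∃! r : X ⟶ B.P, ∃ (hr : r ≫ B.p = q) (τ : (Scheme.Modules.pullback r).obj B.O1 ≅ L),
      (Scheme.Modules.pullbackCongr hr).inv.app E ≫ (Scheme.Modules.pullbackComp r B.p).inv.app E ≫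
        (Scheme.Modules.pullback r).map
          (((Scheme.Modules.pullbackPushforwardAdjunction B.p).homEquiv E B.O1).symm
            (Tw.Gens.ofSym B hE hj).canon) ≫ τ.hom = s := by
  let G := Tw.Gens.ofSym B hE hj
  let v : E ⟶ (Scheme.Modules.pushforward q).obj L :=
    (Scheme.Modules.pullbackPushforwardAdjunction q).homEquiv E L s
  have hv : Generates v := fun x => by
    obtain ⟨V, hV, hxV, -⟩ := exists_isAffineOpen_mem_and_subset (x := q x) (U := ⊤) trivial
    obtain ⟨U, -, hU, e, hx⟩ := exists_mem_gloc_of_epi q hL s (x := x) hxV hV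
    exact ⟨U, hU, e, hx⟩
  obtain ⟨r, hr⟩ := exists_isMapFor (B := B) (hE := hE) hj v hv
  obtain ⟨τ, hτ⟩ := exists_tau (G := G) hv hr
  have hvOf : v = vOf G r hr.hq τ := ArtinFun.HomAffine.hom_ext_affine fun U e =>
    (hτ U.1 U.2 e).trans (ev_vOf G r hr.hq τ U.2 e).symm
  refine ⟨r, ⟨hr.hq, τ, ?_⟩, fun r' ⟨hr', τ', h'⟩ => ?_⟩
  · apply ((Scheme.Modules.pullbackPushforwardAdjunction q).homEquiv E L).injective
    exact (homEquiv_eq_vOf G r hr.hq τ).trans hvOf.symm
  · have h1 : vOf G r' hr' τ' = v := (homEquiv_eq_vOf G r' hr' τ').symm.trans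
      (congrArg ((Scheme.Modules.pullbackPushforwardAdjunction q).homEquiv E L) h')
    refine IsMapFor.eq (G := G) hv ?_ hr
    rw [← h1]
    exact isMapFor_vOf G r' hr' τ'

end Groth.Agent.Lib.SymAlg.PE
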