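import Groth.Agent.Lib.SymAlg.PE.Away
import Groth.Agent.Lib.SymAlg.Frame
import Groth.Agent.H58VA.RelLocus
import Groth.Agent.H81.RelProj.RelTwist
import Groth.Agent.Lib.TensorMod.GenLocal

/-!
# A relative Proj generated in degree one with its `O(1)`: charts `D₊(g)` and canonical sections
-/

noncomputable section

set_option autoImplicit false
universe u

open CategoryTheory CategoryTheory.Limits AlgebraicGeometry Opposite TopologicalSpace
open scoped HomogeneousIdeal

namespace Groth.Agent.Lib.SymAlg.PE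

theorem appLE_top_top {X Y : Scheme.{u}} (f : X ⟶ Y) (e : (⊤ : X.Opens) ≤ f ⁻¹ᵁ ⊤) :
    f.appLE ⊤ ⊤ e = f.appTop := by
  simp [Scheme.Hom.appLE, Scheme.Hom.appTop]

open Groth.Agent.Lib Groth.Agent.H58VA TensorMod TensorMod.Dual TensorMod.Gen TensorMod.HomGlue

/-- A relative Proj of an algebra generated in degree one, with its `O(1)`. -/
structure Tw (S : Scheme.{u}) where
  /-- the algebra -/
  alg : RelProj.QCGrAlg S
  gen : alg.IsGenDegOne
  /-- the total space -/
  P : Scheme.{u}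
  /-- the projection -/
  p : P ⟶ S
  /-- the charts -/
  chart : ∀ (U : S.Opens) (hU : IsAffineOpen U), ((p ⁻¹ᵁ U : P.Opens) : Scheme.{u}) ≅ Proj (alg.deg U hU)
  hP : RelProj.IsRelProj alg p chart
  /-- `O(1)` -/
  O1 : P.Modules
  /-- its identifications -/
  lam : ∀ (U : S.Opens) (hU : IsAffineOpen U),
    O1 ⟶ (Scheme.Modules.pushforward (RelProj.emb p chart U hU)).obj (GrTwist.twist (alg.deg U hU) 1)
  hO : RelProj.IsRelTwist alg p chart 1 O1 lam

variable {S : Scheme.{u}}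

/-- `Proj` of an algebra generated in degree one, constructed. -/
def Tw.ofAlg (𝒮 : RelProj.QCGrAlg S) (h : 𝒮.IsGenDegOne) : Tw S where
  alg := 𝒮
  gen := h
  P := (Groth.Agent.H81.RelProj.Exists.glueData 𝒮).glued
  p := (Groth.Agent.H81.RelProj.Exists.glueData 𝒮).toBase
  chart := Groth.Agent.H81.RelProj.Exists.chart 𝒮
  hP := Groth.Agent.H81.RelProj.Exists.isRelProj 𝒮
  O1 := (Groth.Agent.H81.RelProj.RelTwist.exists_isRelTwist
    (Groth.Agent.H81.RelProj.Exists.isRelProj 𝒮) 1).choose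
  lam := (Groth.Agent.H81.RelProj.RelTwist.exists_isRelTwist
    (Groth.Agent.H81.RelProj.Exists.isRelProj 𝒮) 1).choose_spec.choose
  hO := (Groth.Agent.H81.RelProj.RelTwist.exists_isRelTwist
    (Groth.Agent.H81.RelProj.Exists.isRelProj 𝒮) 1).choose_spec.choose_spec

variable (B : Tw S) {U : S.Opens} (hU : IsAffineOpen U)

/-- The ring over an affine open. -/
abbrev Tw.R (U : S.Opens) : Type u := B.alg.presheaf.obj (op U)

/-- The chart immersion. -/
abbrev Tw.e : Proj (B.alg.deg U hU) ⟶ B.P := RelProj.emb B.p B.chart U hU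

/-- The open `D₊(g)` of `P`. -/
def Tw.D (g : B.R U) : B.P.Opens := B.e hU ''ᵁ Proj.basicOpen (B.alg.deg U hU) g

theorem Tw.D_le (g : B.R U) : B.D hU g ≤ B.p ⁻¹ᵁ U := Frame.image_le hU _

theorem Tw.preimage_D (g : B.R U) : B.e hU ⁻¹ᵁ B.D hU g = Proj.basicOpen (B.alg.deg U hU) g :=
  (B.e hU).preimage_image_eq _

theorem Tw.isAffineOpen_D {g : B.R U} (hg : g ∈ B.alg.deg U hU 1) : IsAffineOpen (B.D hU g) :=
  (Proj.isAffineOpen_basicOpen _ g hg one_pos).image_of_isOpenImmersion _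

theorem Tw.exists_mem_D {x : B.P} (hx : B.p x ∈ U) :
    ∃ g ∈ B.alg.deg U hU 1, x ∈ B.D hU g := by
  obtain ⟨y, rfl⟩ := Frame.exists_point (chart := B.chart) hU hx
  obtain ⟨g, hg, hgy⟩ := RelLocus.exists_notMem_of_isGenDegOne B.gen hU 1 y
  exact ⟨g, hg, y, hgy, rfl⟩

/-- Restriction of functions from `D₊(g)` to the chart. -/
def Tw.toBasic (g : B.R U) : Γ(B.P, B.D hU g) ⟶ Γ(Proj (B.alg.deg U hU), Proj.basicOpen (B.alg.deg U hU) g) :=
  (B.e hU).appLE _ _ (B.preimage_D hU g).ge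

theorem Tw.isIso_toBasic (g : B.R U) : IsIso (B.toBasic hU g) := by
  have h1 : IsIso ((B.e hU).app (B.D hU g)) := (B.e hU).isIso_app _ (by
    rw [Tw.D]
    exact Scheme.Hom.image_le_opensRange _ _)
  rw [Tw.toBasic, Scheme.Hom.appLE]
  have h2 : IsIso ((Proj (B.alg.deg U hU)).presheaf.map (homOfLE (B.preimage_D hU g).ge).op) := by
    have : IsIso (homOfLE (B.preimage_D hU g).ge) := ⟨homOfLE (B.preimage_D hU g).le, rfl, rfl⟩
    infer_instance
  infer_instance

variable {hU} {g : B.R U} (hg : g ∈ B.alg.deg U hU 1)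

/-- The function `b / g` on `D₊(g)`. -/
def Tw.frac {b : B.R U} (hb : b ∈ B.alg.deg U hU 1) : Γ(B.P, B.D hU g) :=
  haveI := B.isIso_toBasic hU g
  inv (B.toBasic hU g) (Proj.awayToSection (B.alg.deg U hU) g (Away.frac (B.alg.deg U hU) hg hb))

theorem Tw.toBasic_frac {b : B.R U} (hb : b ∈ B.alg.deg U hU 1) :
    B.toBasic hU g (B.frac hg hb) = Proj.awayToSection (B.alg.deg U hU) g (Away.frac (B.alg.deg U hU) hg hb) := by
  haveI := B.isIso_toBasic hU g
  rw [Tw.frac, ← ConcreteCategory.comp_apply, IsIso.inv_hom_id]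
  rfl

include hg in
theorem Tw.awayToSection_bijective : Function.Bijective (Proj.awayToSection (B.alg.deg U hU) g) := by
  have h := ConcreteCategory.bijective_of_isIso (Proj.basicOpenIsoAway (B.alg.deg U hU) g hg one_pos).hom
  rwa [Proj.basicOpenIsoAway_hom] at h

/-- The functions on `D₊(g)` are generated by the `b / g`. -/
theorem Tw.closure_frac :
    Subring.closure (Set.range fun b : B.alg.deg U hU 1 => B.frac hg b.2) = ⊤ := by
  haveI := B.isIso_toBasic hU g
  let φ : HomogeneousLocalization.Away (B.alg.deg U hU) g →+* Γ(B.P, B.D hU g) :=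
    (Proj.awayToSection (B.alg.deg U hU) g ≫ inv (B.toBasic hU g)).hom
  have hφ : Function.Surjective φ :=
    (ConcreteCategory.bijective_of_isIso (inv (B.toBasic hU g))).2.comp (B.awayToSection_bijective hg).2
  have := congrArg (Subring.map φ) (Away.closure_frac (B.alg.deg U hU) (B.gen U hU) hg)
  rw [RingHom.map_closure, ← Set.range_comp] at this
  refine this.trans ?_
  rw [← RingHom.range_eq_map]
  exact RingHom.range_eq_top.2 hφ

/-- `r : Γ(U)` read on `A_(g)`. -/
def Tw.ρ (g : B.R U) : Γ(S, U) ⟶ CommRingCat.of (HomogeneousLocalization.Away (B.alg.deg U hU) g) :=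
  B.alg.strZero U hU ≫ CommRingCat.ofHom (HomogeneousLocalization.fromZeroRingHom (B.alg.deg U hU) (Submonoid.powers g))

theorem Tw.toBasic_appLE (hg : g ∈ B.alg.deg U hU 1) (r : Γ(S, U)) :
    B.toBasic hU g (B.p.appLE U (B.D hU g) (B.D_le hU g) r) =
      Proj.awayToSection (B.alg.deg U hU) g (B.ρ (hU := hU) g r) := by
  let a := Proj.awayι (B.alg.deg U hU) g hg one_pos
  have hae : a ≫ B.e hU ≫ B.p = Spec.map (B.ρ (hU := hU) g) ≫ hU.fromSpec := by
    simp only [Tw.e, RelProj.emb, Category.assoc]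
    rw [← B.hP.chart_over U hU, Iso.inv_hom_id_assoc]
    rw [← Category.assoc a, Proj.awayι_toSpecZero, ← Spec.map_comp_assoc]
    rfl
  have hab : (⊤ : (Spec (CommRingCat.of (HomogeneousLocalization.Away (B.alg.deg U hU) g))).Opens) ≤
      a ⁻¹ᵁ Proj.basicOpen (B.alg.deg U hU) g := by
    rw [← Proj.opensRange_awayι (B.alg.deg U hU) g hg one_pos, Scheme.Hom.preimage_opensRange]
  have hsec : Proj.awayToSection (B.alg.deg U hU) g ≫ a.appLE _ ⊤ hab ≫ (Scheme.ΓSpecIso _).hom = 𝟙 _ := by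
    let iso := Proj.basicOpenIsoSpec (B.alg.deg U hU) g hg one_pos
    have h1 : iso.hom.appTop = (Scheme.ΓSpecIso _).hom ≫ Proj.awayToSection (B.alg.deg U hU) g ≫
        (Proj.basicOpen (B.alg.deg U hU) g).topIso.inv := Proj.basicOpenToSpec_app_top (B.alg.deg U hU) g
    have h2 : a.appLE _ ⊤ hab = (Proj.basicOpen (B.alg.deg U hU) g).topIso.inv ≫ iso.inv.appTop := by
      have e' : (⊤ : ((Proj.basicOpen (B.alg.deg U hU) g : (Proj (B.alg.deg U hU)).Opens) : Scheme.{u}).Opens) ≤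
          (Proj.basicOpen (B.alg.deg U hU) g).ι ⁻¹ᵁ Proj.basicOpen (B.alg.deg U hU) g := by
        rw [Scheme.Opens.ι_preimage_self]
      change (iso.inv ≫ (Proj.basicOpen (B.alg.deg U hU) g).ι).appLE _ ⊤ _ = _
      rw [← Scheme.Hom.appLE_comp_appLE iso.inv (Proj.basicOpen (B.alg.deg U hU) g).ι _ ⊤ ⊤ e' le_top,
        appLE_top_top]
      congr 1
    rw [← Iso.inv_comp_eq] at h1
    rw [h2]
    simp only [Category.assoc]
    rw [← reassoc_of% h1, ← Scheme.Hom.comp_appTop_assoc, iso.inv_hom_id]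
    simp
  have e1 : (⊤ : (Spec (CommRingCat.of (HomogeneousLocalization.Away (B.alg.deg U hU) g))).Opens) ≤
      (a ≫ B.e hU ≫ B.p) ⁻¹ᵁ U := by
    rw [hae, Scheme.Hom.comp_preimage, hU.fromSpec_preimage_self]
    exact le_top
  have hval : (a ≫ B.e hU ≫ B.p).appLE U ⊤ e1 ≫ (Scheme.ΓSpecIso _).hom = B.ρ (hU := hU) g := by
    have e2 : (⊤ : (Spec (CommRingCat.of (HomogeneousLocalization.Away (B.alg.deg U hU) g))).Opens) ≤
        (Spec.map (B.ρ (hU := hU) g) ≫ hU.fromSpec) ⁻¹ᵁ U := by rwa [← hae]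
    have h3 : (a ≫ B.e hU ≫ B.p).appLE U ⊤ e1 = (Spec.map (B.ρ (hU := hU) g) ≫ hU.fromSpec).appLE U ⊤ e2 := by
      congr 1
    have e3 : (⊤ : (Spec Γ(S, U)).Opens) ≤ hU.fromSpec ⁻¹ᵁ U := by rw [hU.fromSpec_preimage_self]
    rw [h3, ← Scheme.Hom.appLE_comp_appLE _ _ U ⊤ ⊤ e3 le_top, appLE_top_top]
    have h4 : hU.fromSpec.appLE U ⊤ e3 = (Scheme.ΓSpecIso Γ(S, U)).inv := by
      rw [Scheme.Hom.appLE, hU.fromSpec_app_self, Category.assoc, ← Functor.map_comp]
      convert Category.comp_id _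
      exact (Spec Γ(S, U)).presheaf.map_id _
    rw [h4, Category.assoc]
    change (Scheme.ΓSpecIso Γ(S, U)).inv ≫ (Spec.map (B.ρ (hU := hU) g)).appTop ≫ _ = _
    rw [Scheme.ΓSpecIso_naturality, Iso.inv_hom_id_assoc]
  rw [← Scheme.Hom.appLE_comp_appLE a (B.e hU ≫ B.p) U (Proj.basicOpen (B.alg.deg U hU) g) ⊤
      ((B.preimage_D hU g).ge.trans ((B.e hU).preimage_mono (B.D_le hU g))) hab,
    ← Scheme.Hom.appLE_comp_appLE (B.e hU) B.p U (B.D hU g) _ (B.D_le hU g) (B.preimage_D hU g).ge] at hval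
  have hb : Function.Bijective (a.appLE _ ⊤ hab ≫ (Scheme.ΓSpecIso _).hom) := by
    have h := congrArg CommRingCat.Hom.hom hsec
    refine (Function.Bijective.of_comp_iff _ (B.awayToSection_bijective hg)).1 ?_
    exact (iff_of_eq (congrArg Function.Bijective (funext fun x => (DFunLike.congr_fun h x)))).2
      Function.bijective_id
  refine hb.1 ?_
  have h5 := DFunLike.congr_fun (congrArg CommRingCat.Hom.hom hval) r
  have h6 := DFunLike.congr_fun (congrArg CommRingCat.Hom.hom hsec) (B.ρ (hU := hU) g r)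
  exact h5.trans h6.symm

end Groth.Agent.Lib.SymAlg.PE
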