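import Groth.Agent.Lib.SymAlg.PE.Class

/-!
# Existence of the morphism into `P(E)` given by generating sections
-/

noncomputable section

set_option autoImplicit false
universe u

open CategoryTheory CategoryTheory.Limits AlgebraicGeometry Opposite TopologicalSpace
open scoped HomogeneousIdeal

namespace Groth.Agent.Lib.SymAlg.PE

open Groth.Agent.Lib TensorMod TensorMod.Dual TensorMod.Gen TensorMod.HomGlue TensorMod.Pullback
open Groth.Agent.Lib.QCAlgSub.Basic (jm)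

variable {S X : Scheme.{u}} {B : Tw S}

theorem ev_smul {q : X ⟶ S} {E : S.Modules} {L : X.Modules} (v : E ⟶ (Scheme.Modules.pushforward q).obj L)
    (U : S.Opens) (r : Γ(S, U)) (e : Γ(E, U)) : ev v U (r • e) = q.app U r • ev v U e :=
  v.app_smul r e

theorem rf_app (q : X ⟶ S) {U : S.Opens} {V : X.Opens} (h : V ≤ q ⁻¹ᵁ U) (r : Γ(S, U)) :
    rf h (q.app U r) = q.appLE U V h r := rfl

variable {E : S.Modules} {hE : Coh.IsQCoh E} {j : E ⟶ B.alg.toModule} (hj : RelProj.IsGrSymAlg E B.alg j)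
  {q : X ⟶ S} {L : X.Modules} (v : E ⟶ (Scheme.Modules.pushforward q).obj L)

include hE hj in
/-- The piece of the morphism on the locus of one section. -/
theorem exists_piece {U : S.Opens} (hU : IsAffineOpen U) (e : Γ(E, U)) :
    ∃ m : (gloc (ev v U e) : Scheme.{u}) ⟶ B.P, m ≫ B.p = (gloc (ev v U e)).ι ≫ q ∧
      Fit (Tw.Gens.ofSym B hE hj) m hU e (fun e' => ratio (ev v U e) (ev v U e')) := by
  haveI : E.IsQuasicoherent := hE
  set T := gloc (ev v U e)
  let G := Tw.Gens.ofSym B hE hj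
  letI : Algebra Γ(S, U) (B.R U) := Unique.algInst B.alg.toQCAlg U
  letI : Algebra Γ(S, U) Γ(X, T) := (q.appLE U T (gloc_le _)).hom.toAlgebra
  let lin : Γ(E, U) →ₗ[Γ(S, U)] Γ(X, T) :=
    { toFun := fun e' => ratio (ev v U e) (ev v U e')
      map_add' := fun a b => (congrArg (ratio (ev v U e)) (map_add (v.app U).hom a b)).trans (ratio_add _ _ _)
      map_smul' := fun r a => (congrArg (ratio (ev v U e)) (ev_smul v U r a)).trans (ratio_smul _ _ _) }
  have hsym := Unique.isSymmetricAlgebra hj.1 hU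
  let F : B.R U →ₐ[Γ(S, U)] Γ(X, T) := hsym.lift lin
  have hFj : ∀ e', F (jm B.alg.toQCAlg j U e') = ratio (ev v U e) (ev v U e') := fun e' =>
    IsSymmetricAlgebra.lift_eq hsym lin e'
  have hFr : ∀ r, F ((B.alg.str.app (op U)).hom r) = q.appLE U T (gloc_le _) r := fun r => F.commutes r
  let g : B.R U := G.g U e
  have hg : g ∈ B.alg.deg U hU 1 := G.mem U hU e
  have hFg : F g = 1 := (hFj e).trans (ratio_self _)
  let F' : Localization.Away g →+* Γ(X, T) :=
    IsLocalization.Away.lift g (g := F.toRingHom) (show IsUnit (F g) by rw [hFg]; exact isUnit_one)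
  let ψ : HomogeneousLocalization.Away (B.alg.deg U hU) g →+* Γ(X, T) :=
    F'.comp (algebraMap _ (Localization.Away g))
  have hψ : ∀ b (hb : b ∈ B.alg.deg U hU 1), ψ (Away.frac _ hg hb) = F b := fun b hb => by
    have h1 : F' (algebraMap _ _ b) = F b := IsLocalization.Away.lift_eq g _ b
    have h2 : F' (algebraMap _ _ g) = 1 := (IsLocalization.Away.lift_eq g _ g).trans hFg
    change F' (Away.frac _ hg hb).val = _
    rw [Away.val_frac, ← h1]
    have h3 : Localization.mk b (⟨g, 1, pow_one g⟩ : Submonoid.powers g) *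
        algebraMap (B.R U) (Localization.Away g) g = algebraMap _ _ b := by
      rw [← Localization.mk_one_eq_algebraMap, ← Localization.mk_one_eq_algebraMap, Localization.mk_mul,
        Localization.mk_eq_mk_iff, Localization.r_iff_exists]
      exact ⟨1, by simp [mul_comm]⟩
    have h4 := congrArg F' h3
    rwa [map_mul, h2, mul_one] at h4
  have hψr : ∀ r : Γ(S, U), ψ (B.ρ (hU := hU) g r) = q.appLE U T (gloc_le _) r := fun r => by
    rw [← hFr]
    exact IsLocalization.Away.lift_eq (S := Localization.Away g) g (g := F.toRingHom)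
      (show IsUnit (F g) by rw [hFg]; exact isUnit_one) _
  haveI := B.isIso_toBasic hU g
  let eA := RingEquiv.ofBijective _ (B.awayToSection_bijective hg)
  let φ : Γ(B.P, B.D hU g) ⟶ Γ(X, T) :=
    B.toBasic hU g ≫ CommRingCat.ofHom (ψ.comp eA.symm.toRingHom)
  have hφ : ∀ z w, B.toBasic hU g z = Proj.awayToSection (B.alg.deg U hU) g w → φ z = ψ w := fun z w h => by
    change ψ (eA.symm (B.toBasic hU g z)) = _
    rw [h]
    exact congrArg ψ (eA.symm_apply_apply w)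
  have hD := B.isAffineOpen_D hU hg
  let m : (T : Scheme.{u}) ⟶ B.P := toSpec T φ ≫ hD.fromSpec
  have hm : (⊤ : (T : Scheme.{u}).Opens) ≤ m ⁻¹ᵁ B.D hU g := top_le_toSpec hD φ
  refine ⟨m, ?_, hm, fun e' => ?_⟩
  · have h1 : (⊤ : (T : Scheme.{u}).Opens) ≤ (m ≫ B.p) ⁻¹ᵁ U := hm.trans (m.preimage_mono (B.D_le hU g))
    have h2 : (⊤ : (T : Scheme.{u}).Opens) ≤ (T.ι ≫ q) ⁻¹ᵁ U := fun x _ => gloc_le (ev v U e) x.2
    rw [← eq_toSpec (m ≫ B.p) hU h1, ← eq_toSpec (T.ι ≫ q) hU h2]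
    congr 2
    rw [valOn_ι q (gloc_le _) h2, valOn_comp m B.p (B.D_le hU g) hm h1, valOn_toSpec]
    refine CommRingCat.hom_ext (RingHom.ext fun r => ?_)
    exact (hφ _ _ (B.toBasic_appLE hg r)).trans (hψr r)
  · rw [valOn_toSpec hD φ hm]
    exact (hφ _ _ (B.toBasic_frac _ _)).trans ((hψ _ _).trans (hFj e'))

theorem ratio_res {E : S.Modules} (v : E ⟶ (Scheme.Modules.pushforward q).obj L) {U W : S.Opens} (i : W ≤ U)
    (e e' : Γ(E, U)) {O : X.Opens} (h : O ≤ gloc (ev v U e)) (h' : O ≤ gloc (ev v W (rs E i e))) :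
    rf h' (ratio (ev v W (rs E i e)) (ev v W (rs E i e'))) = rf h (ratio (ev v U e) (ev v U e')) := by
  refine ratio_unique_on h' ?_
  have h1 := congrArg (rs L h) (ratio_spec (ev v U e) (ev v U e'))
  rw [rs_smul, rs_rs, rs_rs] at h1
  have h2 : ∀ (f : Γ(E, U)) (p : O ≤ q ⁻¹ᵁ W), rs L p (ev v W (rs E i f)) =
      rs L (p.trans (q.preimage_mono i)) (ev v U f) := fun f p => by rw [← ev_rs v i f, rs_rs]
  rw [h2 e, h2 e']
  exact h1

theorem gloc_ev_rs {E : S.Modules} (v : E ⟶ (Scheme.Modules.pushforward q).obj L) {U W : S.Opens} (i : W ≤ U)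
    (e : Γ(E, U)) : gloc (ev v W (rs E i e)) = gloc (ev v U e) ⊓ q ⁻¹ᵁ W := by
  rw [← ev_rs v i e, gloc_rs]

variable (hE) in
/-- The piece of the morphism. -/
def piece {U : S.Opens} (hU : IsAffineOpen U) (e : Γ(E, U)) : (gloc (ev v U e) : Scheme.{u}) ⟶ B.P :=
  (exists_piece (hE := hE) hj v hU e).choose

theorem piece_p {U : S.Opens} (hU : IsAffineOpen U) (e : Γ(E, U)) :
    piece hE hj v hU e ≫ B.p = (gloc (ev v U e)).ι ≫ q :=
  (exists_piece (hE := hE) hj v hU e).choose_spec.1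

theorem piece_fit {U : S.Opens} (hU : IsAffineOpen U) (e : Γ(E, U)) :
    Fit (Tw.Gens.ofSym B hE hj) (piece hE hj v hU e) hU e (fun e' => ratio (ev v U e) (ev v U e')) :=
  (exists_piece (hE := hE) hj v hU e).choose_spec.2

theorem piece_res {U W : S.Opens} (hU : IsAffineOpen U) (hW : IsAffineOpen W) (i : W ≤ U) (e : Γ(E, U))
    (O : X.Opens) (h : O ≤ gloc (ev v U e)) (h' : O ≤ gloc (ev v W (rs E i e))) :
    X.homOfLE h ≫ piece hE hj v hU e = X.homOfLE h' ≫ piece hE hj v hW (rs E i e) := by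
  have A := (piece_fit (hE := hE) hj v hU e).homOfLE h
  have A' := ((piece_fit (hE := hE) hj v hW (rs E i e)).homOfLE h').of_res (hU := hU) i
  exact A.eq (A'.congr fun e' => ratio_res v i e e' h h')

theorem piece_change {U : S.Opens} (hU : IsAffineOpen U) (e e₂ : Γ(E, U)) (O : X.Opens)
    (h : O ≤ gloc (ev v U e)) (h' : O ≤ gloc (ev v U e₂)) :
    X.homOfLE h ≫ piece hE hj v hU e = X.homOfLE h' ≫ piece hE hj v hU e₂ := by
  have A := (piece_fit (hE := hE) hj v hU e).homOfLE h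
  have A' := (piece_fit (hE := hE) hj v hU e₂).homOfLE h'
  refine Fit.eq (Fit.change (G := Tw.Gens.ofSym B hE hj) (hU := hU) A (e₂ := e₂)
    (a₂ := fun e' => rf h' (ratio (ev v U e₂) (ev v U e'))) ?_ ?_) A'
  · beta_reduce
    exact isUnit_ratio (m := ev v U e) (m' := ev v U e₂) h h'
  · intro e'
    beta_reduce
    exact ratio_mul (m := ev v U e) (m' := ev v U e₂) (n := ev v U e') h h'

theorem hom_ext_local {P : Scheme.{u}} {O : X.Opens} {f g : (O : Scheme.{u}) ⟶ P}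
    (h : ∀ x ∈ O, ∃ (O' : X.Opens) (i : O' ≤ O), x ∈ O' ∧ X.homOfLE i ≫ f = X.homOfLE i ≫ g) : f = g := by
  choose O' i hx he using h
  refine Scheme.Cover.hom_ext ((O : Scheme.{u}).openCoverOfIsOpenCover
    (fun x : O => (X.homOfLE (i x.1 x.2)).opensRange) (TopologicalSpace.IsOpenCover.mk ?_)) _ _ fun x => ?_
  · exact top_le_iff.1 fun x _ => Opens.mem_iSup.2 ⟨x, ⟨x.1, hx x.1 x.2⟩, Subtype.ext (Scheme.homOfLE_apply _ _)⟩
  · change (X.homOfLE (i x.1 x.2)).opensRange.ι ≫ f = (X.homOfLE (i x.1 x.2)).opensRange.ι ≫ g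
    rw [← cancel_epi (X.homOfLE (i x.1 x.2)).isoOpensRange.hom, ← Category.assoc, ← Category.assoc,
      Scheme.Hom.isoOpensRange_hom_ι]
    exact he x.1 x.2

theorem piece_compat {U U' : S.Opens} (hU : IsAffineOpen U) (hU' : IsAffineOpen U') (e : Γ(E, U)) (e' : Γ(E, U')) :
    X.homOfLE (inf_le_left : gloc (ev v U e) ⊓ gloc (ev v U' e') ≤ gloc (ev v U e)) ≫ piece hE hj v hU e =
      X.homOfLE (inf_le_right : gloc (ev v U e) ⊓ gloc (ev v U' e') ≤ gloc (ev v U' e')) ≫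
        piece hE hj v hU' e' := by
  refine hom_ext_local fun x hx => ?_
  obtain ⟨W, hW, hxW, hWle⟩ := exists_isAffineOpen_mem_and_subset (x := q x) (U := U ⊓ U')
    ⟨gloc_le (ev v U e) hx.1, gloc_le (ev v U' e') hx.2⟩
  let O' : X.Opens := (gloc (ev v U e) ⊓ gloc (ev v U' e')) ⊓ q ⁻¹ᵁ W
  have iW : W ≤ U := hWle.trans inf_le_left
  have iW' : W ≤ U' := hWle.trans inf_le_right
  have h1 : O' ≤ gloc (ev v W (rs E iW e)) := by
    rw [gloc_ev_rs]
    exact le_inf (inf_le_left.trans inf_le_left) inf_le_right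
  have h2 : O' ≤ gloc (ev v W (rs E iW' e')) := by
    rw [gloc_ev_rs]
    exact le_inf (inf_le_left.trans inf_le_right) inf_le_right
  refine ⟨O', inf_le_left, ⟨hx, hxW⟩, ?_⟩
  rw [← Category.assoc, ← Category.assoc, X.homOfLE_homOfLE, X.homOfLE_homOfLE]
  exact (piece_res hj v hU hW iW e O' _ h1).trans
    ((piece_change hj v hW _ _ O' h1 h2).trans (piece_res hj v hU' hW iW' e' O' _ h2).symm)

include hE hj in
theorem exists_isMapFor (hv : Generates v) : ∃ r : X ⟶ B.P, IsMapFor (Tw.Gens.ofSym B hE hj) v r := by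
  let ι : Type u := Σ U : S.affineOpens, Γ(E, U.1)
  let T : ι → X.Opens := fun i => gloc (ev v i.1.1 i.2)
  let m : ∀ i : ι, (T i : Scheme.{u}) ⟶ B.P := fun i => piece hE hj v i.1.2 i.2
  have hm : ∀ i : ι, m i ≫ B.p = (T i).ι ≫ q := fun i => piece_p hj v i.1.2 i.2
  have hfit : ∀ i : ι, Fit (Tw.Gens.ofSym B hE hj) (m i) i.1.2 i.2
      (fun e' => ratio (ev v i.1.1 i.2) (ev v i.1.1 e')) := fun i => piece_fit hj v i.1.2 i.2
  have compat : ∀ i i' : ι, X.homOfLE (inf_le_left : T i ⊓ T i' ≤ T i) ≫ m i =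
      X.homOfLE (inf_le_right : T i ⊓ T i' ≤ T i') ≫ m i' :=
    fun i i' => piece_compat hj v i.1.2 i'.1.2 i.2 i'.2
  have hcov : TopologicalSpace.IsOpenCover T := TopologicalSpace.IsOpenCover.mk (top_le_iff.1 fun x _ => by
    obtain ⟨U, hU, e, hx⟩ := hv x
    exact Opens.mem_iSup.2 ⟨⟨⟨U, hU⟩, e⟩, hx⟩)
  let 𝒰 := X.openCoverOfIsOpenCover T hcov
  let r : X ⟶ B.P := 𝒰.glueMorphisms m fun i i' => by
    change pullback.fst (T i).ι (T i').ι ≫ m i = pullback.snd (T i).ι (T i').ι ≫ m i'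
    have hp : IsPullback (X.homOfLE (inf_le_left : T i ⊓ T i' ≤ T i)) (X.homOfLE (inf_le_right : T i ⊓ T i' ≤ T i'))
        (T i).ι (T i').ι := isPullback_opens_inf _ _
    rw [← cancel_epi hp.isoPullback.hom, IsPullback.isoPullback_hom_fst_assoc, IsPullback.isoPullback_hom_snd_assoc]
    exact compat i i'
  have hr : ∀ i, (T i).ι ≫ r = m i := fun i => 𝒰.ι_glueMorphisms m _ i
  have hle : ∀ (U : S.Opens) (hU : IsAffineOpen U) (e : Γ(E, U)),
      gloc (ev v U e) ≤ r ⁻¹ᵁ B.D hU ((Tw.Gens.ofSym B hE hj).g U e) := fun U hU e x hx => by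
    obtain ⟨h1, -⟩ := hfit ⟨⟨U, hU⟩, e⟩
    have h2 := congrArg (fun f => f ⟨x, hx⟩) (hr ⟨⟨U, hU⟩, e⟩)
    change r x ∈ B.D hU ((Tw.Gens.ofSym B hE hj).g U e)
    rw [show r x = m ⟨⟨U, hU⟩, e⟩ ⟨x, hx⟩ from h2]
    exact h1 (trivial : (⟨x, hx⟩ : ↥(gloc (ev v U e))) ∈ (⊤ : (gloc (ev v U e) : Scheme.{u}).Opens))
  refine ⟨r, ?_, hle, fun U hU e e' => ?_⟩
  · refine 𝒰.hom_ext _ _ fun i => ?_
    change (T i).ι ≫ r ≫ B.p = (T i).ι ≫ q
    rw [← Category.assoc, hr]
    exact hm i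
  · obtain ⟨h1, h2⟩ := hfit ⟨⟨U, hU⟩, e⟩
    refine Eq.trans ?_ (h2 e')
    have h3 : (⊤ : (gloc (ev v U e) : Scheme.{u}).Opens) ≤
        ((gloc (ev v U e)).ι ≫ r) ⁻¹ᵁ B.D hU ((Tw.Gens.ofSym B hE hj).g U e) := fun x _ => hle U hU e x.2
    refine (congrArg (fun φ => φ ((Tw.Gens.ofSym B hE hj).fr hU e e')) (valOn_ι r (hle U hU e) h3)).symm.trans ?_
    have key : ∀ (f g : (gloc (ev v U e) : Scheme.{u}) ⟶ B.P) (hf : _) (hg : _), f = g →
        valOn f (B.D hU ((Tw.Gens.ofSym B hE hj).g U e)) hf = valOn g (B.D hU ((Tw.Gens.ofSym B hE hj).g U e)) hg := by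
      rintro f g hf hg rfl
      rfl
    exact congrArg (fun φ => φ ((Tw.Gens.ofSym B hE hj).fr hU e e')) (key _ _ h3 h1 (hr ⟨⟨U, hU⟩, e⟩))

end Groth.Agent.Lib.SymAlg.PE
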