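import Groth.Agent.Lib.SymAlg.PE.Pn
import Groth.Agent.Lib.ProjMor.Conv

/-!
# Eventual relative very ampleness of powers of a relatively ample module
-/

noncomputable section

set_option autoImplicit false
universe u

open CategoryTheory CategoryTheory.Limits AlgebraicGeometry Opposite TopologicalSpace

namespace Groth.Agent.Lib.SymAlg.PE

open Groth.Agent.Lib TensorMod TensorMod.Basic TensorMod.Pullback

theorem isRelVeryAmple_of_pn {X S : Scheme.{u}} {f : X ⟶ S} [QuasiCompact f] {L : X.Modules}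
    (hL : PicF.IsInvertible L) (h : RelAmple.IsRelVeryAmplePn f L) : RelProj.IsRelVeryAmple f L := by
  obtain ⟨n, i, hi, hif, e⟩ := h
  have : IsSeparated (pullback.snd (CohB1.ProjSpace.toSpec n (ULift.{u} ℤ)) (specULiftZIsTerminal.from S)) := by
    have := ProjSpace.Basic.isProper_toSpec n (ULift.{u} ℤ)
    exact MorphismProperty.pullback_snd (P := @IsSeparated) _ _ inferInstance
  have : IsSeparated f := by
    rw [← hif]
    have : IsSeparated i := inferInstance
    exact MorphismProperty.comp_mem @IsSeparated i _ ‹_› ‹_›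
  exact isRelVeryAmple_of_crit (isQCoh_push hL) (𝟙 _) (crit_push_of_pn ⟨n, i, hi, hif, e⟩)

theorem eventually_isRelVeryAmple {X Y : Scheme.{u}} [CompactSpace Y] (f : X ⟶ Y) [QuasiCompact f]
    [LocallyOfFiniteType f] (L L' : X.Modules) (hL : PicF.IsInvertible L) (hL' : PicF.IsInvertible L')
    (h : _root_.RelAmple.IsRelAmple f L) :
    ∃ n₀ : ℕ, ∀ n : ℕ, n₀ ≤ n → RelProj.IsRelVeryAmple f (CohB1.tensorMod (CohB1.tensorPow L n) L') := by
  classical
  have hloc : ∀ z : Y, ∃ W : Y.Opens, z ∈ W ∧ ∃ n₀ : ℕ, ∀ n, n₀ ≤ n →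
      RelProj.IsRelVeryAmple (f ∣_ W) ((CohB1.tensorMod (CohB1.tensorPow L n) L').restrict (f ⁻¹ᵁ W).ι) := fun z => by
    obtain ⟨W, hW, hzW, -⟩ := exists_isAffineOpen_mem_and_subset (x := z) (U := (⊤ : Y.Opens)) trivial
    have : IsAffine (W : Scheme.{u}) := hW
    have hA : CohB1.IsAmple ((pb (f ⁻¹ᵁ W).ι).obj L) := ((Ample.RelAmple.isRelAmple_iff f).1 h).2 W hW
    have := Ample.Pullback.quasiSeparatedSpace_of_isAmple hA
    obtain ⟨n₀, hn⟩ := ProjMor.VeryAmple.eventually_veryAmple (f ∣_ W) hA (PicLoc.isInvertible_pullback (f ⁻¹ᵁ W).ι hL')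
    refine ⟨W, hzW, n₀, fun n hn' => ?_⟩
    let e : CohB1.tensorMod (CohB1.tensorPow ((pb (f ⁻¹ᵁ W).ι).obj L) n) ((pb (f ⁻¹ᵁ W).ι).obj L') ≅
        (CohB1.tensorMod (CohB1.tensorPow L n) L').restrict (f ⁻¹ᵁ W).ι :=
      tensorIso (Ample.Pow.pullbackPow (f ⁻¹ᵁ W).ι L n).symm (Iso.refl _) ≪≫
        (pullbackTensorIso (f ⁻¹ᵁ W).ι _ _).symm ≪≫
          ((Scheme.Modules.restrictFunctorIsoPullback (f ⁻¹ᵁ W).ι).app _).symm
    refine isRelVeryAmple_of_iso e (isRelVeryAmple_of_pn ?_ (hn n hn'))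
    exact Invertible.isInvertible_tensorMod (Invertible.isInvertible_tensorPow (PicLoc.isInvertible_pullback _ hL) n)
      (PicLoc.isInvertible_pullback _ hL')
  choose W hzW n₀ hn using hloc
  obtain ⟨T, hT⟩ := isCompact_univ.elim_finite_subcover (fun z => (W z : Set Y))
    (fun z => (W z).isOpen) fun z _ => Set.mem_iUnion.2 ⟨z, hzW z⟩
  refine ⟨T.sup n₀, fun n h => isRelVeryAmple_of_local
    (Invertible.isInvertible_tensorMod (Invertible.isInvertible_tensorPow hL n) hL') fun z => ?_⟩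
  obtain ⟨y, hy, hzy⟩ := Set.mem_iUnion₂.1 (hT (Set.mem_univ z))
  exact ⟨W y, hzy, hn y n ((Finset.le_sup (f := n₀) hy).trans h)⟩

end Groth.Agent.Lib.SymAlg.PE
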