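import Groth.Agent.Lib.SymAlg.PE.Tensor
import Groth.Agent.Lib.SymAlg.PE.Pn
import Groth.Agent.Lib.QCoh.Pullback

/-!
# External tensor products
-/

noncomputable section

set_option autoImplicit false
universe u

open CategoryTheory CategoryTheory.Limits AlgebraicGeometry Opposite TopologicalSpace

namespace Groth.Agent.Lib.SymAlg.PE

open Groth.Agent.Lib TensorMod TensorMod.Dual TensorMod.Gen TensorMod.HomGlue TensorMod.Pullback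
  TensorMod.Basic Ample.GenLocus

variable {X X' S S' : Scheme.{u}} {q : X ⟶ S} {L : X.Modules} {E : S.Modules}

/-- Data along a commutative square. -/
theorem exists_pullData (g : S' ⟶ S) (g' : X' ⟶ X) (q' : X' ⟶ S') (w : g' ≫ q = q' ≫ g)
    (v : E ⟶ (Scheme.Modules.pushforward q).obj L) :
    ∃ v' : (pb g).obj E ⟶ (Scheme.Modules.pushforward q').obj ((pb g').obj L),
      ∀ (U : S.Opens) (e : Γ(E, U)), ev v' (g ⁻¹ᵁ U) (unitSec g E e) =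
        rs ((pb g').obj L) (le_of_eq (congrArg (fun f : X' ⟶ S => f ⁻¹ᵁ U) w.symm)) (unitSec g' L (ev v U e)) := by
  let w' : E ⟶ (Scheme.Modules.pushforward g).obj ((Scheme.Modules.pushforward q').obj ((pb g').obj L)) :=
    v ≫ (Scheme.Modules.pushforward q).map ((pbAdj g').unit.app L) ≫
      (Scheme.Modules.pushforwardComp g' q).hom.app _ ≫ (Scheme.Modules.pushforwardCongr w).hom.app _ ≫
        (Scheme.Modules.pushforwardComp q' g).inv.app _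
  refine ⟨((pbAdj g).homEquiv _ _).symm w', fun U e => ?_⟩
  have h : (pbAdj g).unit.app E ≫ (Scheme.Modules.pushforward g).map (((pbAdj g).homEquiv _ _).symm w') = w' := by
    exact ((pbAdj g).homEquiv_unit ..).symm.trans (((pbAdj g).homEquiv _ _).apply_symm_apply w')
  refine (congrArg (fun t => t.app U e) h).trans ?_
  simp only [w', Scheme.Modules.Hom.comp_app, ConcreteCategory.comp_apply, Scheme.Modules.pushforwardComp_hom_app_app,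
    Scheme.Modules.pushforwardCongr_hom_app_app, Scheme.Modules.pushforwardComp_inv_app_app]
  rfl

theorem ratio_unitSec (g' : X' ⟶ X) {W : X.Opens} (m n : Γ(L, W)) {O : X'.Opens} (h : O ≤ g' ⁻¹ᵁ gloc m)
    (hO : O ≤ g' ⁻¹ᵁ W) :
    rs ((pb g').obj L) hO (unitSec g' L n) =
      g'.appLE (gloc m) O h (ratio m n) • rs ((pb g').obj L) hO (unitSec g' L m) := by
  have h1 := congrArg (fun z => rs ((pb g').obj L) h (unitSec g' L z)) (ratio_spec m n)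
  simp only [unitSec_smul, rs_smul, ← unitSec_rs g', rs_rs] at h1
  exact h1

theorem rs_ev {S₀ X₀ : Scheme.{u}} {q₀ : X₀ ⟶ S₀} {E₀ : S₀.Modules} {L₀ : X₀.Modules}
    (v : E₀ ⟶ (Scheme.Modules.pushforward q₀).obj L₀) {U W : S₀.Opens} (i : W ≤ U) (e : Γ(E₀, U)) {O : X₀.Opens}
    (h : O ≤ q₀ ⁻¹ᵁ W) : rs L₀ h (ev v W (rs E₀ i e)) = rs L₀ (h.trans (q₀.preimage_mono i)) (ev v U e) := by
  rw [← ev_rs v i e, rs_rs]

/-- External products of relatively very ample modules. -/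
theorem isRelVeryAmple_external {X₁ X₂ Y₁ Y₂ P Q Z : Scheme.{u}} {f₁ : X₁ ⟶ Y₁} {f₂ : X₂ ⟶ Y₂} (p₁ : P ⟶ X₁)
    (p₂ : P ⟶ X₂) {a : X₁ ⟶ Z} {b : X₂ ⟶ Z} (hP : IsPullback p₁ p₂ a b) (q₁ : Q ⟶ Y₁) (q₂ : Q ⟶ Y₂) (h : P ⟶ Q)
    (hh₁ : h ≫ q₁ = p₁ ≫ f₁) (hh₂ : h ≫ q₂ = p₂ ≫ f₂) {L₁ : X₁.Modules} (hL₁ : PicF.IsInvertible L₁)
    (hva₁ : RelProj.IsRelVeryAmple f₁ L₁) {L₂ : X₂.Modules} (hL₂ : PicF.IsInvertible L₂)
    (hva₂ : RelProj.IsRelVeryAmple f₂ L₂) :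
    RelProj.IsRelVeryAmple h (CohB1.tensorMod ((pb p₁).obj L₁) ((pb p₂).obj L₂)) := by
  obtain ⟨E₁, hE₁, v₁, hg₁, hI₁⟩ := exists_data hva₁
  obtain ⟨E₂, hE₂, v₂, hg₂, hI₂⟩ := exists_data hva₂
  obtain ⟨w₁, hw₁⟩ := exists_pullData q₁ p₁ h hh₁.symm v₁
  obtain ⟨w₂, hw₂⟩ := exists_pullData q₂ p₂ h hh₂.symm v₂
  have hiL₁ := PicLoc.isInvertible_pullback p₁ hL₁
  have hiL₂ := PicLoc.isInvertible_pullback p₂ hL₂
  have : E₁.IsQuasicoherent := hE₁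
  have : E₂.IsQuasicoherent := hE₂
  have : ((pb q₁).obj E₁).IsQuasicoherent := QCoh.Pullback.isQCoh_pullback q₁ E₁
  have : ((pb q₂).obj E₂).IsQuasicoherent := QCoh.Pullback.isQCoh_pullback q₂ E₂
  refine isRelVeryAmple_of_crit (TensorQCoh.isQCoh_tensorMod _ _) (tensorData w₁ w₂) fun x => ?_
  obtain ⟨U₁, hU₁, e₁, hx₁⟩ := hg₁ (p₁ x)
  obtain ⟨U₂, hU₂, e₂, hx₂⟩ := hg₂ (p₂ x)
  have hq₁ : q₁ (h x) ∈ U₁ := by
    rw [← Scheme.Hom.comp_apply, hh₁, Scheme.Hom.comp_apply]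
    exact gloc_le (ev v₁ U₁ e₁) hx₁
  have hq₂ : q₂ (h x) ∈ U₂ := by
    rw [← Scheme.Hom.comp_apply, hh₂, Scheme.Hom.comp_apply]
    exact gloc_le (ev v₂ U₂ e₂) hx₂
  obtain ⟨W, hW, hxW, hWle⟩ := exists_isAffineOpen_mem_and_subset (x := h x) (U := q₁ ⁻¹ᵁ U₁ ⊓ q₂ ⁻¹ᵁ U₂) ⟨hq₁, hq₂⟩
  have i₁ : W ≤ q₁ ⁻¹ᵁ U₁ := hWle.trans inf_le_left
  have i₂ : W ≤ q₂ ⁻¹ᵁ U₂ := hWle.trans inf_le_right
  let s₁ : Γ(E₁, U₁) → Γ((pb q₁).obj E₁, W) := fun e => rs _ i₁ (unitSec q₁ E₁ e)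
  let s₂ : Γ(E₂, U₂) → Γ((pb q₂).obj E₂, W) := fun e => rs _ i₂ (unitSec q₂ E₂ e)
  let f := SecTwist.tmul ((pb q₁).obj E₁) ((pb q₂).obj E₂) W (s₁ e₁) (s₂ e₂)
  have hg1 : gloc (ev w₁ W (s₁ e₁)) = p₁ ⁻¹ᵁ gloc (ev v₁ U₁ e₁) ⊓ h ⁻¹ᵁ W := by
    rw [gloc_ev_rs, hw₁]
    erw [gloc_rs, gloc_unitSec p₁ hL₁]
    rw [inf_assoc, inf_eq_right.2 (h.preimage_mono i₁)]
  have hg2 : gloc (ev w₂ W (s₂ e₂)) = p₂ ⁻¹ᵁ gloc (ev v₂ U₂ e₂) ⊓ h ⁻¹ᵁ W := by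
    rw [gloc_ev_rs, hw₂]
    erw [gloc_rs, gloc_unitSec p₂ hL₂]
    rw [inf_assoc, inf_eq_right.2 (h.preimage_mono i₂)]
  refine ⟨W, hW, f, ?_, ?_⟩
  · rw [gloc_tensorData hiL₁ hiL₂, hg1, hg2]
    exact ⟨⟨hx₁, hxW⟩, hx₂, hxW⟩
  set T := gloc (ev (tensorData w₁ w₂) W f) with hT
  have hTW : T ≤ h ⁻¹ᵁ W := gloc_le _
  have h₁ : T ≤ p₁ ⁻¹ᵁ gloc (ev v₁ U₁ e₁) := by
    rw [hT, gloc_tensorData hiL₁ hiL₂, hg1]; exact inf_le_left.trans inf_le_left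
  have h₂ : T ≤ p₂ ⁻¹ᵁ gloc (ev v₂ U₂ e₂) := by
    rw [hT, gloc_tensorData hiL₁ hiL₂, hg2]; exact inf_le_right.trans inf_le_left
  set T₁ := gloc (ev v₁ U₁ e₁)
  set T₂ := gloc (ev v₂ U₂ e₂)
  have hpair : IsImmersion (pullback.lift (f := terminal.from (T₁ : Scheme.{u})) (g := terminal.from (T₂ : Scheme.{u}))
      (p₁.resLE T₁ T h₁) (p₂.resLE T₂ T h₂) (Subsingleton.elim _ _)) := by
    have hl := isImmersion_lift_of_isPullback hP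
    have : IsImmersion (pullback.lift (f := terminal.from (T₁ : Scheme.{u})) (g := terminal.from (T₂ : Scheme.{u}))
        (p₁.resLE T₁ T h₁) (p₂.resLE T₂ T h₂) (Subsingleton.elim _ _) ≫
        pullback.map (terminal.from (T₁ : Scheme.{u})) (terminal.from (T₂ : Scheme.{u}))
          (terminal.from X₁) (terminal.from X₂) T₁.ι T₂.ι (𝟙 _) (Subsingleton.elim _ _) (Subsingleton.elim _ _)) := by
      rw [lift_map_eq _ _ _ _ T.ι p₁ p₂ (Scheme.Hom.resLE_comp_ι p₁ h₁) (Scheme.Hom.resLE_comp_ι p₂ h₂)]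
      infer_instance
    exact IsImmersion.of_comp _ (pullback.map (terminal.from (T₁ : Scheme.{u})) (terminal.from (T₂ : Scheme.{u}))
      (terminal.from X₁) (terminal.from X₂) T₁.ι T₂.ι (𝟙 _) (Subsingleton.elim _ _) (Subsingleton.elim _ _))
  have hten : ∀ (a : Γ((pb q₁).obj E₁, W)) (b : Γ((pb q₂).obj E₂, W)) (p : T ≤ h ⁻¹ᵁ W),
      rs (CohB1.tensorMod ((pb p₁).obj L₁) ((pb p₂).obj L₂)) p
        (ev (tensorData w₁ w₂) W (SecTwist.tmul _ _ W a b)) =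
      SecTwist.tmul ((pb p₁).obj L₁) ((pb p₂).obj L₂) T (rs _ hTW (ev w₁ W a)) (rs _ hTW (ev w₂ W b)) := fun a b p => by
    rw [ev_tensorData, rs_tmul]
  refine (ImmOn.pair p₁ p₂ h₁ h₂ hpair (hI₁ U₁ hU₁ e₁) (hI₂ U₂ hU₂ e₂)).mono (sup_le ?_ ?_)
  · rw [rats, rats, RingHom.map_closure, Subring.closure_le]
    rintro _ ⟨_, ⟨d, rfl⟩, rfl⟩
    refine Subring.subset_closure ⟨SecTwist.tmul _ _ W (s₁ d) (s₂ e₂), ?_⟩
    refine (rf_self le_rfl _).symm.trans (ratio_unique_on le_rfl ?_)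
    have hu : T ≤ p₁ ⁻¹ᵁ (f₁ ⁻¹ᵁ U₁) := h₁.trans (p₁.preimage_mono (gloc_le _))
    have h3 : ∀ d : Γ(E₁, U₁), rs ((pb p₁).obj L₁) hTW (ev w₁ W (s₁ d)) =
        rs ((pb p₁).obj L₁) hu (unitSec p₁ L₁ (ev v₁ U₁ d)) := fun d => by rw [rs_ev, hw₁]; exact rs_rs _ _ _ _
    refine ((hten (s₁ d) (s₂ e₂) _).trans ?_).trans (congrArg (_ • ·) (hten (s₁ e₁) (s₂ e₂) _).symm)
    rw [h3 d, h3 e₁, ratio_unitSec p₁ (ev v₁ U₁ e₁) (ev v₁ U₁ d) h₁ hu]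
    have h4 := tmul_smul (M := (pb p₁).obj L₁) (N := (pb p₂).obj L₂) (U := T)
      (p₁.appLE T₁ T h₁ (ratio (ev v₁ U₁ e₁) (ev v₁ U₁ d))) 1
      (rs ((pb p₁).obj L₁) hu (unitSec p₁ L₁ (ev v₁ U₁ e₁))) (rs ((pb p₂).obj L₂) hTW (ev w₂ W (s₂ e₂)))
    rw [one_smul, mul_one] at h4
    exact h4
  · rw [rats, rats, RingHom.map_closure, Subring.closure_le]
    rintro _ ⟨_, ⟨d, rfl⟩, rfl⟩
    refine Subring.subset_closure ⟨SecTwist.tmul _ _ W (s₁ e₁) (s₂ d), ?_⟩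
    refine (rf_self le_rfl _).symm.trans (ratio_unique_on le_rfl ?_)
    have hu : T ≤ p₂ ⁻¹ᵁ (f₂ ⁻¹ᵁ U₂) := h₂.trans (p₂.preimage_mono (gloc_le _))
    have h3 : ∀ d : Γ(E₂, U₂), rs ((pb p₂).obj L₂) hTW (ev w₂ W (s₂ d)) =
        rs ((pb p₂).obj L₂) hu (unitSec p₂ L₂ (ev v₂ U₂ d)) := fun d => by rw [rs_ev, hw₂]; exact rs_rs _ _ _ _
    refine ((hten (s₁ e₁) (s₂ d) _).trans ?_).trans (congrArg (_ • ·) (hten (s₁ e₁) (s₂ e₂) _).symm)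
    rw [h3 d, h3 e₂, ratio_unitSec p₂ (ev v₂ U₂ e₂) (ev v₂ U₂ d) h₂ hu]
    have h4 := tmul_smul (M := (pb p₁).obj L₁) (N := (pb p₂).obj L₂) (U := T) 1
      (p₂.appLE T₂ T h₂ (ratio (ev v₂ U₂ e₂) (ev v₂ U₂ d)))
      (rs ((pb p₁).obj L₁) hTW (ev w₁ W (s₁ e₁))) (rs ((pb p₂).obj L₂) hu (unitSec p₂ L₂ (ev v₂ U₂ e₂)))
    rw [one_smul, one_mul] at h4
    exact h4

end Groth.Agent.Lib.SymAlg.PE
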