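import Groth.Agent.Lib.SymAlg.PE.Imm

/-!
# Replacing the functions of an affine open of the base by an immersing subring
-/

noncomputable section

set_option autoImplicit false
universe u

open CategoryTheory CategoryTheory.Limits AlgebraicGeometry Opposite TopologicalSpace

namespace Groth.Agent.Lib.SymAlg.PE

variable {S X : Scheme.{u}}

/-- A morphism of affine schemes is a closed immersion if two projections reach generators. -/
theorem isClosedImmersion_of_gens {A₀ A₁ A : CommRingCat.{u}} {P : Scheme.{u}} [IsAffine P] (p₀ : P ⟶ Spec A₀)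
    (p₁ : P ⟶ Spec A₁) (b : Spec A ⟶ P) (d₀ : A₀ ⟶ A) (d₁ : A₁ ⟶ A) (h₀ : b ≫ p₀ = Spec.map d₀)
    (h₁ : b ≫ p₁ = Spec.map d₁) (hgen : Subring.closure (Set.range d₀ ∪ Set.range d₁) = ⊤) :
    IsClosedImmersion b := by
  refine IsClosedImmersion.of_surjective_of_isAffine _ fun z => ?_
  let R : Subring A := (b.appTop ≫ (Scheme.ΓSpecIso A).hom).hom.range
  have key : ∀ {B : CommRingCat.{u}} (p : P ⟶ Spec B) (d : B ⟶ A), b ≫ p = Spec.map d →
      Set.range d ⊆ (R : Set A) := by
    rintro B p d h _ ⟨x, rfl⟩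
    have e : (Scheme.ΓSpecIso B).inv ≫ p.appTop ≫ b.appTop ≫ (Scheme.ΓSpecIso A).hom = d := by
      rw [← Scheme.Hom.comp_appTop_assoc, h, ← Scheme.ΓSpecIso_inv_naturality_assoc, Iso.inv_hom_id,
        Category.comp_id]
    refine ⟨p.appTop ((Scheme.ΓSpecIso B).inv x), ?_⟩
    conv_rhs => rw [← e]
    simp only [CommRingCat.hom_comp, RingHom.coe_comp, Function.comp_apply]
  have hR : R = ⊤ := eq_top_iff.2 (hgen.ge.trans (Subring.closure_le.2 (Set.union_subset (key p₀ d₀ h₀) (key p₁ d₁ h₁))))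
  obtain ⟨y, hy⟩ : (Scheme.ΓSpecIso A).hom z ∈ R := hR ▸ trivial
  exact ⟨y, (ConcreteCategory.bijective_of_isIso (Scheme.ΓSpecIso A).hom).1
    (by simpa only [CommRingCat.hom_comp, RingHom.coe_comp, Function.comp_apply] using hy)⟩

theorem isImmersion_pair {T U A C D : Scheme.{u}} (r : T ⟶ U) (a₁ : T ⟶ C) (u : U ⟶ A) (a₀ : T ⟶ D)
    (b : D ⟶ pullback (terminal.from A) (terminal.from C)) [IsImmersion a₀] [IsImmersion b]
    (h₀ : r ≫ u = a₀ ≫ b ≫ pullback.fst _ _) (h₁ : a₁ = a₀ ≫ b ≫ pullback.snd _ _) :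
    IsImmersion (pullback.lift (f := terminal.from U) (g := terminal.from C) r a₁ (Subsingleton.elim _ _)) := by
  let m := pullback.map (terminal.from U) (terminal.from C) (terminal.from A) (terminal.from C) u (𝟙 _) (𝟙 _)
    (Subsingleton.elim _ _) (Subsingleton.elim _ _)
  have e : pullback.lift (f := terminal.from U) (g := terminal.from C) r a₁ (Subsingleton.elim _ _) ≫ m = a₀ ≫ b := by
    apply pullback.hom_ext
    · rw [Category.assoc, show m ≫ pullback.fst _ _ = pullback.fst _ _ ≫ u from pullback.lift_fst _ _ _,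
        ← Category.assoc, pullback.lift_fst, h₀, Category.assoc]
    · rw [Category.assoc, show m ≫ pullback.snd _ _ = pullback.snd _ _ ≫ 𝟙 C from pullback.lift_snd _ _ _,
        Category.comp_id, pullback.lift_snd, h₁, Category.assoc]
  have : IsImmersion (pullback.lift (f := terminal.from U) (g := terminal.from C) r a₁ (Subsingleton.elim _ _) ≫ m) := by
    rw [e]; infer_instance
  exact IsImmersion.of_comp _ m

theorem isImmersion_of_pair {T U A B C : Scheme.{u}} (r : T ⟶ U) (a₂ : U ⟶ A) [IsImmersion a₂] (t : T ⟶ B)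
    (c₂ : B ⟶ A) (w : r ≫ a₂ = t ≫ c₂) (a₁ : T ⟶ C) (c₁ : B ⟶ C) (hc : t ≫ c₁ = a₁)
    (h : IsImmersion (pullback.lift (f := terminal.from U) (g := terminal.from C) r a₁ (Subsingleton.elim _ _))) :
    IsImmersion t := by
  let k : T ⟶ pullback a₂ c₂ := pullback.lift r t w
  let l : pullback a₂ c₂ ⟶ pullback (terminal.from U) (terminal.from C) :=
    pullback.lift (pullback.fst _ _) (pullback.snd _ _ ≫ c₁) (Subsingleton.elim _ _)
  have e : k ≫ l = pullback.lift (f := terminal.from U) (g := terminal.from C) r a₁ (Subsingleton.elim _ _) := by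
    apply pullback.hom_ext
    · rw [Category.assoc, show l ≫ pullback.fst _ _ = pullback.fst _ _ from pullback.lift_fst _ _ _,
        pullback.lift_fst, pullback.lift_fst]
    · rw [Category.assoc, show l ≫ pullback.snd _ _ = pullback.snd _ _ ≫ c₁ from pullback.lift_snd _ _ _,
        ← Category.assoc, pullback.lift_snd, hc, pullback.lift_snd]
  have hk : IsImmersion k := by
    have : IsImmersion (k ≫ l) := by rw [e]; exact h
    exact IsImmersion.of_comp k l
  rw [show t = k ≫ pullback.snd a₂ c₂ from (pullback.lift_snd _ _ _).symm]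
  infer_instance

theorem ofHom_inclusion_subtype {R : Type u} [CommRing R] {A B : Subring R} (h : A ≤ B) :
    CommRingCat.ofHom (Subring.inclusion h) ≫ CommRingCat.ofHom (R := B) B.subtype =
      CommRingCat.ofHom (R := A) A.subtype :=
  CommRingCat.hom_ext (RingHom.ext fun _ => rfl)

theorem ofHom_codRestrict_subtype {A : CommRingCat.{u}} {R : Type u} [CommRing R] (φ : A →+* R) (B : Subring R)
    (h : ∀ x, φ x ∈ B) :
    CommRingCat.ofHom (φ.codRestrict B h) ≫ CommRingCat.ofHom (R := B) B.subtype = CommRingCat.ofHom φ :=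
  CommRingCat.hom_ext (RingHom.ext fun _ => rfl)

theorem ofHom_comp_codRestrict_subtype {R S' : Type u} [CommRing R] [CommRing S'] (K₂ : Subring S')
    (φ : S' →+* R) (B : Subring R) (h : ∀ x : K₂, φ x ∈ B) :
    CommRingCat.ofHom ((φ.comp K₂.subtype).codRestrict B h) ≫ CommRingCat.ofHom (R := B) B.subtype =
      CommRingCat.ofHom (R := K₂) K₂.subtype ≫ CommRingCat.ofHom φ :=
  CommRingCat.hom_ext (RingHom.ext fun _ => rfl)

theorem ImmOn.replace (f : X ⟶ S) {U : S.Opens} (hU : IsAffineOpen U) {T : X.Opens} (hT : T ≤ f ⁻¹ᵁ U)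
    {G : Set Γ(X, T)} (h : ImmOn T (Subring.closure (Set.range (f.appLE U T hT).hom ∪ G)))
    {K₂ : Subring Γ(S, U)} (hK₂ : ImmOn U K₂) :
    ImmOn T (Subring.closure G ⊔ K₂.map (f.appLE U T hT).hom) := by
  let K₀ := Subring.closure (Set.range (f.appLE U T hT).hom ∪ G)
  let K₁ := Subring.closure G
  let K := Subring.closure G ⊔ K₂.map (f.appLE U T hT).hom
  let ι := CommRingCat.ofHom (R := K) K.subtype
  let a₀ := toSpec T (CommRingCat.ofHom (R := K₀) K₀.subtype)
  let a₁ := toSpec T (CommRingCat.ofHom (R := K₁) K₁.subtype)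
  let a₂ := toSpec U (CommRingCat.ofHom (R := K₂) K₂.subtype)
  have hi₂ : IsImmersion a₂ := hK₂
  have hi₀ : IsImmersion a₀ := h
  -- `T` is immersed in `U × Spec K₁`
  let d₀ : CommRingCat.of Γ(S, U) ⟶ CommRingCat.of K₀ :=
    CommRingCat.ofHom ((f.appLE U T hT).hom.codRestrict K₀ fun x => Subring.subset_closure (Or.inl ⟨x, rfl⟩))
  let d₁ : CommRingCat.of K₁ ⟶ CommRingCat.of K₀ :=
    CommRingCat.ofHom (Subring.inclusion (Subring.closure_mono Set.subset_union_right))
  have hUa : IsAffine (U : Scheme.{u}) := hU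
  obtain ⟨b, hb0, hb1⟩ : ∃ b : Spec (CommRingCat.of K₀) ⟶
      pullback (terminal.from (Spec Γ(S, U))) (terminal.from (Spec (CommRingCat.of K₁))),
      b ≫ pullback.fst _ _ = Spec.map d₀ ∧ b ≫ pullback.snd _ _ = Spec.map d₁ :=
    ⟨pullback.lift (Spec.map d₀) (Spec.map d₁) (Subsingleton.elim _ _), pullback.lift_fst _ _ _, pullback.lift_snd _ _ _⟩
  have hb : IsClosedImmersion b := by
    refine isClosedImmersion_of_gens (pullback.fst _ _) (pullback.snd _ _) b d₀ d₁ hb0
      hb1 (eq_top_iff.2 fun w _ => ?_)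
    obtain ⟨w, hw⟩ := w
    let R := Subring.closure (Set.range d₀ ∪ Set.range d₁)
    refine Subring.closure_induction (p := fun y hy => (⟨y, hy⟩ : K₀) ∈ R) ?_ R.zero_mem R.one_mem
      (fun _ _ _ _ ha hb => R.add_mem ha hb) (fun _ _ ha => R.neg_mem ha) (fun _ _ _ _ ha hb => R.mul_mem ha hb) hw
    rintro y (⟨x, rfl⟩ | hy)
    · exact Subring.subset_closure (Or.inl ⟨x, rfl⟩)
    · exact Subring.subset_closure (Or.inr ⟨⟨y, Subring.subset_closure hy⟩, rfl⟩)
  let c₁ : CommRingCat.of K₁ ⟶ CommRingCat.of K := CommRingCat.ofHom (Subring.inclusion le_sup_left)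
  let c₂ : CommRingCat.of K₂ ⟶ CommRingCat.of K :=
    CommRingCat.ofHom (((f.appLE U T hT).hom.comp K₂.subtype).codRestrict K
      fun x => (le_sup_right : _ ≤ K) ⟨x, x.2, rfl⟩)
  have r₀ : d₀ ≫ CommRingCat.ofHom (R := K₀) K₀.subtype = f.appLE U T hT :=
    ofHom_codRestrict_subtype _ _ _
  have r₁ : d₁ ≫ CommRingCat.ofHom (R := K₀) K₀.subtype = CommRingCat.ofHom (R := K₁) K₁.subtype :=
    ofHom_inclusion_subtype _
  have r₂ : c₂ ≫ ι = CommRingCat.ofHom (R := K₂) K₂.subtype ≫ f.appLE U T hT :=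
    ofHom_comp_codRestrict_subtype _ _ _ _
  have r₃ : c₁ ≫ ι = CommRingCat.ofHom (R := K₁) K₁.subtype := ofHom_inclusion_subtype _
  refine isImmersion_of_pair (f.resLE U T hT) a₂ (toSpec T ι) (Spec.map c₂) ?_ a₁ (Spec.map c₁)
    ((toSpec_comp T ι c₁).trans (congrArg (toSpec T) r₃))
    (isImmersion_pair (f.resLE U T hT) a₁ U.toSpecΓ a₀ b ?_ ?_)
  · rw [toSpec_comp, r₂]
    exact (resLE_toSpec f hT (CommRingCat.ofHom (R := K₂) K₂.subtype)).symm
  · rw [hb0]
    exact (Scheme.Opens.toSpecΓ_SpecMap_appLE f U T hT).symm.trans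
      (((toSpec_comp T (CommRingCat.ofHom (R := K₀) K₀.subtype) d₀).trans (congrArg (toSpec T) r₀)).symm)
  · rw [hb1]
    exact ((toSpec_comp T (CommRingCat.ofHom (R := K₀) K₀.subtype) d₁).trans (congrArg (toSpec T) r₁)).symm

end Groth.Agent.Lib.SymAlg.PE
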