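import Groth.Agent.Lib.SymAlg.PE.Finite
import Groth.Agent.Lib.SymAlg.PE.Replace
import Groth.Agent.Lib.SymAlg.PE.Eventual
import Groth.Agent.Lib.SymAlg.PE.External
import Groth.Agent.H58VA.RelVA

/-!
# Affine covers adapted to very ampleness data
-/

noncomputable section

set_option autoImplicit false
universe u

open CategoryTheory CategoryTheory.Limits AlgebraicGeometry Opposite TopologicalSpace

namespace Groth.Agent.Lib.SymAlg.PE

open Groth.Agent.Lib TensorMod TensorMod.Basic TensorMod.Dual TensorMod.Gen TensorMod.HomGlue TensorMod.Pullback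
  Ample.GenLocus Ample.Pow Ample.Extend Ample.Basis

variable {X Y Z : Scheme.{u}}

theorem gloc_sv {L : X.Modules} (s : Coh.structureModule X ⟶ L) : gloc (sv s ⊤) = CohB1.genLocus L s := by
  refine le_antisymm (le_genLocus ?_) (le_gloc le_top ?_)
  · rw [← rs_sv s (le_top : gloc (sv s ⊤) ≤ ⊤)]
    exact isGen_gloc _
  · rw [rs_sv]
    exact isGen_genLocus s

theorem isCompact_gloc {L : X.Modules} (hL : PicF.IsInvertible L) {W : X.Opens} (hW : IsCompact (W : Set X))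
    (m : Γ(L, W)) : IsCompact (gloc m : Set X) := by
  classical
  have h : ∀ x : W, ∃ (V : X.Opens) (_ : IsAffineOpen V), x.1 ∈ V ∧ V ≤ W ∧ ∃ e : Γ(L, V), IsGen L V e := fun x => by
    obtain ⟨U, e, hxU, he⟩ := isInvertible_iff.1 hL x.1
    obtain ⟨V, hV, hxV, hVle⟩ := exists_isAffineOpen_mem_and_subset (x := x.1) (U := U ⊓ W) ⟨hxU, x.2⟩
    exact ⟨V, hV, hxV, fun y hy => (hVle hy).2, _, he.res fun y hy => (hVle hy).1⟩
  choose V hV hxV hVW e he using h
  obtain ⟨t, ht⟩ := hW.elim_finite_subcover (fun x : W => (V x : Set X)) (fun x => (V x).isOpen)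
    fun x hx => Set.mem_iUnion.2 ⟨⟨x, hx⟩, hxV ⟨x, hx⟩⟩
  have he' : (gloc m : Set X) = ⋃ x ∈ t, ((gloc m ⊓ V x : X.Opens) : Set X) := by
    ext y
    simp only [Set.mem_iUnion]
    constructor
    · intro hy
      obtain ⟨x, hx, hyx⟩ := Set.mem_iUnion₂.1 (ht (gloc_le m hy))
      exact ⟨x, hx, hy, hyx⟩
    · rintro ⟨x, -, hy, -⟩
      exact hy
  rw [he']
  refine t.isCompact_biUnion fun x _ => ?_
  obtain ⟨a, ha⟩ := exists_coord (he x) (rs L (hVW x) m)
  rw [gloc_inf_eq (hVW x) (he x) ha]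
  exact ((hV x).basicOpen a).isCompact

theorem smul_tmul_left {A B : X.Modules} {U : X.Opens} (a : Γ(X, U)) (x : Γ(A, U)) (y : Γ(B, U)) :
    (SecTwist.tmul A B U (a • x) y : Γ(CohB1.tensorMod A B, U)) =
      a • (SecTwist.tmul A B U x y : Γ(CohB1.tensorMod A B, U)) := by
  rw [← pairM_id, ← pairM_id, pairM_smul_left]; rfl

theorem smul_tmul_right {A B : X.Modules} {U : X.Opens} (a : Γ(X, U)) (x : Γ(A, U)) (y : Γ(B, U)) :
    (SecTwist.tmul A B U x (a • y) : Γ(CohB1.tensorMod A B, U)) =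
      a • (SecTwist.tmul A B U x y : Γ(CohB1.tensorMod A B, U)) := by
  rw [← pairM_id, ← pairM_id, pairM_smul_right]; rfl

/-- A cover of `Y` by affine loci of sections of a power of `K`, adapted to very ampleness data. -/
theorem exists_adapted [IsAffine Z] [QuasiSeparatedSpace Y] {g : Y ⟶ Z} {K : Y.Modules} (hK : CohB1.IsAmple K)
    {E : Z.Modules} (hE : Coh.IsQCoh E) {w : E ⟶ (Scheme.Modules.pushforward g).obj K} (hw : Generates w) :
    ∃ (m : ℕ) (ι : Type u) (_ : Finite ι) (s : ι → (Coh.structureModule Y ⟶ CohB1.tensorPow K m))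
      (e : ι → Γ(E, (⊤ : Z.Opens))), (∀ i, IsAffineOpen (CohB1.genLocus _ (s i))) ∧
      (∀ y, ∃ i, y ∈ CohB1.genLocus _ (s i)) ∧ ∀ i, CohB1.genLocus _ (s i) ≤ gloc (ev w ⊤ (e i)) := by
  classical
  obtain ⟨hi, hc, -⟩ := isAmple_iff.1 hK
  haveI := hc
  have h : ∀ y : Y, ∃ (n : ℕ) (_ : 0 < n) (s : Coh.structureModule Y ⟶ CohB1.tensorPow K n) (e : Γ(E, (⊤ : Z.Opens))),
      y ∈ CohB1.genLocus _ s ∧ IsAffineOpen (CohB1.genLocus _ s) ∧ CohB1.genLocus _ s ≤ gloc (ev w ⊤ e) := fun y => by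
    obtain ⟨e, he⟩ := hw.mem_affine hE (isAffineOpen_top Z) (x := y) trivial
    obtain ⟨n, hn, s, hys, hle, hs⟩ := Ample.Basis.exists_locus_subset hK he
    exact ⟨n, hn, s, e, hys, hs, hle⟩
  choose n hn s e hys hs hle using h
  obtain ⟨t, ht⟩ := isCompact_univ.elim_finite_subcover (fun y => (CohB1.genLocus _ (s y) : Set Y))
    (fun y => (CohB1.genLocus _ (s y)).isOpen) fun y _ => Set.mem_iUnion.2 ⟨y, hys y⟩
  let k : Y → ℕ := fun y => ∏ j ∈ t.erase y, n j
  have hnk : ∀ y : {y // y ∈ t}, n y.1 * k y.1 = ∏ j ∈ t, n j := fun y => Finset.mul_prod_erase _ _ y.2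
  let s' : {y // y ∈ t} → (Coh.structureModule Y ⟶ CohB1.tensorPow K (∏ j ∈ t, n j)) := fun y =>
    SecTwist.powHom (s y.1) (k y.1) ≫ (powMul K (n y.1) (k y.1) ≪≫ powCongr K (hnk y)).hom
  have hloc : ∀ y, CohB1.genLocus _ (s' y) = CohB1.genLocus _ (s y.1) := fun y => by
    rw [genLocus_comp_iso, genLocus_powHom (Invertible.isInvertible_tensorPow hi _) _ _
      (Finset.prod_pos fun j _ => hn j)]
  refine ⟨_, {y // y ∈ t}, inferInstance, s', fun y => e y.1, fun y => by rw [hloc]; exact hs _, fun y => ?_,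
    fun y => (hloc y).trans_le (hle _)⟩
  obtain ⟨z, hz, hyz⟩ := Set.mem_iUnion₂.1 (ht (Set.mem_univ y))
  exact ⟨⟨z, hz⟩, (hloc ⟨z, hz⟩).ge hyz⟩


end Groth.Agent.Lib.SymAlg.PE
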