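import Mathlib.AlgebraicGeometry.ProjectiveSpectrum.Basic
import Mathlib.RingTheory.GradedAlgebra.Basic

/-!
# `A_(g)` of a ring generated in degrees zero and one
-/

set_option autoImplicit false
universe u

open CategoryTheory AlgebraicGeometry DirectSum HomogeneousLocalization

namespace Groth.Agent.Lib.SymAlg.PE.Away

noncomputable section

variable {A σ : Type u} [CommRing A] [SetLike σ A] [AddSubgroupClass σ A] (𝒜 : ℕ → σ) [GradedRing 𝒜]

/-- The fraction `b / g` of degree one elements. -/
def frac {g b : A} (hg : g ∈ 𝒜 1) (hb : b ∈ 𝒜 1) : Away 𝒜 g :=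
  Away.mk 𝒜 hg 1 b (by simpa using hb)

theorem val_frac {g b : A} (hg : g ∈ 𝒜 1) (hb : b ∈ 𝒜 1) :
    (frac 𝒜 hg hb).val = Localization.mk b (⟨g, 1, pow_one g⟩ : Submonoid.powers g) := by
  rw [frac, Away.val_mk]
  exact congrArg (Localization.mk b) (Subtype.ext (pow_one g))

/-- `A_(g)` is generated by the fractions of degree one elements. -/
theorem closure_frac (hgen : Subring.closure ((𝒜 0 : Set A) ∪ (𝒜 1 : Set A)) = ⊤) {g : A} (hg : g ∈ 𝒜 1) :
    Subring.closure (Set.range fun b : 𝒜 1 => frac 𝒜 hg b.2) = ⊤ := by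
  classical
  set K := Subring.closure (Set.range fun b : 𝒜 1 => frac 𝒜 hg b.2)
  have hfr : ∀ b (hb : b ∈ 𝒜 1), frac 𝒜 hg hb ∈ K := fun b hb =>
    Subring.subset_closure ⟨⟨b, hb⟩, rfl⟩
  let L : Subring (Localization.Away g) := K.map (algebraMap (Away 𝒜 g) (Localization.Away g))
  let mkg : A → ℕ → Localization.Away g := fun a n => Localization.mk a ⟨g ^ n, n, rfl⟩
  have hmem0 : ∀ r ∈ 𝒜 0, mkg r 0 ∈ L := fun r hr => by
    have hrg : r * g ∈ 𝒜 1 := by simpa using SetLike.mul_mem_graded hr hg
    refine ⟨frac 𝒜 hg hrg, hfr _ hrg, ?_⟩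
    rw [HomogeneousLocalization.algebraMap_apply, val_frac, Localization.mk_eq_mk_iff,
      Localization.r_iff_exists]
    exact ⟨1, by simp [mul_comm]⟩
  have hmem1 : ∀ b ∈ 𝒜 1, mkg b 1 ∈ L := fun b hb => by
    refine ⟨frac 𝒜 hg hb, hfr _ hb, ?_⟩
    rw [HomogeneousLocalization.algebraMap_apply, val_frac]
    exact congrArg (Localization.mk b) (Subtype.ext (pow_one g).symm)
  have hzero : ∀ n, mkg 0 n ∈ L := fun n => by
    simp only [mkg, Localization.mk_zero]
    exact L.zero_mem
  let P : A → Prop := fun x => ∀ n, mkg (decompose 𝒜 x n : A) n ∈ L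
  have key : ∀ x, P x := by
    intro x
    have hx : x ∈ Subring.closure ((𝒜 0 : Set A) ∪ (𝒜 1 : Set A)) := hgen ▸ trivial
    have hhom : ∀ (k : ℕ) (y : A), y ∈ 𝒜 k → mkg y k ∈ L → P y := fun k y hy hyL n => by
      by_cases h : k = n
      · subst h
        rwa [decompose_of_mem_same 𝒜 hy]
      · rw [decompose_of_mem_ne 𝒜 hy h]
        exact hzero n
    induction hx using Subring.closure_induction with
    | mem y hy =>
      rcases hy with hy | hy
      · exact hhom 0 y hy (hmem0 y hy)
      · exact hhom 1 y hy (hmem1 y hy)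
    | zero =>
      intro n
      rw [decompose_zero, DirectSum.zero_apply, ZeroMemClass.coe_zero]
      exact hzero n
    | one =>
      refine hhom 0 1 SetLike.GradedOne.one_mem ?_
      rw [show mkg 1 0 = 1 from by
        simp only [mkg, ← Localization.mk_one]
        exact congrArg (Localization.mk _) (Subtype.ext (pow_zero g))]
      exact L.one_mem
    | add p q _ _ hp hq =>
      intro n
      rw [decompose_add, DirectSum.add_apply, AddMemClass.coe_add,
        show mkg ((decompose 𝒜 p n : A) + (decompose 𝒜 q n : A)) n =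
          mkg (decompose 𝒜 p n : A) n + mkg (decompose 𝒜 q n : A) n from
          (Localization.add_mk_self _ _ _).symm]
      exact L.add_mem (hp n) (hq n)
    | neg p _ hp =>
      intro n
      rw [show (decompose 𝒜 (-p) n : A) = -(decompose 𝒜 p n : A) from
          map_neg (GradedRing.proj 𝒜 n) p,
        show mkg (-(decompose 𝒜 p n : A)) n = -mkg (decompose 𝒜 p n : A) n from (Localization.neg_mk _ _).symm]
      exact L.neg_mem (hp n)
    | mul p q _ _ hp hq =>
      intro n
      rw [decompose_mul, coe_mul_apply_eq_sum_antidiagonal]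
      simp only [mkg, Localization.mk_sum]
      refine L.sum_mem fun ij hij => ?_
      rw [Finset.mem_antidiagonal] at hij
      have e : Localization.mk ((decompose 𝒜 p ij.1 : A) * (decompose 𝒜 q ij.2 : A))
          (⟨g ^ n, n, rfl⟩ : Submonoid.powers g) = mkg (decompose 𝒜 p ij.1 : A) ij.1 * mkg (decompose 𝒜 q ij.2 : A) ij.2 := by
        simp only [mkg, Localization.mk_mul]
        refine congrArg (Localization.mk _) (Subtype.ext ?_)
        change g ^ n = g ^ ij.1 * g ^ ij.2
        rw [← pow_add, hij]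
      rw [e]
      exact L.mul_mem (hp _) (hq _)
  refine eq_top_iff.2 fun z _ => ?_
  obtain ⟨n, b, hb, rfl⟩ := Away.mk_surjective 𝒜 hg z
  obtain ⟨w, hw, hwe⟩ := key b n
  rw [decompose_of_mem_same 𝒜 (by simpa using hb : b ∈ 𝒜 n), HomogeneousLocalization.algebraMap_apply] at hwe
  rwa [← HomogeneousLocalization.val_injective _ (hwe.trans (Away.val_mk 𝒜 n hg b hb).symm)]

end

end Groth.Agent.Lib.SymAlg.PE.Away
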