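import Groth.Agent.Lib.SymAlg.PE.Gens

/-!
# Ratios of sections; relations between the fractions on `D₊(g)`
-/

noncomputable section

set_option autoImplicit false
universe u

open CategoryTheory CategoryTheory.Limits AlgebraicGeometry Opposite TopologicalSpace
open scoped HomogeneousIdeal

namespace Groth.Agent.Lib.SymAlg.PE

open Groth.Agent.Lib TensorMod TensorMod.Dual TensorMod.Gen TensorMod.HomGlue Ample.GenLocus

variable {X : Scheme.{u}} {L : X.Modules}

/-- `n / m` where `m` generates. -/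
def ratio {W : X.Opens} (m n : Γ(L, W)) : Γ(X, gloc m) :=
  (exists_coord (isGen_gloc m) (rs L (gloc_le m) n)).choose

theorem ratio_spec {W : X.Opens} (m n : Γ(L, W)) :
    rs L (gloc_le m) n = ratio m n • rs L (gloc_le m) m :=
  (exists_coord (isGen_gloc m) (rs L (gloc_le m) n)).choose_spec

theorem ratio_unique_on {W V : X.Opens} {m n : Γ(L, W)} (h : V ≤ gloc m) {c : Γ(X, V)}
    (hc : rs L (h.trans (gloc_le m)) n = c • rs L (h.trans (gloc_le m)) m) : rf h (ratio m n) = c := by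
  have h1 := congrArg (rs L h) (ratio_spec m n)
  rw [rs_smul, rs_rs, rs_rs] at h1
  have hg := (isGen_gloc m V h).1 (a₁ := rf h (ratio m n)) (a₂ := c)
  simp only [rs_rs] at hg
  exact hg (h1.symm.trans hc)

theorem ratio_self {W : X.Opens} (m : Γ(L, W)) : ratio m m = 1 :=
  (isGen_gloc m _ le_rfl).1 (by simp only [rs_self]; rw [← ratio_spec, one_smul])

theorem rs_ratio {W W' : X.Opens} (h : W' ≤ W) (m n : Γ(L, W)) (hle : gloc (rs L h m) ≤ gloc m) :
    rf hle (ratio m n) = ratio (rs L h m) (rs L h n) := by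
  refine ratio_unique_on hle ?_
  have h1 := ratio_spec (rs L h m) (rs L h n)
  rwa [rs_rs, rs_rs] at h1

theorem gloc_ratio {W : X.Opens} (m n : Γ(L, W)) : X.basicOpen (ratio m n) = gloc m ⊓ gloc n := by
  rw [inf_comm, gloc_inf_eq (gloc_le m) (isGen_gloc m) (ratio_spec m n)]

theorem ratio_mul {W V : X.Opens} {m m' n : Γ(L, W)} (h : V ≤ gloc m) (h' : V ≤ gloc m') :
    rf h' (ratio m' n) * rf h (ratio m m') = rf h (ratio m n) := by
  refine (ratio_unique_on h ?_).symm
  have h1 := congrArg (rs L h') (ratio_spec m' n)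
  have h2 := congrArg (rs L h) (ratio_spec m m')
  rw [rs_smul, rs_rs, rs_rs] at h1 h2
  rw [h1, h2, smul_smul]

theorem isUnit_ratio {W V : X.Opens} {m m' : Γ(L, W)} (h : V ≤ gloc m) (h' : V ≤ gloc m') :
    IsUnit (rf h (ratio m m')) := by
  refine IsUnit.of_mul_eq_one (rf h' (ratio m' m)) ?_
  rw [mul_comm, ratio_mul (n := m) h h', ratio_self]
  exact map_one _

theorem ratio_add {W : X.Opens} (m n n' : Γ(L, W)) : ratio m (n + n') = ratio m n + ratio m n' := by
  have h := ratio_unique_on (m := m) (n := n + n') (V := gloc m) le_rfl (c := ratio m n + ratio m n')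
    (by rw [rs_add, ratio_spec m n, ratio_spec m n', add_smul])
  rwa [show rf le_rfl (ratio m (n + n')) = ratio m (n + n') from rf_self _ _] at h

theorem ratio_smul {W : X.Opens} (m n : Γ(L, W)) (a : Γ(X, W)) :
    ratio m (a • n) = rf (gloc_le m) a * ratio m n := by
  have h := ratio_unique_on (m := m) (n := a • n) (V := gloc m) le_rfl (c := rf (gloc_le m) a * ratio m n)
    (by rw [rs_smul, ratio_spec m n, smul_smul])
  rwa [show rf le_rfl (ratio m (a • n)) = ratio m (a • n) from rf_self _ _] at h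

variable {S : Scheme.{u}} {B : Tw S}

theorem Tw.frac_eq_ratio {U : S.Opens} {hU : IsAffineOpen U} {g b : B.R U} (hg : g ∈ B.alg.deg U hU 1)
    (hb : b ∈ B.alg.deg U hU 1) {V : B.P.Opens} (h : V ≤ B.D hU g) (h' : V ≤ gloc (B.sec hg)) :
    rf h (B.frac hg hb) = rf h' (ratio (B.sec hg) (B.sec hb)) := by
  refine (ratio_unique_on h' ?_).symm
  have h1 := congrArg (rs B.O1 h) (B.sec_eq_frac_smul hg hb)
  rwa [rs_smul, rs_rs, rs_rs] at h1

theorem Tw.D_res {U W : S.Opens} {hU : IsAffineOpen U} (hW : IsAffineOpen W) (i : W ≤ U) {g : B.R U}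
    (hg : g ∈ B.alg.deg U hU 1) :
    B.D hW (B.alg.res hU hW i g) = B.D hU g ⊓ B.p ⁻¹ᵁ W := by
  refine (B.gloc_sec ((B.alg.res hU hW i).map_mem hg)).symm.trans ?_
  rw [← B.sec_res hW i hg, gloc_rs, B.gloc_sec]

theorem Tw.D_inf {U : S.Opens} {hU : IsAffineOpen U} {g g' : B.R U} (hg : g ∈ B.alg.deg U hU 1)
    (hg' : g' ∈ B.alg.deg U hU 1) : B.P.basicOpen (B.frac hg hg') = B.D hU g ⊓ B.D hU g' := by
  rw [← gloc_inf_eq (B.D_le hU g) (B.isGen_sec hg) (B.sec_eq_frac_smul hg hg'), B.gloc_sec, inf_comm]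

end Groth.Agent.Lib.SymAlg.PE
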