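import Groth.Agent.Lib.SymAlg.PE.Fit
import Groth.Agent.Lib.SymAlg.PE.Ratio
import Groth.Agent.Lib.SymAlg.Unique

/-!
# Morphisms into `P(E)` from generating sections
-/

noncomputable section

set_option autoImplicit false
universe u

open CategoryTheory CategoryTheory.Limits AlgebraicGeometry Opposite TopologicalSpace
open scoped HomogeneousIdeal

namespace Groth.Agent.Lib.SymAlg.PE

open Groth.Agent.Lib TensorMod TensorMod.Dual TensorMod.Gen TensorMod.HomGlue TensorMod.Pullback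
open Groth.Agent.Lib.QCAlgSub.Basic (jm)

variable {S X : Scheme.{u}}

/-- The section of `L` attached to a section of `E`. -/
abbrev ev {q : X ⟶ S} {E : S.Modules} {L : X.Modules} (v : E ⟶ (Scheme.Modules.pushforward q).obj L)
    (U : S.Opens) (e : Γ(E, U)) : Γ(L, q ⁻¹ᵁ U) :=
  v.app U e

theorem ev_rs {q : X ⟶ S} {E : S.Modules} {L : X.Modules} (v : E ⟶ (Scheme.Modules.pushforward q).obj L)
    {U W : S.Opens} (i : W ≤ U) (e : Γ(E, U)) :
    rs L (q.preimage_mono i) (ev v U e) = ev v W (rs E i e) :=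
  rs_app v i e

/-- The sections of `E` generate `L`. -/
def Generates {q : X ⟶ S} {E : S.Modules} {L : X.Modules} (v : E ⟶ (Scheme.Modules.pushforward q).obj L) : Prop :=
  ∀ x : X, ∃ (U : S.Opens) (_ : IsAffineOpen U) (e : Γ(E, U)), x ∈ gloc (ev v U e)

theorem valOn_comp {O : X.Opens} {P Q : Scheme.{u}} (r : (O : Scheme.{u}) ⟶ P) (f : P ⟶ Q) {U : Q.Opens}
    {D : P.Opens} (hD : D ≤ f ⁻¹ᵁ U) (h : (⊤ : (O : Scheme.{u}).Opens) ≤ r ⁻¹ᵁ D)
    (h' : (⊤ : (O : Scheme.{u}).Opens) ≤ (r ≫ f) ⁻¹ᵁ U) :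
    valOn (r ≫ f) U h' = f.appLE U D hD ≫ valOn r D h := by
  rw [valOn, valOn, ← Category.assoc, Scheme.Hom.appLE_comp_appLE]

variable {B : Tw S} (G : B.Gens)

/-- The fraction `j e' / j e`. -/
abbrev Tw.Gens.fr {U : S.Opens} (hU : IsAffineOpen U) (e e' : Γ(G.E, U)) : Γ(B.P, B.D hU (G.g U e)) :=
  B.frac (G.mem U hU e) (G.mem U hU e')

theorem Tw.Gens.closure_fr {U : S.Opens} (hU : IsAffineOpen U) (e : Γ(G.E, U)) :
    Subring.closure (Set.range (G.fr hU e)) = ⊤ := by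
  refine eq_top_iff.2 ((B.closure_frac (G.mem U hU e)).ge.trans (Subring.closure_mono ?_))
  rintro _ ⟨⟨b, hb⟩, rfl⟩
  obtain ⟨e', rfl⟩ := G.surj U hU b hb
  exact ⟨e', rfl⟩

/-- `r` lands in `D₊(j e)` and has the prescribed coordinates there. -/
def Fit {O : X.Opens} (r : (O : Scheme.{u}) ⟶ B.P) {U : S.Opens} (hU : IsAffineOpen U) (e : Γ(G.E, U))
    (a : Γ(G.E, U) → Γ(X, O)) : Prop :=
  ∃ h : (⊤ : (O : Scheme.{u}).Opens) ≤ r ⁻¹ᵁ B.D hU (G.g U e), ∀ e', valOn r _ h (G.fr hU e e') = a e'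

variable {G}

theorem Fit.eq {O : X.Opens} {r r' : (O : Scheme.{u}) ⟶ B.P} {U : S.Opens} {hU : IsAffineOpen U}
    {e : Γ(G.E, U)} {a : Γ(G.E, U) → Γ(X, O)} (h : Fit G r hU e a) (h' : Fit G r' hU e a) : r = r' := by
  obtain ⟨h1, h2⟩ := h
  obtain ⟨h1', h2'⟩ := h'
  have hD := B.isAffineOpen_D hU (G.mem U hU e)
  rw [← eq_toSpec r hD h1, ← eq_toSpec r' hD h1']
  congr 2
  refine CommRingCat.hom_ext (RingHom.ext fun z => ?_)
  have hz : z ∈ Subring.closure (Set.range (G.fr hU e)) := (G.closure_fr hU e).symm ▸ trivial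
  refine (RingHom.eqOn_set_closure (f := (valOn r _ h1).hom) (g := (valOn r' _ h1').hom) ?_ hz : _)
  rintro _ ⟨e', rfl⟩
  exact (h2 e').trans (h2' e').symm

theorem Fit.congr {O : X.Opens} {r : (O : Scheme.{u}) ⟶ B.P} {U : S.Opens} {hU : IsAffineOpen U}
    {e : Γ(G.E, U)} {a a' : Γ(G.E, U) → Γ(X, O)} (h : Fit G r hU e a) (ha : ∀ e', a e' = a' e') :
    Fit G r hU e a' :=
  ⟨h.1, fun e' => (h.2 e').trans (ha e')⟩

theorem Fit.homOfLE {O O' : X.Opens} (i : O' ≤ O) {r : (O : Scheme.{u}) ⟶ B.P} {U : S.Opens}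
    {hU : IsAffineOpen U} {e : Γ(G.E, U)} {a : Γ(G.E, U) → Γ(X, O)} (h : Fit G r hU e a) :
    Fit G (X.homOfLE i ≫ r) hU e (fun e' => rf i (a e')) := by
  obtain ⟨h1, h2⟩ := h
  have h3 : (⊤ : (O' : Scheme.{u}).Opens) ≤ (X.homOfLE i ≫ r) ⁻¹ᵁ B.D hU (G.g U e) := fun x _ =>
    h1 (show X.homOfLE i x ∈ (⊤ : (O : Scheme.{u}).Opens) from trivial)
  refine ⟨h3, fun e' => ?_⟩
  beta_reduce
  rw [valOn_homOfLE i r _ h1, ← h2]
  rfl

theorem g_rs {U W : S.Opens} (hU : IsAffineOpen U) (hW : IsAffineOpen W) (i : W ≤ U) (e : Γ(G.E, U)) :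
    B.alg.res hU hW i (G.g U e) = G.g W (rs G.E i e) :=
  PresheafOfModules.naturality_apply G.j.val (CategoryTheory.homOfLE i).op e |>.symm

/-- From a smaller affine open to a bigger one. -/
theorem Fit.of_res {O : X.Opens} {r : (O : Scheme.{u}) ⟶ B.P} {U W : S.Opens} {hU : IsAffineOpen U}
    {hW : IsAffineOpen W} (i : W ≤ U) {e : Γ(G.E, U)} {a : Γ(G.E, W) → Γ(X, O)}
    (h : Fit G r hW (rs G.E i e) a) : Fit G r hU e (fun e' => a (rs G.E i e')) := by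
  obtain ⟨h1, h2⟩ := h
  have hle : B.D hW (G.g W (rs G.E i e)) ≤ B.D hU (G.g U e) := by
    rw [← g_rs hU hW i e, B.D_res hW i (G.mem U hU e)]
    exact inf_le_left
  refine ⟨h1.trans (r.preimage_mono hle), fun e' => ?_⟩
  beta_reduce
  rw [← valOn_mono r hle h1, ← h2]
  refine congrArg (valOn r _ h1) ?_
  refine (B.isGen_sec (G.mem W hW (rs G.E i e)) _ le_rfl).1 ?_
  simp only [rs_self]
  rw [← B.sec_eq_frac_smul (G.mem W hW (rs G.E i e)) (G.mem W hW (rs G.E i e'))]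
  have h3 : ∀ f : Γ(G.E, U), rs B.O1 (B.D_le hW (G.g W (rs G.E i e))) (B.sec (G.mem W hW (rs G.E i f))) =
      rs B.O1 (hle.trans (B.D_le hU _)) (B.sec (G.mem U hU f)) := fun f => by
    rw [B.sec_congr (G.mem W hW (rs G.E i f)) ((B.alg.res hU hW i).map_mem (G.mem U hU f)) (g_rs hU hW i f).symm,
      ← B.sec_res hW i (G.mem U hU f), rs_rs]
  rw [h3, h3]
  have h4 := congrArg (rs B.O1 hle) (B.sec_eq_frac_smul (G.mem U hU e) (G.mem U hU e'))
  rw [rs_smul, rs_rs, rs_rs] at h4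
  exact h4.symm

/-- Changing the denominator. -/
theorem Fit.change {O : X.Opens} {r : (O : Scheme.{u}) ⟶ B.P} {U : S.Opens} {hU : IsAffineOpen U}
    {e e₂ : Γ(G.E, U)} {a a₂ : Γ(G.E, U) → Γ(X, O)} (h : Fit G r hU e a) (hu : IsUnit (a e₂))
    (ha : ∀ e', a₂ e' * a e₂ = a e') : Fit G r hU e₂ a₂ := by
  obtain ⟨h1, h2⟩ := h
  have hb : (⊤ : (O : Scheme.{u}).Opens) ≤ r ⁻¹ᵁ B.P.basicOpen (G.fr hU e e₂) := by
    have hu' : IsUnit (r.appLE _ ⊤ h1 (G.fr hU e e₂)) := by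
      rw [← h2] at hu
      exact (isUnit_map_iff O.topIso.commRingCatIsoToRingEquiv _).1 hu
    have h3 := (O : Scheme.{u}).basicOpen_of_isUnit hu'
    rw [Scheme.basicOpen_appLE] at h3
    exact h3.ge.trans inf_le_right
  rw [B.D_inf (G.mem U hU e) (G.mem U hU e₂)] at hb
  refine ⟨hb.trans (r.preimage_mono inf_le_right), fun e' => ?_⟩
  set D' := B.D hU (G.g U e) ⊓ B.D hU (G.g U e₂) with hD'
  refine hu.mul_left_injective ?_
  simp only
  rw [ha, ← h2, ← h2, ← valOn_mono r (inf_le_left : D' ≤ _) hb, ← valOn_mono r (inf_le_right : D' ≤ _) hb]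
  simp only [CommRingCat.comp_apply]
  rw [← map_mul]
  refine congrArg (valOn r D' hb) ?_
  change rf (inf_le_right : D' ≤ _) (G.fr hU e₂ e') * rf (inf_le_left : D' ≤ _) (G.fr hU e e₂) =
    rf (inf_le_left : D' ≤ _) (G.fr hU e e')
  have l1 : D' ≤ gloc (B.sec (G.mem U hU e)) := by rw [B.gloc_sec]; exact inf_le_left
  have l2 : D' ≤ gloc (B.sec (G.mem U hU e₂)) := by rw [B.gloc_sec]; exact inf_le_right
  rw [B.frac_eq_ratio _ _ _ l2, B.frac_eq_ratio _ _ _ l1, B.frac_eq_ratio _ _ _ l1, ratio_mul]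

/-- `r` is the morphism given by `v`. -/
structure IsMapFor (G : B.Gens) {q : X ⟶ S} {L : X.Modules} (v : G.E ⟶ (Scheme.Modules.pushforward q).obj L)
    (r : X ⟶ B.P) : Prop where
  hq : r ≫ B.p = q
  le : ∀ (U : S.Opens) (hU : IsAffineOpen U) (e : Γ(G.E, U)), gloc (ev v U e) ≤ r ⁻¹ᵁ B.D hU (G.g U e)
  frac : ∀ (U : S.Opens) (hU : IsAffineOpen U) (e e' : Γ(G.E, U)),
    r.appLE _ _ (le U hU e) (G.fr hU e e') = ratio (ev v U e) (ev v U e')

theorem IsMapFor.fit {q : X ⟶ S} {L : X.Modules} {v : G.E ⟶ (Scheme.Modules.pushforward q).obj L}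
    {r : X ⟶ B.P} (h : IsMapFor G v r) {U : S.Opens} (hU : IsAffineOpen U) (e : Γ(G.E, U)) :
    Fit G ((gloc (ev v U e)).ι ≫ r) hU e (fun e' => ratio (ev v U e) (ev v U e')) := by
  have h1 : (⊤ : (gloc (ev v U e) : Scheme.{u}).Opens) ≤
      ((gloc (ev v U e)).ι ≫ r) ⁻¹ᵁ B.D hU (G.g U e) := fun x _ => h.le U hU e x.2
  refine ⟨h1, fun e' => ?_⟩
  rw [valOn_ι r (h.le U hU e) h1]
  exact h.frac U hU e e'

theorem IsMapFor.eq {q : X ⟶ S} {L : X.Modules} {v : G.E ⟶ (Scheme.Modules.pushforward q).obj L}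
    (hv : Generates v) {r r' : X ⟶ B.P} (h : IsMapFor G v r) (h' : IsMapFor G v r') : r = r' := by
  choose U hU e hx using hv
  refine (X.openCoverOfIsOpenCover (fun x => gloc (ev v (U x) (e x)))
    (TopologicalSpace.IsOpenCover.mk (top_le_iff.1 fun x _ => Opens.mem_iSup.2 ⟨x, hx x⟩))).hom_ext _ _
    fun x => (h.fit (hU x) (e x)).eq (h'.fit (hU x) (e x))

end Groth.Agent.Lib.SymAlg.PE
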