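import Groth.Agent.Lib.SymAlg.PE.Adapted

/-!
# Composition of relatively very ample modules over an affine base
-/

noncomputable section

set_option autoImplicit false
universe u

open CategoryTheory CategoryTheory.Limits AlgebraicGeometry Opposite TopologicalSpace

namespace Groth.Agent.Lib.SymAlg.PE

open Groth.Agent.Lib TensorMod TensorMod.Basic TensorMod.Dual TensorMod.Gen TensorMod.HomGlue TensorMod.Pullback
  Ample.GenLocus Ample.Pow Ample.Extend Ample.Basis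

variable {X Y Z : Scheme.{u}}

/-- A point of the criterion from a section of the direct image over an affine base. -/
theorem crit_push_point [IsAffine Z] (q : X ⟶ Z) {M : X.Modules} {x : X} (S : Γ(M, (⊤ : X.Opens))) {T : X.Opens}
    (hS : gloc S = T) (hx : x ∈ T) {K' : Subring Γ(X, T)} (h : ImmOn T K')
    (hK' : K' ≤ Subring.closure {c | ∃ S' : Γ(M, (⊤ : X.Opens)), rs M le_top S' = c • rs M (le_top : T ≤ ⊤) S}) :
    ∃ (U : Z.Opens) (_ : IsAffineOpen U) (e : Γ((Scheme.Modules.pushforward q).obj M, U)),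
      x ∈ gloc (ev (𝟙 ((Scheme.Modules.pushforward q).obj M)) U e) ∧
        ImmOn (gloc (ev (𝟙 ((Scheme.Modules.pushforward q).obj M)) U e))
          (rats (𝟙 ((Scheme.Modules.pushforward q).obj M)) U e) := by
  subst hS
  refine ⟨⊤, isAffineOpen_top Z, S, hx, h.mono (hK'.trans (Subring.closure_le.2 ?_))⟩
  rintro c ⟨S', hS'⟩
  exact Subring.subset_closure ⟨S', (rf_self _ _).symm.trans (ratio_unique_on le_rfl hS')⟩

theorem rs_unitSec_ratio (f : X ⟶ Y) {K : Y.Modules} {W U : Y.Opens} (k k' : Γ(K, W)) (hU : U ≤ gloc k)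
    {T : X.Opens} (hT : T ≤ f ⁻¹ᵁ U) (hTW : T ≤ f ⁻¹ᵁ W) :
    rs ((pb f).obj K) hTW (unitSec f K k') =
      f.appLE U T hT (rf hU (ratio k k')) • rs ((pb f).obj K) hTW (unitSec f K k) := by
  rw [ratio_unitSec f k k' (hT.trans (f.preimage_mono hU)) hTW]
  congr 1
  change _ = (Y.presheaf.map (homOfLE hU).op ≫ f.appLE U T hT) (ratio k k')
  rw [Scheme.Hom.map_appLE]

theorem crit_point_comp [IsAffine Z] (f : X ⟶ Y) (g : Y ⟶ Z) {E' : Z.Modules} {K : Y.Modules}
    (hK : PicF.IsInvertible K) (w : E' ⟶ (Scheme.Modules.pushforward g).obj K) {M₀ : X.Modules}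
    (hM₀ : PicF.IsInvertible M₀) {x : X} {U : Y.Opens} (hU : IsAffineOpen U) (e : Γ(E', (⊤ : Z.Opens)))
    (hle : U ≤ gloc (ev w ⊤ e)) (hI : ImmOn (gloc (ev w ⊤ e)) (rats w ⊤ e)) (t : Γ(M₀, (⊤ : X.Opens)))
    {T : X.Opens} (hT : T ≤ f ⁻¹ᵁ U) (ht : gloc t = T) (hx : x ∈ T) {A : Set Γ(X, T)}
    (hA : ∀ c ∈ A, ∃ t' : Γ(M₀, (⊤ : X.Opens)), rs M₀ le_top t' = c • rs M₀ (le_top : T ≤ ⊤) t)
    (hImm : ImmOn T (Subring.closure (Set.range (f.appLE U T hT).hom ∪ A))) :
    let M := CohB1.tensorMod M₀ ((pb f).obj K)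
    ∃ (V : Z.Opens) (_ : IsAffineOpen V) (e : Γ((Scheme.Modules.pushforward (f ≫ g)).obj M, V)),
      x ∈ gloc (ev (𝟙 ((Scheme.Modules.pushforward (f ≫ g)).obj M)) V e) ∧
        ImmOn (gloc (ev (𝟙 ((Scheme.Modules.pushforward (f ≫ g)).obj M)) V e))
          (rats (𝟙 ((Scheme.Modules.pushforward (f ≫ g)).obj M)) V e) := by
  intro M
  have hfK : PicF.IsInvertible ((pb f).obj K) := PicLoc.isInvertible_pullback f hK
  let k : Γ((pb f).obj K, (⊤ : X.Opens)) := unitSec f K (ev w ⊤ e)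
  let S : Γ(M, (⊤ : X.Opens)) := SecTwist.tmul M₀ ((pb f).obj K) ⊤ t k
  have hS : gloc S = T := by
    change gloc (L := CohB1.tensorMod M₀ ((pb f).obj K)) (SecTwist.tmul M₀ ((pb f).obj K) ⊤ t k) = T
    rw [gloc_tmul hM₀ hfK, ht, inf_eq_left]
    exact (hT.trans (f.preimage_mono hle)).trans (gloc_unitSec f hK (ev w ⊤ e)).ge
  refine crit_push_point (f ≫ g) _ hS hx (ImmOn.replace f hU hT hImm (hI.res hle))
    (sup_le (Subring.closure_le.2 fun c hc => ?_)
      (Subring.map_le_iff_le_comap.2 (Subring.map_le_iff_le_comap.2 (Subring.closure_le.2 ?_))))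
  · obtain ⟨t', ht'⟩ := hA c hc
    refine Subring.subset_closure ⟨(SecTwist.tmul M₀ _ ⊤ t' k : Γ(M, (⊤ : X.Opens))), ?_⟩
    rw [rs_tmul, rs_tmul, ht', smul_tmul_left]; rfl
  · rintro _ ⟨a', rfl⟩
    let k' : Γ((pb f).obj K, (⊤ : X.Opens)) := unitSec f K (ev w ⊤ a')
    refine Subring.subset_closure ⟨(SecTwist.tmul M₀ _ ⊤ t k' : Γ(M, (⊤ : X.Opens))), ?_⟩
    rw [rs_tmul, rs_tmul, show rs ((pb f).obj K) (le_top : T ≤ ⊤) k' = _ from
      rs_unitSec_ratio f (ev w ⊤ e) (ev w ⊤ a') hle hT le_top, smul_tmul_right]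
    rfl

/-- One exponent. -/
theorem exists_isRelVeryAmple_comp_affine [IsAffine Z] (f : X ⟶ Y) [QuasiCompact f] [LocallyOfFiniteType f]
    (g : Y ⟶ Z) [QuasiCompact g] (L : X.Modules) (hL : PicF.IsInvertible L) (hLva : RelProj.IsRelVeryAmple f L)
    (K : Y.Modules) (hK : PicF.IsInvertible K) (hKva : RelProj.IsRelVeryAmple g K) :
    ∃ n₀ : ℕ, RelProj.IsRelVeryAmple (f ≫ g)
      (CohB1.tensorMod L ((pb f).obj (CohB1.tensorPow K n₀))) := by
  classical
  obtain ⟨E, hE, v, hv, hI⟩ := exists_data hLva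
  obtain ⟨E', hE', w, hw, hI'⟩ := exists_data hKva
  have := isSeparated_of_isRelVeryAmple hLva
  have := isSeparated_of_isRelVeryAmple hKva
  have hKa : CohB1.IsAmple K :=
    (Ample.RelAmple.isRelAmple_iff_isAmple g).1 (H58VA.RelVA.isRelAmple_of_isRelVeryAmple hKva)
  have : CompactSpace Y := QuasiCompact.compactSpace_of_compactSpace g
  have : CompactSpace X := QuasiCompact.compactSpace_of_compactSpace f
  have : QuasiSeparatedSpace Y := quasiSeparatedSpace_of_quasiSeparated g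
  have : QuasiSeparatedSpace X := quasiSeparatedSpace_of_quasiSeparated (f ≫ g)
  have : L.IsQuasicoherent := QCohInv.isQCoh_of_isInvertible hL
  obtain ⟨m, ι, hι, s, e, haff, hcov, hle⟩ := exists_adapted hKa hE' hw
  let P := (pb f).obj (CohB1.tensorPow K m)
  have hP : PicF.IsInvertible P := PicLoc.isInvertible_pullback f (Invertible.isInvertible_tensorPow hK m)
  let s' : ι → (Coh.structureModule X ⟶ P) := fun i => (PicLoc.pullbackStructureIso f).inv ≫ (pb f).map (s i)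
  have hW : ∀ i, CohB1.genLocus P (s' i) = f ⁻¹ᵁ CohB1.genLocus _ (s i) := fun i =>
    genLocus_pullback f (Invertible.isInvertible_tensorPow hK m) (s i) (PicLoc.pullbackStructureIso f).symm
  -- pieces
  have h1 : ∀ x : X, ∃ (i : ι) (m' : Γ(L, f ⁻¹ᵁ CohB1.genLocus _ (s i)))
      (A : Finset Γ(L, f ⁻¹ᵁ CohB1.genLocus _ (s i))), x ∈ gloc m' ∧
      ImmOn (gloc m') (Subring.closure (Set.range (f.appLE _ (gloc m') (gloc_le m')).hom ∪ ratio m' '' ↑A)) :=
    fun x => by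
    obtain ⟨i, hi⟩ := hcov (f x)
    obtain ⟨a, ha⟩ := hv.mem_affine hE (haff i) (x := x) hi
    obtain ⟨G₀, hG, hG₀, hImm⟩ := immOn_finite f (haff i) (gloc_le _)
      (isCompact_gloc hL (f.isCompact_preimage (haff i).isCompact) (ev v _ a)) (hI _ (haff i) a)
    obtain ⟨A, -, hA, rfl⟩ := Set.exists_subset_image_finite_and.1
      (⟨G₀, by rw [Set.image_univ]; exact hG, hG₀, rfl⟩ :
        ∃ t ⊆ (fun a' => ratio (ev v _ a) (ev v _ a')) '' Set.univ, t.Finite ∧ t = G₀)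
    refine ⟨i, ev v _ a, hA.toFinset.image (ev v _), ha, ?_⟩
    rwa [Finset.coe_image, Set.Finite.coe_toFinset, ← Set.image_comp]
  choose i mm A hmem hImm using h1
  obtain ⟨tX, htX⟩ := isCompact_univ.elim_finite_subcover (fun x => (gloc (mm x) : Set X))
    (fun x => (gloc (mm x)).isOpen) fun x _ => Set.mem_iUnion.2 ⟨x, hmem x⟩
  -- extensions
  have hext : ∀ᶠ c in Filter.atTop, ∀ x ∈ tX, ∀ n ∈ insert (mm x) (A x),
      ∃ t' : Γ(CohB1.tensorMod L (CohB1.tensorPow P c), ⊤),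
        rs _ (le_top : CohB1.genLocus P (s' (i x)) ≤ ⊤) t' = tw (s' (i x)) c (rs L (hW (i x)).le n) := by
    refine (Finset.eventually_all _).2 fun x _ => (Finset.eventually_all _).2 fun n _ => ?_
    exact eventually_extension hP (s' (i x)) _
  obtain ⟨c, hc⟩ := hext.exists
  choose t' ht' using hc
  let M₀ := CohB1.tensorMod (CohB1.tensorMod L (CohB1.tensorPow P c)) P
  have hM₀ : PicF.IsInvertible M₀ := Invertible.isInvertible_tensorMod
    (Invertible.isInvertible_tensorMod hL (Invertible.isInvertible_tensorPow hP c)) hP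
  let M := CohB1.tensorMod M₀ ((pb f).obj K)
  have hfK : PicF.IsInvertible ((pb f).obj K) := PicLoc.isInvertible_pullback f hK
  have hM : PicF.IsInvertible M := Invertible.isInvertible_tensorMod hM₀ hfK
  let T : ∀ x ∈ tX, ∀ n ∈ insert (mm x) (A x), Γ(M₀, ⊤) := fun x hx n hn =>
    SecTwist.tmul _ P ⊤ (t' x hx n hn) (sv (s' (i x)) ⊤)
  let fk : Γ(E', (⊤ : Z.Opens)) → Γ((pb f).obj K, (⊤ : X.Opens)) := fun a => unitSec f K (ev w ⊤ a)
  let Ψ : ∀ (x : X) (O : X.Opens), Γ(L, O) → Γ(M₀, O) := fun x O a =>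
    SecTwist.tmul _ P O (tw (s' (i x)) c a) (sv (s' (i x)) O)
  have hΨ : ∀ (x : X) (O : X.Opens) (r : Γ(X, O)) (a : Γ(L, O)), Ψ x O (r • a) = r • Ψ x O a := fun x O r a =>
    (congrArg (fun z => (SecTwist.tmul _ P O z (sv (s' (i x)) O) : Γ(M₀, O)))
      (smul_tmul_left r a (SecTwist.pow (s' (i x)) c O))).trans (smul_tmul_left _ _ _)
  have hT : ∀ x hx n hn (O : X.Opens) (hO : O ≤ f ⁻¹ᵁ CohB1.genLocus _ (s (i x))),
      rs M₀ le_top (T x hx n hn) = Ψ x O (rs L hO n) := fun x hx n hn O hO => by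
    have hO' : O ≤ CohB1.genLocus P (s' (i x)) := (hW (i x)).symm ▸ hO
    simp only [T, Ψ]
    rw [rs_tmul, rs_sv, ← rs_rs _ le_top hO', ht' x hx n hn, rs_twist, rs_rs]
  have hTloc : ∀ x hx n hn, gloc (T x hx n hn) = gloc n := fun x hx n hn => by
    have hg : IsGen P (CohB1.genLocus P (s' (i x))) (sv (s' (i x)) _) := isGen_genLocus _
    simp only [T]
    rw [gloc_tmul (Invertible.isInvertible_tensorMod hL (Invertible.isInvertible_tensorPow hP c)) hP, gloc_sv,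
      ← gloc_rs (le_top : CohB1.genLocus P (s' (i x)) ≤ ⊤), ht' x hx n hn,
      twist_eq (a := 1) (e := sv (s' (i x)) _) (one_smul _ _).symm, one_pow, one_smul,
      gloc_tmul hL (Invertible.isInvertible_tensorPow hP c), gloc_rs, gloc_eq_self (isGen_powSec hg c), inf_assoc,
      inf_idem, inf_eq_left, hW]
    exact gloc_le n
  have hcrit : Crit (𝟙 ((Scheme.Modules.pushforward (f ≫ g)).obj M)) := fun x => by
    obtain ⟨z, hz, hxz⟩ := Set.mem_iUnion₂.1 (htX (Set.mem_univ x))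
    refine crit_point_comp f g hK w hM₀ (haff (i z)) (e (i z)) (hle (i z)) (hI' ⊤ (isAffineOpen_top Z) _)
      (T z hz (mm z) (Finset.mem_insert_self _ _)) (gloc_le (mm z)) (hTloc z hz _ _) hxz
      (A := ratio (mm z) '' ↑(A z)) ?_ (hImm z)
    rintro _ ⟨n, hn, rfl⟩
    exact ⟨T z hz n (Finset.mem_insert_of_mem hn), by
      rw [hT z hz n _ _ (gloc_le (mm z)), hT z hz (mm z) _ _ (gloc_le (mm z)), ratio_spec (mm z) n, hΨ]⟩
  refine ⟨m * (c + 1) + 1, isRelVeryAmple_of_iso ?_ (isRelVeryAmple_of_crit (isQCoh_push hM) (𝟙 _) hcrit)⟩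
  exact tensorIso (Basic.assoc _ _ _) (Iso.refl _) ≪≫ Basic.assoc _ _ _ ≪≫
    tensorIso (Iso.refl L) (tensorIso ((pullbackPow f (CohB1.tensorPow K m) (c + 1)).symm ≪≫
      (pb f).mapIso (powMul K m (c + 1))) (Iso.refl _) ≪≫
      (pullbackTensorIso f (CohB1.tensorPow K (m * (c + 1))) K).symm)


end Groth.Agent.Lib.SymAlg.PE
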