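import Groth.Agent.Lib.SymAlg.PE.Compose

/-!
# Composition of relatively very ample modules over a quasi-compact base
-/

noncomputable section

set_option autoImplicit false
universe u

open CategoryTheory CategoryTheory.Limits AlgebraicGeometry Opposite TopologicalSpace

namespace Groth.Agent.Lib.SymAlg.PE

open Groth.Agent.Lib TensorMod TensorMod.Basic TensorMod.Dual TensorMod.Gen TensorMod.HomGlue TensorMod.Pullback
  Ample.GenLocus Ample.Pow Ample.Extend Ample.Basis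

variable {X Y Z : Scheme.{u}}

/-- All larger exponents. -/
theorem eventually_isRelVeryAmple_comp_affine [IsAffine Z] (f : X ⟶ Y) [QuasiCompact f] [LocallyOfFiniteType f]
    (g : Y ⟶ Z) [QuasiCompact g] (L : X.Modules) (hL : PicF.IsInvertible L) (hLva : RelProj.IsRelVeryAmple f L)
    (K : Y.Modules) (hK : PicF.IsInvertible K) (hKva : RelProj.IsRelVeryAmple g K) :
    ∃ n₀ : ℕ, ∀ n, n₀ ≤ n → RelProj.IsRelVeryAmple (f ≫ g)
      (CohB1.tensorMod L ((pb f).obj (CohB1.tensorPow K n))) := by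
  obtain ⟨n₀, hn₀⟩ := exists_isRelVeryAmple_comp_affine f g L hL hLva K hK hKva
  obtain ⟨E', hE', w, hw, -⟩ := exists_data hKva
  have := isSeparated_of_isRelVeryAmple hLva
  have := isSeparated_of_isRelVeryAmple hKva
  refine ⟨n₀, fun n hn => ?_⟩
  obtain ⟨j, rfl⟩ := Nat.exists_eq_add_of_le hn
  have hfK : PicF.IsInvertible ((pb f).obj K) := PicLoc.isInvertible_pullback f hK
  have hj := Invertible.isInvertible_tensorPow hfK j
  have h1 : Generates (𝟙 ((Scheme.Modules.pushforward (f ≫ g)).obj (CohB1.tensorPow ((pb f).obj K) j))) := fun x => by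
    obtain ⟨a, ha⟩ := hw.mem_affine hE' (isAffineOpen_top Z) (x := f x) trivial
    let fa : Γ((pb f).obj K, (⊤ : X.Opens)) := unitSec f K (ev w ⊤ a)
    refine ⟨⊤, isAffineOpen_top Z, (powSec fa j : Γ(CohB1.tensorPow ((pb f).obj K) j, (⊤ : X.Opens))), ?_⟩
    have hg : gloc fa ≤ gloc (powSec fa j) := le_gloc le_top (by rw [rs_powSec]; exact isGen_powSec (isGen_gloc fa) j)
    exact hg ((gloc_unitSec f hK (ev w ⊤ a)).ge ha)
  refine isRelVeryAmple_of_iso ?_ (isRelVeryAmple_tensor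
    (Invertible.isInvertible_tensorMod hL (PicLoc.isInvertible_pullback f (Invertible.isInvertible_tensorPow hK n₀)))
    hj hn₀ (isQCoh_push hj) _ h1)
  exact Basic.assoc _ _ _ ≪≫ tensorIso (Iso.refl L) (tensorIso (Iso.refl _) (pullbackPow f K j).symm ≪≫
    (pullbackTensorIso f _ _).symm ≪≫ (pb f).mapIso (powAdd K n₀ j).symm)

/-- Over a quasi-compact base. -/
theorem eventually_isRelVeryAmple_comp [CompactSpace Z] (f : X ⟶ Y) [QuasiCompact f] [LocallyOfFiniteType f]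
    (g : Y ⟶ Z) [QuasiCompact g] (L : X.Modules) (hL : PicF.IsInvertible L) (hLva : RelProj.IsRelVeryAmple f L)
    (K : Y.Modules) (hK : PicF.IsInvertible K) (hKva : RelProj.IsRelVeryAmple g K)
    (hres : ∀ {S T : Scheme.{u}} (q : T ⟶ S) (U : S.Opens) (N : T.Modules), PicF.IsInvertible N →
      RelProj.IsRelVeryAmple q N → RelProj.IsRelVeryAmple (q ∣_ U) ((pb (q ⁻¹ᵁ U).ι).obj N)) :
    ∃ n₀ : ℕ, 0 < n₀ ∧ ∀ n, n₀ ≤ n → RelProj.IsRelVeryAmple (f ≫ g)
      (CohB1.tensorMod L ((pb f).obj (CohB1.tensorPow K n))) := by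
  classical
  have h : ∀ z : Z, ∃ W : Z.Opens, z ∈ W ∧ ∃ n₀ : ℕ, ∀ n, n₀ ≤ n → RelProj.IsRelVeryAmple ((f ≫ g) ∣_ W)
      ((CohB1.tensorMod L ((pb f).obj (CohB1.tensorPow K n))).restrict ((f ≫ g) ⁻¹ᵁ W).ι) := fun z => by
    obtain ⟨W, hW, hzW, -⟩ := exists_isAffineOpen_mem_and_subset (x := z) (U := (⊤ : Z.Opens)) trivial
    haveI : IsAffine (W : Scheme.{u}) := hW
    let U := g ⁻¹ᵁ W
    let F := f ⁻¹ᵁ U
    obtain ⟨n₀, hn⟩ := eventually_isRelVeryAmple_comp_affine (f ∣_ U) (g ∣_ W) ((pb F.ι).obj L)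
      (PicLoc.isInvertible_pullback _ hL) (hres f U L hL hLva) ((pb U.ι).obj K)
      (PicLoc.isInvertible_pullback _ hK) (hres g W K hK hKva)
    refine ⟨W, hzW, n₀, fun n h => ?_⟩
    have h' := hn n h
    rw [← morphismRestrict_comp] at h'
    refine isRelVeryAmple_of_iso ?_ h'
    exact (tensorIso (Iso.refl _)
        ((pb (f ∣_ U)).mapIso (pullbackPow U.ι K n).symm ≪≫
          (Scheme.Modules.pullbackComp (f ∣_ U) U.ι).app _ ≪≫
          (Scheme.Modules.pullbackCongr (morphismRestrict_ι f U)).app _ ≪≫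
          ((Scheme.Modules.pullbackComp F.ι f).app _).symm) ≪≫
      (pullbackTensorIso F.ι _ _).symm) ≪≫ ((Scheme.Modules.restrictFunctorIsoPullback F.ι).app _).symm
  choose W hzW n₀ hn using h
  obtain ⟨T, hT⟩ := isCompact_univ.elim_finite_subcover (fun z => (W z : Set Z))
    (fun z => (W z).isOpen) fun z _ => Set.mem_iUnion.2 ⟨z, hzW z⟩
  refine ⟨T.sup n₀ + 1, Nat.succ_pos _, fun n h => isRelVeryAmple_of_local
    (Invertible.isInvertible_tensorMod hL (PicLoc.isInvertible_pullback f (Invertible.isInvertible_tensorPow hK n)))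
    fun z => ?_⟩
  obtain ⟨y, hy, hzy⟩ := Set.mem_iUnion₂.1 (hT (Set.mem_univ z))
  have := Finset.le_sup (f := n₀) hy
  exact ⟨W y, hzy, hn y n (by omega)⟩


end Groth.Agent.Lib.SymAlg.PE
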