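import Groth.Agent.Lib.SymAlg.PE.Restrict
import Groth.Agent.Lib.RelProjBasics.Basic
import Groth.Agent.Lib.QCoh.Pushforward
import Groth.Agent.Lib.TensorMod.QCohInv

/-!
# Locality on the base; the direct image as module of sections
-/

noncomputable section

set_option autoImplicit false
universe u

open CategoryTheory CategoryTheory.Limits AlgebraicGeometry Opposite TopologicalSpace

namespace Groth.Agent.Lib.SymAlg.PE

open Groth.Agent.Lib TensorMod TensorMod.Dual TensorMod.Gen TensorMod.HomGlue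

variable {S X : Scheme.{u}} {q : X ⟶ S} {L : X.Modules}

theorem isSeparated_of_isRelVeryAmple (h : RelProj.IsRelVeryAmple q L) : IsSeparated q := by
  obtain ⟨E, hE, 𝒮, j, hj, P, p, chart, hP, O1, lam, hO, i, hi, hiq, -⟩ := h
  have := RelProjBasics.Basic.isSeparated hP
  rw [← hiq]
  infer_instance

theorem isQCoh_push (hL : PicF.IsInvertible L) [QuasiCompact q] [QuasiSeparated q] :
    Coh.IsQCoh ((Scheme.Modules.pushforward q).obj L) := by
  have : L.IsQuasicoherent := QCohInv.isQCoh_of_isInvertible hL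
  exact QCoh.Pushforward.isQCoh_pushforward q (M := L)

/-- Sections over an open of the base give sections of the direct image. -/
theorem crit_push_of_local
    (h : ∀ x : X, ∃ V : S.Opens, q x ∈ V ∧ RelProj.IsRelVeryAmple (q ∣_ V) (L.restrict (q ⁻¹ᵁ V).ι)) :
    Crit (𝟙 ((Scheme.Modules.pushforward q).obj L)) := by
  intro x
  obtain ⟨V, hxV, hva⟩ := h x
  obtain ⟨E', -, v', hg, hI⟩ := exists_data hva
  obtain ⟨W, hW, e', hx'⟩ := hg ⟨x, hxV⟩
  let U : S.Opens := V.ι ''ᵁ W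
  have hUe : (q ⁻¹ᵁ V).ι ''ᵁ ((q ∣_ V) ⁻¹ᵁ W) = q ⁻¹ᵁ U := image_morphismRestrict_preimage q V W
  let m : Γ(E', W) → Γ((Scheme.Modules.pushforward q).obj L, U) := fun e₁ =>
    (rs L hUe.ge (up (q ⁻¹ᵁ V).ι (ev v' W e₁)) : Γ(L, q ⁻¹ᵁ U))
  have hev : ∀ e₁, ev (𝟙 ((Scheme.Modules.pushforward q).obj L)) U (m e₁) =
      rs L hUe.ge (up (q ⁻¹ᵁ V).ι (ev v' W e₁)) := fun _ => rfl
  have hgl : gloc (ev (𝟙 ((Scheme.Modules.pushforward q).obj L)) U (m e')) =
      (q ⁻¹ᵁ V).ι ''ᵁ gloc (ev v' W e') := by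
    rw [hev, gloc_rs, gloc_up, ← hUe]
    exact inf_eq_left.2 ((q ⁻¹ᵁ V).ι.image_mono (gloc_le _))
  refine ⟨U, hW.image_of_isOpenImmersion V.ι, m e', ?_, ?_⟩
  · rw [hgl]
    exact ⟨_, hx', rfl⟩
  refine immOn_rats_of_restrict (q ⁻¹ᵁ V).ι (hI W hW e') hgl (fun e₁ => ⟨m e₁, fun p p' => ?_⟩) fun p p' => ?_
  · exact rs_rs L hUe.ge p (up (q ⁻¹ᵁ V).ι (ev v' W _))
  · exact rs_rs L hUe.ge p (up (q ⁻¹ᵁ V).ι (ev v' W _))

theorem isRelVeryAmple_of_local [QuasiCompact q] (hL : PicF.IsInvertible L)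
    (h : ∀ x : S, ∃ V : S.Opens, x ∈ V ∧ RelProj.IsRelVeryAmple (q ∣_ V) (L.restrict (q ⁻¹ᵁ V).ι)) :
    RelProj.IsRelVeryAmple q L := by
  choose V hxV hva using h
  have : IsSeparated q := IsZariskiLocalAtTarget.of_iSup_eq_top (P := @IsSeparated) V
    (top_le_iff.1 fun x _ => Opens.mem_iSup.2 ⟨x, hxV x⟩) fun x => isSeparated_of_isRelVeryAmple (hva x)
  exact isRelVeryAmple_of_crit (isQCoh_push hL) (𝟙 _) (crit_push_of_local fun x => ⟨V (q x), hxV _, hva _⟩)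

end Groth.Agent.Lib.SymAlg.PE
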