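import Groth.Agent.Lib.SymAlg.PE.Restrict
import Groth.Agent.Lib.SymAlg.PE.Main
import Groth.Agent.Lib.SymAlg.PE.Local
import Groth.Agent.Lib.QCoh.Closure

/-!
# Very ample modules on disjoint unions
-/

noncomputable section

set_option autoImplicit false
universe u

open CategoryTheory CategoryTheory.Limits AlgebraicGeometry Opposite TopologicalSpace

namespace Groth.Agent.Lib.SymAlg.PE

open Groth.Agent.Lib TensorMod TensorMod.Basic TensorMod.Dual TensorMod.Gen TensorMod.HomGlue TensorMod.Pullback Ample.GenLocus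

variable {S X X' : Scheme.{u}}

theorem gloc_zero {L : X.Modules} {W : X.Opens} : gloc (0 : Γ(L, W)) = ⊥ := by
  have h := gloc_inf_eq (m := (0 : Γ(L, W))) (gloc_le _) (isGen_gloc (0 : Γ(L, W)))
    (a := (0 : Γ(X, gloc (0 : Γ(L, W))))) (by rw [zero_smul]; exact map_zero (L.presheaf.map (homOfLE (gloc_le _)).op).hom)
  rwa [inf_idem, Scheme.basicOpen_zero] at h

theorem eq_of_rs_eq {N : X.Modules} {A B V : X.Opens} (hV : V ≤ A ⊔ B) {a b : Γ(N, V)}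
    (hA : rs N (inf_le_left : V ⊓ A ≤ V) a = rs N inf_le_left b)
    (hB : rs N (inf_le_left : V ⊓ B ≤ V) a = rs N inf_le_left b) : a = b := by
  refine sections_ext_cover (fun i : Bool => bif i then A else B) N ?_ fun i => ?_
  · rw [iSup_bool_eq]
    exact hV
  · cases i
    exacts [hB, hA]

variable (j : X' ⟶ X) [IsOpenImmersion j] (q : X ⟶ S) {L : X.Modules} {E : S.Modules}

theorem image_preimage_comp (U : S.Opens) : j ''ᵁ ((j ≫ q) ⁻¹ᵁ U) = j.opensRange ⊓ q ⁻¹ᵁ U :=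
  j.image_preimage_eq_opensRange_inf (q ⁻¹ᵁ U)

/-- Extension by zero of a map to a direct image. -/
theorem exists_ext {O : X.Opens} (hdisj : j.opensRange ⊓ O = ⊥) (hcov : j.opensRange ⊔ O = ⊤)
    (v : E ⟶ (Scheme.Modules.pushforward (j ≫ q)).obj (L.restrict j)) :
    ∃ w : E ⟶ (Scheme.Modules.pushforward q).obj L, ∀ (U : S.Opens), IsAffineOpen U → ∀ e : Γ(E, U),
      gloc (ev w U e) = j ''ᵁ gloc (ev v U e) ∧
      ∀ (T : X.Opens) (p : T ≤ q ⁻¹ᵁ U) (p' : T ≤ j ''ᵁ ((j ≫ q) ⁻¹ᵁ U)),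
        rs L p (ev w U e) = rs L p' (up j (ev v U e)) := by
  have hA : ∀ U : S.Opens, j ''ᵁ ((j ≫ q) ⁻¹ᵁ U) ≤ q ⁻¹ᵁ U := fun U =>
    (image_preimage_comp j q U).trans_le inf_le_right
  have hex : ∀ (U : S.Opens) (e : Γ(E, U)), ∃ s : Γ(L, q ⁻¹ᵁ U),
      rs L (hA U) s = up j (ev v U e) ∧ rs L (inf_le_right : O ⊓ q ⁻¹ᵁ U ≤ q ⁻¹ᵁ U) s = 0 := fun U e => by
    let A := j ''ᵁ ((j ≫ q) ⁻¹ᵁ U)
    let B := O ⊓ q ⁻¹ᵁ U
    let V : Bool → X.Opens := fun b => bif b then A else B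
    let τ : ∀ b, Γ(L, V b) := fun b => match b with
      | true => up j (ev v U e)
      | false => 0
    have hAB : A ⊓ B ≤ ⊥ := fun x hx =>
      hdisj.le ⟨((image_preimage_comp j q U).le hx.1).1, hx.2.1⟩
    have hsub : ∀ {W : X.Opens}, W ≤ ⊥ → ∀ a b : Γ(L, W), a = b := fun {W} hW a b =>
      sections_ext_cover (fun i : PEmpty.{1} => (⊥ : X.Opens)) L (hW.trans bot_le) fun i => i.elim
    have hτ : TopCat.Presheaf.IsCompatible L.presheaf V τ := fun a b => by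
      cases a <;> cases b
      · rfl
      · exact hsub (inf_comm B A ▸ hAB) _ _
      · exact hsub hAB _ _
      · rfl
    have hc : q ⁻¹ᵁ U ≤ iSup V := by
      rw [iSup_bool_eq]
      intro x hx
      rcases hcov.ge (Opens.mem_top x) with h | h
      · exact Or.inl ((image_preimage_comp j q U).ge ⟨h, hx⟩)
      · exact Or.inr ⟨h, hx⟩
    have hle : ∀ b, V b ≤ q ⁻¹ᵁ U := fun b => by
      cases b
      exacts [inf_le_right, hA U]
    obtain ⟨s, hs, -⟩ := TopCat.Sheaf.existsUnique_gluing' (⟨L.presheaf, L.isSheaf⟩ : TopCat.Sheaf Ab.{u} X)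
      V (q ⁻¹ᵁ U) (fun b => homOfLE (hle b)) hc τ hτ
    exact ⟨s, hs true, hs false⟩
  choose σ hσA hσB using hex
  have huniq : ∀ (U : S.Opens) (s t : Γ(L, q ⁻¹ᵁ U)), rs L (hA U) s = rs L (hA U) t →
      rs L (inf_le_right : O ⊓ q ⁻¹ᵁ U ≤ q ⁻¹ᵁ U) s = rs L inf_le_right t → s = t := fun U s t h1 h2 => by
    refine eq_of_rs_eq (A := j.opensRange) (B := O) (hcov.ge.trans' le_top) ?_ ?_
    · have := congrArg (rs L ((inf_comm (q ⁻¹ᵁ U) j.opensRange).trans (image_preimage_comp j q U).symm).le) h1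
      rwa [rs_rs, rs_rs] at this
    · have := congrArg (rs L (inf_comm (q ⁻¹ᵁ U) O).le) h2
      rwa [rs_rs, rs_rs] at this
  obtain ⟨w, hw⟩ := ArtinFun.HomAffine.exists_hom_of_affine (M := E) (N := (Scheme.Modules.pushforward q).obj L)
    (fun U => AddMonoidHom.mk' (fun e => (σ U.1 e : Γ((Scheme.Modules.pushforward q).obj L, U.1))) fun a b => by
      refine huniq U.1 (σ U.1 (a + b)) (σ U.1 a + σ U.1 b) ?_ ?_
      · rw [hσA, rs, map_add]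
        change _ = rs L (hA U.1) (σ U.1 a) + rs L (hA U.1) (σ U.1 b)
        rw [hσA, hσA]
        exact (congrArg (up j) (map_add (v.app U.1).hom a b)).trans (map_add _ _ _)
      · rw [hσB, rs, map_add]
        change _ = rs L inf_le_right (σ U.1 a) + rs L inf_le_right (σ U.1 b)
        rw [hσB, hσB, add_zero])
    (fun U r e => by
      change σ U.1 (r • e) = q.app U.1 r • σ U.1 e
      refine huniq U.1 _ _ ?_ ?_
      · rw [hσA, rs_smul, hσA, ev_smul, up_smul]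
        congr 1
        change ((j.app (q ⁻¹ᵁ U.1) ≫ (j.appIso (j ⁻¹ᵁ (q ⁻¹ᵁ U.1))).inv) (q.app U.1 r)) = _
        rw [Scheme.Hom.app_appIso_inv]
        rfl
      · rw [hσB, rs_smul, hσB, smul_zero])
    (fun U V h e => by
      change rs L (q.preimage_mono h) (σ U.1 e) = σ V.1 (rs E h e)
      refine huniq V.1 _ _ ?_ ?_
      · rw [hσA, rs_rs, ← rs_rs L (hA U.1) (j.image_mono ((j ≫ q).preimage_mono h)), hσA, ← up_rs j ((j ≫ q).preimage_mono h), ev_rs]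
      · rw [hσB, rs_rs, ← rs_rs L (inf_le_right : O ⊓ q ⁻¹ᵁ U.1 ≤ _) (inf_le_inf_left O (q.preimage_mono h)), hσB]
        exact map_zero (L.presheaf.map _).hom)
  refine ⟨w, fun U hU e => ?_⟩
  have hev : ev w U e = σ U e := hw ⟨U, hU⟩ e
  rw [hev]
  refine ⟨le_antisymm (fun x hx => ?_) ?_, fun T p p' => ?_⟩
  · rcases hcov.ge (Opens.mem_top x) with h | h
    · have h1 : x ∈ gloc (σ U e) ⊓ j ''ᵁ ((j ≫ q) ⁻¹ᵁ U) :=
        ⟨hx, (image_preimage_comp j q U).ge ⟨h, gloc_le _ hx⟩⟩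
      rw [← gloc_rs (hA U), hσA, gloc_up] at h1
      exact h1
    · have h1 : x ∈ gloc (σ U e) ⊓ (O ⊓ q ⁻¹ᵁ U) := ⟨hx, h, gloc_le _ hx⟩
      rw [← gloc_rs (inf_le_right : O ⊓ q ⁻¹ᵁ U ≤ q ⁻¹ᵁ U), hσB, gloc_zero] at h1
      exact h1.elim
  · rw [← gloc_up, ← hσA, gloc_rs]
    exact inf_le_left
  · rw [← rs_rs L (hA U) p', hσA]

theorem isRelVeryAmple_restrict (h : RelProj.IsRelVeryAmple q L) :
    RelProj.IsRelVeryAmple (j ≫ q) ((Scheme.Modules.pullback j).obj L) := by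
  obtain ⟨E, hE, 𝒮, j', hj, P, p, chart, hP, O1, lam, hO, i, hi, hiq, ⟨τ⟩⟩ := h
  exact ⟨E, hE, 𝒮, j', hj, P, p, chart, hP, O1, lam, hO, j ≫ i, inferInstance,
    (Category.assoc _ _ _).trans (congrArg (j ≫ ·) hiq),
    ⟨(Scheme.Modules.pullback j).mapIso τ ≪≫ (Scheme.Modules.pullbackComp j i).app O1⟩⟩

theorem isRelVeryAmple_coprod {X₁ X₂ : Scheme.{u}} (q : X₁ ⨿ X₂ ⟶ S) {L : (X₁ ⨿ X₂).Modules}
    (h₁ : RelProj.IsRelVeryAmple (coprod.inl ≫ q) ((Scheme.Modules.pullback (coprod.inl : X₁ ⟶ X₁ ⨿ X₂)).obj L))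
    (h₂ : RelProj.IsRelVeryAmple (coprod.inr ≫ q) ((Scheme.Modules.pullback (coprod.inr : X₂ ⟶ X₁ ⨿ X₂)).obj L)) :
    RelProj.IsRelVeryAmple q L := by
  obtain ⟨E₁, hE₁, v₁, hg₁, hI₁⟩ := exists_data
    (isRelVeryAmple_of_iso ((Scheme.Modules.restrictFunctorIsoPullback _).app L).symm h₁)
  obtain ⟨E₂, hE₂, v₂, hg₂, hI₂⟩ := exists_data
    (isRelVeryAmple_of_iso ((Scheme.Modules.restrictFunctorIsoPullback _).app L).symm h₂)
  have hc := isCompl_opensRange_inl_inr X₁ X₂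
  obtain ⟨w₁, hw₁⟩ := exists_ext (coprod.inl : X₁ ⟶ X₁ ⨿ X₂) q hc.inf_eq_bot hc.sup_eq_top v₁
  obtain ⟨w₂, hw₂⟩ := exists_ext (coprod.inr : X₂ ⟶ X₁ ⨿ X₂) q
    ((inf_comm _ _).trans hc.inf_eq_bot) ((sup_comm _ _).trans hc.sup_eq_top) v₂
  have := hE₁
  have := hE₂
  haveI : E₁.IsQuasicoherent := hE₁
  haveI : E₂.IsQuasicoherent := hE₂
  refine isRelVeryAmple_of_crit (QCoh.Closure.isQCoh_biprod (M := E₁) (N := E₂)) (biprod.desc w₁ w₂) fun x => ?_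
  rcases hc.sup_eq_top.ge (Opens.mem_top x) with ⟨x₁, rfl⟩ | ⟨x₂, rfl⟩
  · obtain ⟨U, hU, e, hx⟩ := hg₁ x₁
    have hl : ∀ a : Γ(E₁, U), ev (biprod.desc w₁ w₂) U ((biprod.inl : E₁ ⟶ E₁ ⊞ E₂).app U a) = ev w₁ U a :=
      fun a => congrArg (fun φ : E₁ ⟶ (Scheme.Modules.pushforward q).obj L => ev φ U a) (biprod.inl_desc w₁ w₂)
    have hT : gloc (ev (biprod.desc w₁ w₂) U ((biprod.inl : E₁ ⟶ E₁ ⊞ E₂).app U e)) =
        (coprod.inl : X₁ ⟶ X₁ ⨿ X₂) ''ᵁ gloc (ev v₁ U e) := by rw [hl]; exact (hw₁ U hU e).1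
    refine ⟨U, hU, _, hT.ge ⟨x₁, hx, rfl⟩, immOn_rats_of_restrict _ (hI₁ U hU e) hT
      (fun a => ⟨(biprod.inl : E₁ ⟶ E₁ ⊞ E₂).app U a, fun p p' => ?_⟩) fun p p' => ?_⟩
    · exact (congrArg (rs L p) (hl a)).trans ((hw₁ U hU a).2 _ p p')
    · exact (congrArg (rs L p) (hl e)).trans ((hw₁ U hU e).2 _ p p')
  · obtain ⟨U, hU, e, hx⟩ := hg₂ x₂
    have hl : ∀ a : Γ(E₂, U), ev (biprod.desc w₁ w₂) U ((biprod.inr : E₂ ⟶ E₁ ⊞ E₂).app U a) = ev w₂ U a :=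
      fun a => congrArg (fun φ : E₂ ⟶ (Scheme.Modules.pushforward q).obj L => ev φ U a) (biprod.inr_desc w₁ w₂)
    have hT : gloc (ev (biprod.desc w₁ w₂) U ((biprod.inr : E₂ ⟶ E₁ ⊞ E₂).app U e)) =
        (coprod.inr : X₂ ⟶ X₁ ⨿ X₂) ''ᵁ gloc (ev v₂ U e) := by rw [hl]; exact (hw₂ U hU e).1
    refine ⟨U, hU, _, hT.ge ⟨x₂, hx, rfl⟩, immOn_rats_of_restrict _ (hI₂ U hU e) hT
      (fun a => ⟨(biprod.inr : E₂ ⟶ E₁ ⊞ E₂).app U a, fun p p' => ?_⟩) fun p p' => ?_⟩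
    · exact (congrArg (rs L p) (hl a)).trans ((hw₂ U hU a).2 _ p p')
    · exact (congrArg (rs L p) (hl e)).trans ((hw₂ U hU e).2 _ p p')

end Groth.Agent.Lib.SymAlg.PE
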