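import Groth.Agent.Lib.SymAlg.PE.OfMap
import Groth.Agent.Lib.SymAlg.Exists

/-!
# The criterion for relative very ampleness
-/

noncomputable section

set_option autoImplicit false
universe u

open CategoryTheory CategoryTheory.Limits AlgebraicGeometry Opposite TopologicalSpace
open scoped HomogeneousIdeal

namespace Groth.Agent.Lib.SymAlg.PE

open Groth.Agent.Lib TensorMod TensorMod.Dual TensorMod.Gen TensorMod.HomGlue TensorMod.Pullback Ample.GenLocus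

variable {S X : Scheme.{u}} {q : X ⟶ S} {L : X.Modules} {B : Tw S}

theorem sec_ratio_eq {G : B.Gens} {v : G.E ⟶ (Scheme.Modules.pushforward q).obj L} {r : X ⟶ B.P}
    (h : IsMapFor G v r) {W : S.Opens} (hW : IsAffineOpen W) (e e' : Γ(G.E, W)) {O : X.Opens}
    (hO : O ≤ gloc (ev v W e)) (hO' : O ≤ r ⁻¹ᵁ (B.p ⁻¹ᵁ W)) :
    rs ((pb r).obj B.O1) hO' (unitSec r B.O1 (B.sec (G.mem W hW e'))) =
      rf hO (ratio (ev v W e) (ev v W e')) • rs _ hO' (unitSec r B.O1 (B.sec (G.mem W hW e))) := by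
  have hle := h.le W hW e
  have h1 := congrArg (fun z => rs ((pb r).obj B.O1) (hO.trans hle) (unitSec r B.O1 z))
    (B.sec_eq_frac_smul (G.mem W hW e) (G.mem W hW e'))
  simp only [unitSec_smul, rs_smul, ← unitSec_rs r, rs_rs] at h1
  refine h1.trans (congrArg (· • _) ?_)
  rw [← h.frac W hW e e']
  change rf _ (r.app _ _) = rf _ (rf hle (r.app _ _))
  rw [rf_rf]

/-- Near a point, a coefficient relating two indices on both sides. -/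
theorem exists_common {G : B.Gens} {v : G.E ⟶ (Scheme.Modules.pushforward q).obj L} {r : X ⟶ B.P}
    (h : IsMapFor G v r) {U U' : S.Opens} (hU : IsAffineOpen U) (hU' : IsAffineOpen U') (e : Γ(G.E, U))
    (e' : Γ(G.E, U')) {x : X} (hx : x ∈ gloc (ev v U e)) (hx' : q x ∈ U') :
    ∃ (O : X.Opens) (c : Γ(X, O)) (hOe : O ≤ q ⁻¹ᵁ U) (hOe' : O ≤ q ⁻¹ᵁ U') (hPe : O ≤ r ⁻¹ᵁ (B.p ⁻¹ᵁ U))
      (hPe' : O ≤ r ⁻¹ᵁ (B.p ⁻¹ᵁ U')), x ∈ O ∧ O ≤ gloc (ev v U e) ∧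
      rs L hOe' (ev v U' e') = c • rs L hOe (ev v U e) ∧
      rs ((pb r).obj B.O1) hPe' (unitSec r B.O1 (B.sec (G.mem U' hU' e'))) =
        c • rs ((pb r).obj B.O1) hPe (unitSec r B.O1 (B.sec (G.mem U hU e))) := by
  obtain ⟨W, hW, hxW, hWle⟩ := exists_isAffineOpen_mem_and_subset (x := q x) (U := U ⊓ U')
    ⟨gloc_le (ev v U e) hx, hx'⟩
  have i : W ≤ U := hWle.trans inf_le_left
  have i' : W ≤ U' := hWle.trans inf_le_right
  let O := gloc (ev v U e) ⊓ q ⁻¹ᵁ W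
  have hO : O ≤ gloc (ev v W (rs G.E i e)) := by rw [gloc_ev_rs]
  have hPW : O ≤ r ⁻¹ᵁ (B.p ⁻¹ᵁ W) := inf_le_right.trans (le_of_eq (congrArg (fun f : X ⟶ S => f ⁻¹ᵁ W) h.hq.symm))
  refine ⟨O, rf hO (ratio (ev v W (rs G.E i e)) (ev v W (rs G.E i' e'))), inf_le_right.trans (q.preimage_mono i),
    inf_le_right.trans (q.preimage_mono i'), hPW.trans (r.preimage_mono (B.p.preimage_mono i)),
    hPW.trans (r.preimage_mono (B.p.preimage_mono i')), ⟨hx, hxW⟩, inf_le_left, ?_, ?_⟩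
  · have h1 := congrArg (rs L hO) (ratio_spec (ev v W (rs G.E i e)) (ev v W (rs G.E i' e')))
    rw [rs_smul, rs_rs, rs_rs] at h1
    have h2 : ∀ {V : S.Opens} (k : W ≤ V) (f : Γ(G.E, V)) (p : O ≤ q ⁻¹ᵁ W), rs L p (ev v W (rs G.E k f)) =
        rs L (p.trans (q.preimage_mono k)) (ev v V f) := fun k f p => by rw [← ev_rs v k f, rs_rs]
    rw [h2, h2] at h1
    exact h1
  · have h1 := sec_ratio_eq h hW (rs G.E i e) (rs G.E i' e') hO hPW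
    have h2 : ∀ {V : S.Opens} (hV : IsAffineOpen V) (k : W ≤ V) (f : Γ(G.E, V)),
        rs ((pb r).obj B.O1) hPW (unitSec r B.O1 (B.sec (G.mem W hW (rs G.E k f)))) =
          rs ((pb r).obj B.O1) (hPW.trans (r.preimage_mono (B.p.preimage_mono k)))
            (unitSec r B.O1 (B.sec (G.mem V hV f))) := fun hV k f => by
      rw [B.sec_congr (G.mem W hW (rs G.E k f)) ((B.alg.res hV hW k).map_mem (G.mem _ hV f)) (g_rs hV hW k f).symm,
        ← B.sec_res hW k (G.mem _ hV f), ← unitSec_rs r (B.p.preimage_mono k), rs_rs]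
    rw [h2 hU i e, h2 hU' i' e'] at h1
    exact h1

/-- The morphism given by generating sections pulls `O(1)` back to `L`. -/
theorem exists_tau {G : B.Gens}
    {v : G.E ⟶ (Scheme.Modules.pushforward q).obj L} (hv : Generates v) {r : X ⟶ B.P} (h : IsMapFor G v r) :
    ∃ τ : (Scheme.Modules.pullback r).obj B.O1 ≅ L,
      ∀ (U : S.Opens) (hU : IsAffineOpen U) (e : Γ(G.E, U)),
        ev v U e = rs L (le_of_eq (congrArg (fun f : X ⟶ S => f ⁻¹ᵁ U) h.hq.symm))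
          (τ.hom.app (r ⁻¹ᵁ (B.p ⁻¹ᵁ U)) (unitSec r B.O1 (B.sec (G.mem U hU e)))) := by
  let ι : Type u := Σ U : S.affineOpens, Γ(G.E, U.1)
  let T : ι → X.Opens := fun i => gloc (ev v i.1.1 i.2)
  have hTq : ∀ i : ι, T i ≤ q ⁻¹ᵁ i.1.1 := fun i => gloc_le _
  have hTr : ∀ i : ι, T i ≤ r ⁻¹ᵁ B.D i.1.2 (G.g i.1.1 i.2) := fun i => h.le i.1.1 i.1.2 i.2
  have hTP : ∀ i : ι, T i ≤ r ⁻¹ᵁ (B.p ⁻¹ᵁ i.1.1) := fun i => (hTr i).trans (r.preimage_mono (B.D_le _ _))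
  have hcov : iSup T = ⊤ := top_le_iff.1 fun x _ => by
    obtain ⟨U, hU, e, hx⟩ := hv x
    exact Opens.mem_iSup.2 ⟨⟨⟨U, hU⟩, e⟩, hx⟩
  let a : ∀ i : ι, Γ((pb r).obj B.O1, T i) := fun i =>
    rs _ (hTP i) (unitSec r B.O1 (B.sec (G.mem i.1.1 i.1.2 i.2)))
  have ha : ∀ i, IsGen ((pb r).obj B.O1) (T i) (a i) := fun i => by
    have h1 := (isGen_unitSec r (B.isGen_sec (G.mem i.1.1 i.1.2 i.2))).res (hTr i)
    rwa [← unitSec_rs r (B.D_le i.1.2 _), rs_rs] at h1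
  let b : ∀ i : ι, Γ(L, T i) := fun i => rs L (hTq i) (ev v i.1.1 i.2)
  obtain ⟨τ, hτ⟩ := exists_iso_of_gen hcov a ha b (fun i => isGen_gloc _) fun i i' W hi hi' c hc => by
    have key : ∀ x ∈ W, ∃ O : X.Opens, x ∈ O ∧ ∃ hO : O ≤ W,
        rs L hO (rs L hi (b i)) = rs L hO (c • rs L hi' (b i')) := by
      intro x hx
      obtain ⟨O, d, hOe, hOe', hPe, hPe', hxO, hOT, h1, h2⟩ :=
        exists_common h i'.1.2 i.1.2 i'.2 i.2 (x := x) (hi' hx) (hTq i (hi hx))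
      refine ⟨W ⊓ O, ⟨hx, hxO⟩, inf_le_left, ?_⟩
      have h3 := congrArg (rs ((pb r).obj B.O1) (inf_le_left : W ⊓ O ≤ W)) hc
      have h4 := congrArg (rs ((pb r).obj B.O1) (inf_le_right : W ⊓ O ≤ O)) h2
      simp only [a, rs_smul, rs_rs] at h3 h4
      have h5 : rf (inf_le_left : W ⊓ O ≤ W) c = rf (inf_le_right : W ⊓ O ≤ O) d :=
        (ha i' _ (inf_le_left.trans hi')).1 (by simp only [a, rs_rs]; exact h3.symm.trans h4)
      have h6 := congrArg (rs L (inf_le_right : W ⊓ O ≤ O)) h1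
      simp only [b, rs_smul, rs_rs] at h6 ⊢
      rw [h6, h5]
    choose O hxO hOW hO using key
    refine sections_ext_cover (fun x : W => O x.1 x.2) L (fun x hx => Opens.mem_iSup.2 ⟨⟨x, hx⟩, hxO x hx⟩) fun x => ?_
    have h7 := congrArg (rs L (inf_le_right : W ⊓ O x.1 x.2 ≤ O x.1 x.2)) (hO x.1 x.2)
    simp only [rs_rs] at h7 ⊢
    exact h7
  refine ⟨τ, fun U hU e => ?_⟩
  have key : ∀ x : ↥(q ⁻¹ᵁ U), ∃ O : X.Opens, x.1 ∈ O ∧ ∃ hO : O ≤ q ⁻¹ᵁ U,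
      rs L hO (ev v U e) = rs L hO (rs L (le_of_eq (congrArg (fun f : X ⟶ S => f ⁻¹ᵁ U) h.hq.symm))
        (τ.hom.app (r ⁻¹ᵁ (B.p ⁻¹ᵁ U)) (unitSec r B.O1 (B.sec (G.mem U hU e))))) := by
    rintro ⟨x, hx⟩
    obtain ⟨U₀, hU₀, e₀, hx₀⟩ := hv x
    obtain ⟨O, c, hOe, hOe', hPe, hPe', hxO, hOT, h1, h2⟩ := exists_common h hU₀ hU e₀ e hx₀ hx
    refine ⟨O, hxO, hOe', ?_⟩
    have h3 : τ.hom.app (T ⟨⟨U₀, hU₀⟩, e₀⟩) (a ⟨⟨U₀, hU₀⟩, e₀⟩) = b ⟨⟨U₀, hU₀⟩, e₀⟩ := hτ ⟨⟨U₀, hU₀⟩, e₀⟩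
    have h4 := congrArg (rs L hOT) h3
    simp only [a, b] at h4
    rw [rs_app, rs_rs, rs_rs] at h4
    rw [h1]
    refine (congrArg (c • ·) h4.symm).trans ?_
    rw [← Scheme.Modules.Hom.app_smul, ← h2]
    refine (rs_app τ.hom hPe' _).symm.trans ?_
    exact (rs_rs L _ _ _).symm
  choose O hxO hOU hO using key
  refine sections_ext_cover O L (fun x hx => Opens.mem_iSup.2 ⟨⟨x, hx⟩, hxO ⟨x, hx⟩⟩) fun x => ?_
  have h5 := congrArg (rs L (inf_le_right : q ⁻¹ᵁ U ⊓ O x ≤ O x)) (hO x)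
  simp only [rs_rs] at h5 ⊢
  exact h5

end Groth.Agent.Lib.SymAlg.PE
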