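import Groth.Agent.S9819
import Groth.Agent.Lib.CohBasics.Closure
import Groth.Agent.Lib.CohBasics.Affine
import Groth.Agent.Lib.Modules.AffineSections

/-!
# Finitely many sections factor through a quasi-coherent module of finite type
-/

noncomputable section

set_option autoImplicit false
universe u

open CategoryTheory CategoryTheory.Limits AlgebraicGeometry Opposite TopologicalSpace

namespace Groth.Agent.Lib.SymAlg.PE

open Groth.Agent.Lib

theorem exists_ft_through {X : Scheme.{u}} [CompactSpace X] [QuasiSeparatedSpace X] (F : X.Modules)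
    [F.IsQuasicoherent] {κ : Type*} [Finite κ] (W : κ → X.affineOpens) (t : ∀ k, Γ(F, (W k).1)) :
    ∃ (S : X.Modules) (d : S ⟶ F), S.IsQuasicoherent ∧ CohB1.IsFT S ∧
      ∀ k, ∃ a : Γ(S, (W k).1), d.app (W k).1 a = t k := by
  classical
  haveI : Coh.IsQCoh F := ‹F.IsQuasicoherent›
  choose G i _ hGq hGf g hg using fun k => Groth.Agent.S9819.result F (W k) (t k)
  haveI := Fintype.ofFinite κ
  suffices ∀ s : Finset κ, ∃ (S : X.Modules) (d : S ⟶ F), S.IsQuasicoherent ∧ CohB1.IsFT S ∧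
      ∀ k ∈ s, ∃ a : Γ(S, (W k).1), d.app (W k).1 a = t k by
    obtain ⟨S, d, hq, hf, hd⟩ := this Finset.univ
    exact ⟨S, d, hq, hf, fun k => hd k (Finset.mem_univ k)⟩
  intro s
  induction s using Finset.induction_on with
  | empty =>
    have hz := isZero_kernel_of_mono (𝟙 F)
    haveI := QCoh.Closure.isQCoh_kernel (𝟙 F)
    refine ⟨kernel (𝟙 F), kernel.ι (𝟙 F), QCoh.Closure.isQCoh_kernel (𝟙 F),
      CohBasics.Affine.isFiniteType_of_finite_sections (M := kernel (𝟙 F)) ?_, by simp⟩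
    intro x
    obtain ⟨V, hV, hx, -⟩ := exists_isAffineOpen_mem_and_subset (U := (⊤ : X.Opens)) (x := x) trivial
    haveI := Modules.AffineSections.subsingleton_sections hz V
    exact ⟨V, hV, hx, inferInstance⟩
  | insert a s _ ih =>
    obtain ⟨S, d, hq, hf, hd⟩ := ih
    have hb := CohBasics.Closure.isCoh_biprod (M := S) (N := G a) ⟨hq, hf⟩ ⟨hGq a, hGf a⟩
    refine ⟨S ⊞ G a, biprod.desc d (i a), hb.1, hb.2, fun k hk => ?_⟩
    rcases Finset.mem_insert.mp hk with rfl | hk
    · refine ⟨(biprod.inr : G k ⟶ S ⊞ G k).app (W k).1 (g k), ?_⟩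
      exact (congrArg (fun φ : G k ⟶ F => φ.app (W k).1 (g k)) (biprod.inr_desc d (i k))).trans (hg k)
    · obtain ⟨b, hb'⟩ := hd k hk
      refine ⟨(biprod.inl : S ⟶ S ⊞ G a).app (W k).1 b, ?_⟩
      exact (congrArg (fun φ : S ⟶ F => φ.app (W k).1 b) (biprod.inl_desc d (i a))).trans hb'

end Groth.Agent.Lib.SymAlg.PE
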