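import Groth.Agent.Lib.Ample.CounitCrit
import Groth.Agent.Lib.SymAlg.PE.FTSub
import Groth.Agent.Lib.QCoh.Pushforward
import Groth.Agent.H58VA.RelVA
import Groth.Agent.Lib.SymAlg.PE.Local

/-!
# Twists are quotients of pullbacks of modules of finite type on the base
-/

noncomputable section

set_option autoImplicit false
universe u

open CategoryTheory CategoryTheory.Limits AlgebraicGeometry Opposite TopologicalSpace

namespace Groth.Agent.Lib.SymAlg.PE

open Groth.Agent.Lib TensorMod TensorMod.Basic TensorMod.Free TensorMod.Dual TensorMod.Gen TensorMod.Pullback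
  TensorMod.LocIso Ample.GG Ample.Pow Modules.StalkModule

variable {Y Z : Scheme.{u}}

/-- An element in the span of germs is, near the point, a section in the span of finitely many germs. -/
theorem exists_finite_span_nhd {M : Y.Modules} {O : Y.Opens} {y : Y} (hy : y ∈ O) {v : M.presheaf.stalk y}
    (hv : v ∈ Submodule.span (Y.presheaf.stalk y) (Set.range fun t : Γ(M, O) => gm hy t)) :
    ∃ (A : Finset Γ(M, O)) (W : Y.Opens) (hW : W ≤ O) (hyW : y ∈ W) (a : Γ(M, W)), gm hyW a = v ∧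
      ∀ (z : Y) (hz : z ∈ W), gm hz a ∈ Submodule.span (Y.presheaf.stalk z) ((fun t => gm (hW hz) t) '' ↑A) := by
  classical
  induction hv using Submodule.span_induction with
  | mem v hv =>
    obtain ⟨t, rfl⟩ := hv
    exact ⟨{t}, O, le_rfl, hy, t, rfl, fun z hz => Submodule.subset_span ⟨t, Finset.mem_singleton_self t, rfl⟩⟩
  | zero => exact ⟨∅, O, le_rfl, hy, 0, map_zero (M.presheaf.germ O y hy).hom,
      fun z hz => (show gm hz (0 : Γ(M, O)) = 0 from map_zero (M.presheaf.germ O z hz).hom) ▸ Submodule.zero_mem _⟩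
  | add v w _ _ hv hw =>
    obtain ⟨A, W, hW, hyW, a, ha, hA⟩ := hv
    obtain ⟨B, W', hW', hyW', b, hb, hB⟩ := hw
    refine ⟨A ∪ B, W ⊓ W', inf_le_left.trans hW, ⟨hyW, hyW'⟩, rs M inf_le_left a + rs M inf_le_right b, ?_,
      fun z hz => ?_⟩
    · rw [gm, map_add]
      change gm _ (rs M _ a) + gm _ (rs M _ b) = _
      rw [gm_rs, gm_rs, ha, hb]
    · rw [gm, map_add]
      change gm hz (rs M _ a) + gm hz (rs M _ b) ∈ _
      rw [gm_rs, gm_rs]
      refine Submodule.add_mem _ (Submodule.span_mono ?_ (hA z hz.1)) (Submodule.span_mono ?_ (hB z hz.2))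
      · exact Set.image_mono (Finset.coe_subset.2 Finset.subset_union_left)
      · exact Set.image_mono (Finset.coe_subset.2 Finset.subset_union_right)
  | smul r v _ hv =>
    obtain ⟨A, W, hW, hyW, a, ha, hA⟩ := hv
    obtain ⟨W', hyW', r', rfl⟩ := TopCat.Presheaf.exists_germ_eq Y.presheaf r
    refine ⟨A, W ⊓ W', inf_le_left.trans hW, ⟨hyW, hyW'⟩, rf (inf_le_right : W ⊓ W' ≤ W') r' • rs M (inf_le_left : W ⊓ W' ≤ W) a, ?_,
      fun z hz => ?_⟩
    · rw [gm_smul, gm_rs, ha]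
      congr 1
      exact TopCat.Presheaf.germ_res_apply Y.presheaf (homOfLE inf_le_right) y ⟨hyW, hyW'⟩ r'
    · rw [gm_smul, gm_rs]
      exact Submodule.smul_mem _ _ (hA z hz.1)

/-- Finitely many of generating sections generate nearby. -/
theorem exists_finite_gen_nhd {M : Y.Modules} [SheafOfModules.IsFiniteType (R := Y.ringCatSheaf) M] {O : Y.Opens}
    {y : Y} (hy : y ∈ O)
    (h : Submodule.span (Y.presheaf.stalk y) (Set.range fun t : Γ(M, O) => gm hy t) = ⊤) :
    ∃ (A : Finset Γ(M, O)) (W : Y.Opens) (hW : W ≤ O), y ∈ W ∧ ∀ (z : Y) (hz : z ∈ W),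
      Submodule.span (Y.presheaf.stalk z) ((fun t : Γ(M, O) => gm (hW hz) t) '' (A : Set Γ(M, O))) = ⊤ := by
  classical
  obtain ⟨U, hyU, n, s, hs⟩ := Modules.GenStalk.exists_span_stalk_of_isFiniteType M y
  choose A W hW hyW a ha hA using fun k : Fin n => exists_finite_span_nhd hy
    (h.ge (Submodule.mem_top (x := gm hyU (s k))))
  choose V hyV i₁ i₂ hV using fun k : Fin n =>
    TopCat.Presheaf.germ_eq M.presheaf y (hyW k) hyU (a k) (s k) (ha k)
  let Ω : Y.Opens := (⟨⋂ k, (V k : Set Y), isOpen_iInter_of_finite fun k => (V k).isOpen⟩ : Y.Opens) ⊓ (O ⊓ U)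
  refine ⟨Finset.univ.biUnion A, Ω, inf_le_right.trans inf_le_left, ⟨Set.mem_iInter.2 hyV, hy, hyU⟩, fun z hz => ?_⟩
  rw [eq_top_iff, ← hs z hz.2.2, Submodule.span_le]
  rintro _ ⟨k, rfl⟩
  have hzV : z ∈ V k := Set.mem_iInter.1 hz.1 k
  have e : gm ((i₁ k).le hzV) (a k) = gm hz.2.2 (s k) :=
    (TopCat.Presheaf.germ_res_apply M.presheaf (i₁ k) z hzV (a k)).symm.trans
      ((congrArg (fun c => M.presheaf.germ (V k) z hzV c) (hV k)).trans
        (TopCat.Presheaf.germ_res_apply M.presheaf (i₂ k) z hzV (s k)))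
  change gm hz.2.2 (s k) ∈ Submodule.span _ _
  rw [← e]
  refine Submodule.span_mono ?_ (hA k z ((i₁ k).le hzV))
  rintro _ ⟨t, ht, rfl⟩
  exact ⟨t, Finset.mem_biUnion.2 ⟨k, Finset.mem_univ k, ht⟩, rfl⟩

/-- Twists of a module of finite type by high powers of a relatively ample module are quotients of pullbacks
of modules of finite type. -/
theorem eventually_exists_ft_quot [CompactSpace Z] [QuasiSeparatedSpace Z] (g : Y ⟶ Z) [QuasiCompact g]
    [QuasiSeparated g] {K : Y.Modules} (hK : _root_.RelAmple.IsRelAmple g K) {E : Y.Modules} (hE : Coh.IsCoh E) :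
    ∃ m₀ : ℕ, ∀ m : ℕ, m₀ ≤ m →
      ∃ (F : Z.Modules) (φ : (Scheme.Modules.pullback g).obj F ⟶ CohB1.tensorMod E (CohB1.tensorPow K m)),
        Coh.IsQCoh F ∧ CohB1.IsFT F ∧ Epi φ := by
  classical
  have : CompactSpace Y := QuasiCompact.compactSpace_of_compactSpace g
  have hKi := Ample.RelAmple.isInvertible_of_isRelAmple hK
  have hA := ((Ample.RelAmple.isRelAmple_iff g).1 hK).2
  choose V hV hxV using fun y : Y =>
    (exists_isAffineOpen_mem_and_subset (X := Z) (x := g y) (U := ⊤) (memTop _)).imp fun V hV => And.intro hV.1 hV.2.1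
  obtain ⟨T, hT⟩ := isCompact_univ.elim_finite_subcover (fun y => (g ⁻¹ᵁ V y : Set Y))
    (fun y => (g ⁻¹ᵁ V y).isOpen) fun y _ => Set.mem_iUnion.2 ⟨y, hxV y⟩
  have hn : ∀ y : Y, ∃ n₀ : ℕ, ∀ n, n₀ ≤ n → ∀ z, GenAt (CohB1.tensorMod ((pb (g ⁻¹ᵁ V y).ι).obj E)
      (CohB1.tensorPow ((pb (g ⁻¹ᵁ V y).ι).obj K) n)) z := fun y => by
    haveI := Ample.Pullback.quasiSeparatedSpace_of_isAmple (hA _ (hV y))
    exact eventually_genAt_twist (hA _ (hV y)) _ (Cyc.FP.Stalk.isCoh_pullback _ hE)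
  choose n₀ hn₀ using hn
  refine ⟨T.sup n₀, fun n hn => ?_⟩
  set M := CohB1.tensorMod E (CohB1.tensorPow K n) with hMdef
  have hKc : Coh.IsCoh (CohB1.tensorPow K n) := isCoh_of_isInvertible (Invertible.isInvertible_tensorPow hKi n)
  have := hE.1; have := hE.2; have := hKc.1; have := hKc.2
  haveI : M.IsQuasicoherent := TensorMod.TensorQCoh.isQCoh_tensorMod _ _
  haveI : SheafOfModules.IsFiniteType (R := Y.ringCatSheaf) M := TensorMod.TensorQCoh.isFiniteType_tensorMod _ _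
  -- generation of stalks by sections over preimages
  have hspan : ∀ x : Y, ∃ y ∈ T, ∃ hx : x ∈ g ⁻¹ᵁ V y,
      Submodule.span (Y.presheaf.stalk x) (Set.range fun t : Γ(M, g ⁻¹ᵁ V y) => gm hx t) = ⊤ := fun x => by
    obtain ⟨y, hy, hxy⟩ := Set.mem_iUnion₂.1 (hT (Set.mem_univ x))
    refine ⟨y, hy, hxy, eq_top_iff.2 fun v _ => ?_⟩
    let O := g ⁻¹ᵁ V y
    have h' := GenAt.of_iso (tensorIso (Iso.refl _) (Ample.Pow.pullbackPow O.ι K n).symm ≪≫
      (pullbackTensorIso O.ι E _).symm ≪≫ ((Scheme.Modules.restrictFunctorIsoPullback O.ι).app M).symm)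
      (hn₀ y n ((Finset.le_sup (f := n₀) hy).trans hn) ⟨x, hxy⟩)
    obtain ⟨w, hw⟩ := (Modules.StalkRestrict.restrictStalkAddEquiv O.ι M ⟨x, hxy⟩).surjective v
    change (M.presheaf.stalk (O.ι ⟨x, hxy⟩) : Type u) at v
    have hmem : v ∈ Submodule.span (Y.presheaf.stalk (O.ι ⟨x, hxy⟩))
        (Modules.StalkRestrict.restrictStalkAddEquiv O.ι M ⟨x, hxy⟩ ''
          Set.range fun t : Γ(M.restrict O.ι, ⊤) => gm (memTop _) t) := by
      rw [← SetLike.mem_coe]
      exact (Modules.StalkRestrict.span_image_restrictStalkAddEquiv O.ι M ⟨x, hxy⟩ _).ge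
        ⟨w, h'.ge Submodule.mem_top, hw⟩
    refine Submodule.span_le.2 ?_ hmem
    rintro _ ⟨_, ⟨t, rfl⟩, rfl⟩
    refine Submodule.subset_span ⟨rs M O.ι_image_top.ge t, ?_⟩
    refine (gm_rs (M := M) O.ι_image_top.ge hxy _).trans ?_
    exact (Modules.StalkRestrict.restrictStalkAddEquiv_germ O.ι M (U := ⊤) (x := (⟨x, hxy⟩ : (O : Scheme.{u}))) (memTop _) t).symm
  choose y hyT hxy hsp using hspan
  choose A W hW hxW hgen using fun x => exists_finite_gen_nhd (hxy x) (hsp x)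
  obtain ⟨S, hS⟩ := isCompact_univ.elim_finite_subcover (fun x => (W x : Set Y)) (fun x => (W x).isOpen)
    fun x _ => Set.mem_iUnion.2 ⟨x, hxW x⟩
  haveI : ((Scheme.Modules.pushforward g).obj M).IsQuasicoherent := QCoh.Pushforward.isQCoh_pushforward g (M := M)
  obtain ⟨F, d, hFq, hFft, hd⟩ := exists_ft_through ((Scheme.Modules.pushforward g).obj M)
    (κ := Σ x : {x // x ∈ S}, {t // t ∈ A x.1}) (fun k => ⟨V (y k.1.1), hV _⟩) (fun k => k.2.1)
  refine ⟨F, (pb g).map d ≫ (pbAdj g).counit.app M, hFq, hFft, ?_⟩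
  refine (Modules.Stalk.epi_iff_stalk_surjective _).2 fun x (v : M.presheaf.stalk x) => ?_
  obtain ⟨z, hz, hxz⟩ := Set.mem_iUnion₂.1 (hS (Set.mem_univ x))
  let φ : (pb g).obj F ⟶ M := (pb g).map d ≫ (pbAdj g).counit.app M
  suffices h : LinearMap.range (stalkMapₗ φ x) = ⊤ from h.ge (Submodule.mem_top (x := v))
  rw [eq_top_iff, ← hgen z x hxz, Submodule.span_le]
  rintro _ ⟨t, ht, rfl⟩
  obtain ⟨a, ha⟩ := hd ⟨⟨z, hz⟩, t, ht⟩
  refine ⟨gm (M := (pb g).obj F) (hW z hxz) (unitSec g F a), (stalkMapₗ_germ φ _ _).trans (congrArg (gm (hW z hxz)) ?_)⟩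
  change ((pbAdj g).counit.app M).app _ (((pb g).map d).app _ (unitSec g F a)) = t
  rw [unit_natural_app g d a, ha]
  exact Ample.QAffCounit.counit_app_unitSec g M (V (y z)) t

end Groth.Agent.Lib.SymAlg.PE
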