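import Groth.Agent.Lib.SymAlg.PE.Main
import Groth.Agent.Lib.ProjMor.Pieces
import Groth.Agent.Lib.ProjMor.VeryAmple
import Groth.Agent.Lib.QCoh.Localizing

/-!
# Finitely many sections suffice
-/

noncomputable section

set_option autoImplicit false
universe u

open CategoryTheory CategoryTheory.Limits AlgebraicGeometry Opposite TopologicalSpace

namespace Groth.Agent.Lib.SymAlg.PE

open Groth.Agent.Lib TensorMod TensorMod.Dual TensorMod.Gen TensorMod.HomGlue

variable {S X : Scheme.{u}}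

/-- Generation can be tested on any affine open of the base. -/
theorem Generates.mem_affine {q : X ⟶ S} {E : S.Modules} {L : X.Modules}
    {v : E ⟶ (Scheme.Modules.pushforward q).obj L} (hv : Generates v) (hE : Coh.IsQCoh E) {U : S.Opens}
    (hU : IsAffineOpen U) {x : X} (hx : q x ∈ U) : ∃ e : Γ(E, U), x ∈ gloc (ev v U e) := by
  haveI : E.IsQuasicoherent := hE
  obtain ⟨U', -, e', hx'⟩ := hv x
  obtain ⟨r, hrU', hxr⟩ := hU.exists_basicOpen_le (V := U') ⟨q x, gloc_le (ev v U' e') hx'⟩ hx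
  obtain ⟨n, y, hy⟩ := (QCoh.Localizing.localizes_of_isAffineOpen E hU r).ext' (rs E hrU' e')
  refine ⟨y, ?_⟩
  replace hy : rs E (S.basicOpen_le r) y = rf (S.basicOpen_le r) r ^ n • rs E hrU' e' := hy
  have hunit : IsUnit (q.app (S.basicOpen r) (rf (S.basicOpen_le r) r ^ n)) :=
    ((RingedSpace.isUnit_res_basicOpen _ r).pow n).map _
  have h2 : x ∈ gloc (ev v (S.basicOpen r) (rs E hrU' e')) := by
    rw [gloc_ev_rs]; exact ⟨hx', hxr⟩
  have h3 : gloc (ev v (S.basicOpen r) (rs E hrU' e')) ≤ gloc (ev v (S.basicOpen r) (rs E (S.basicOpen_le r) y)) := by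
    rw [hy, ev_smul]
    refine le_gloc (gloc_le _) ?_
    rw [rs_smul]
    exact Ample.GenLocus.IsGen_smul_isUnit (isGen_gloc _) (hunit.map _)
  have h4 := h3 h2
  rw [gloc_ev_rs] at h4
  exact h4.1

theorem exists_finite_of_mem_closure {R : Type*} [CommRing R] {G : Set R} {k : R} (hk : k ∈ Subring.closure G) :
    ∃ G₀ ⊆ G, G₀.Finite ∧ k ∈ Subring.closure G₀ := by
  induction hk using Subring.closure_induction with
  | mem y hy => exact ⟨{y}, Set.singleton_subset_iff.2 hy, Set.finite_singleton y, Subring.subset_closure rfl⟩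
  | zero => exact ⟨∅, Set.empty_subset _, Set.finite_empty, zero_mem _⟩
  | one => exact ⟨∅, Set.empty_subset _, Set.finite_empty, one_mem _⟩
  | add a b _ _ ha hb =>
    obtain ⟨A, hA, hA', ha⟩ := ha
    obtain ⟨B, hB, hB', hb⟩ := hb
    exact ⟨A ∪ B, Set.union_subset hA hB, hA'.union hB', add_mem (Subring.closure_mono Set.subset_union_left ha)
      (Subring.closure_mono Set.subset_union_right hb)⟩
  | neg a _ ha =>
    obtain ⟨A, hA, hA', ha⟩ := ha
    exact ⟨A, hA, hA', neg_mem ha⟩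
  | mul a b _ _ ha hb =>
    obtain ⟨A, hA, hA', ha⟩ := ha
    obtain ⟨B, hB, hB', hb⟩ := hb
    exact ⟨A ∪ B, Set.union_subset hA hB, hA'.union hB', mul_mem (Subring.closure_mono Set.subset_union_left ha)
      (Subring.closure_mono Set.subset_union_right hb)⟩

theorem toSpec_appTop {O : X.Opens} {A : CommRingCat.{u}} (φ : A ⟶ Γ(X, O)) :
    (toSpec O φ).appTop = (Scheme.ΓSpecIso A).hom ≫ φ ≫ O.topIso.inv := by
  rw [toSpec, Scheme.Hom.comp_appTop, Scheme.Opens.toSpecΓ_appTop, Scheme.ΓSpecIso_naturality_assoc]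

theorem isClosedImmersion_toSpec_iff {O : X.Opens} {A : CommRingCat.{u}} (φ : A ⟶ Γ(X, O)) :
    IsClosedImmersion (toSpec O φ) ↔ IsAffineOpen O ∧ Function.Surjective φ := by
  have e : Function.Surjective (toSpec O φ).appTop ↔ Function.Surjective φ := by
    rw [toSpec_appTop]
    have h1 := ConcreteCategory.bijective_of_isIso (Scheme.ΓSpecIso A).hom
    have h2 := ConcreteCategory.bijective_of_isIso O.topIso.inv
    change Function.Surjective (O.topIso.inv ∘ φ ∘ (Scheme.ΓSpecIso A).hom) ↔ _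
    rw [Function.Surjective.of_comp_iff' h2, Function.Surjective.of_comp_iff _ h1.2]
  constructor
  · intro h
    obtain ⟨h1, h2⟩ := IsClosedImmersion.isAffine_surjective_of_isAffine (toSpec O φ)
    exact ⟨h1, e.1 h2⟩
  · rintro ⟨h1, h2⟩
    have : IsAffine (O : Scheme.{u}) := h1
    exact IsClosedImmersion.of_surjective_of_isAffine _ (e.2 h2)

/-- Finitely many of the generators of an immersing subring suffice over an affine base. -/
theorem immOn_finite (f : X ⟶ S) [LocallyOfFiniteType f] {U : S.Opens} (hU : IsAffineOpen U) {T : X.Opens}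
    (hT : T ≤ f ⁻¹ᵁ U) (hTc : IsCompact (T : Set X)) {G : Set Γ(X, T)} (h : ImmOn T (Subring.closure G)) :
    ∃ G₀ ⊆ G, G₀.Finite ∧ ImmOn T (Subring.closure (Set.range (f.appLE U T hT).hom ∪ G₀)) := by
  classical
  set K := Subring.closure G with hK
  let ι := toSpec T (CommRingCat.ofHom (R := K) K.subtype)
  have hι : IsImmersion ι := h
  have piece : ∀ x : T, ∃ (c : K), x.1 ∈ X.basicOpen (c : Γ(X, T)) ∧ IsAffineOpen (X.basicOpen (c : Γ(X, T))) ∧
      ∀ z : Γ(X, X.basicOpen (c : Γ(X, T))), ∃ (N : ℕ) (k : K),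
        z * rf (X.basicOpen_le _) (c : Γ(X, T)) ^ N = rf (X.basicOpen_le _) (k : Γ(X, T)) := by
    intro x
    have hx0 : ι x ∈ ι.coborderRange := by
      rw [← SetLike.mem_coe]
      exact subset_coborder ⟨x, rfl⟩
    obtain ⟨_, ⟨c, rfl⟩, hxc, hcΩ⟩ := PrimeSpectrum.isTopologicalBasis_basic_opens.exists_subset_of_mem_open
      hx0 ι.coborderRange.isOpen
    have hpre : ι ⁻¹ᵁ PrimeSpectrum.basicOpen c = T.ι ⁻¹ᵁ X.basicOpen (c : Γ(X, T)) := by
      change (T.toSpecΓ ≫ Spec.map _) ⁻¹ᵁ _ = _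
      rw [Scheme.Hom.comp_preimage, SpecMap_preimage_basicOpen]
      exact Scheme.Opens.toSpecΓ_preimage_basicOpen T _
    set O := X.basicOpen (c : Γ(X, T)) with hO
    have hOT : O ≤ T := X.basicOpen_le _
    let g := CommRingCat.ofHom (algebraMap K (Localization.Away c))
    have hu : IsUnit ((X.presheaf.map (homOfLE hOT).op).hom (c : Γ(X, T))) :=
      RingedSpace.isUnit_res_basicOpen _ _
    let ψ : CommRingCat.of (Localization.Away c) ⟶ Γ(X, O) :=
      CommRingCat.ofHom (IsLocalization.Away.lift c (g := (X.presheaf.map (homOfLE hOT).op).hom.comp K.subtype) hu)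
    have hψ : g ≫ ψ = CommRingCat.ofHom (R := K) K.subtype ≫ X.presheaf.map (homOfLE hOT).op :=
      CommRingCat.hom_ext (RingHom.ext fun a => IsLocalization.Away.lift_eq c hu a)
    have hb : toSpec O ψ ≫ Spec.map g = X.homOfLE hOT ≫ ι := by
      rw [toSpec_comp, hψ, toSpec_res]
    have hbi : IsImmersion (toSpec O ψ) := by
      have : IsImmersion (toSpec O ψ ≫ Spec.map g) := by rw [hb]; infer_instance
      exact IsImmersion.of_comp _ (Spec.map g)
    have hrange : Set.range (Spec.map g) = (PrimeSpectrum.basicOpen c : Set (PrimeSpectrum K)) :=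
      PrimeSpectrum.localization_away_comap_range (Localization.Away c) c
    have hclosed : IsClosed (Set.range (toSpec O ψ)) := by
      obtain ⟨C, hC, hCeq⟩ := isClosed_induced_iff.1 (isClosed_preimage_val_coborder (s := Set.range ι))
      have : Set.range (toSpec O ψ) = Spec.map g ⁻¹' C := by
        ext y
        have hy : Spec.map g y ∈ (PrimeSpectrum.basicOpen c : Set (PrimeSpectrum K)) := hrange ▸ ⟨y, rfl⟩
        have hy' : Spec.map g y ∈ coborder (Set.range ι) := hcΩ hy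
        have e1 : Spec.map g y ∈ C ↔ Spec.map g y ∈ Set.range ι := by
          have := congrArg (fun s => (⟨Spec.map g y, hy'⟩ : coborder (Set.range ι)) ∈ s) hCeq
          exact iff_of_eq this
        rw [Set.mem_preimage, e1]
        constructor
        · rintro ⟨z, rfl⟩
          exact ⟨X.homOfLE hOT z, by rw [← Scheme.Hom.comp_apply, ← hb, Scheme.Hom.comp_apply]⟩
        · rintro ⟨z, hz⟩
          have hzO : z ∈ ι ⁻¹ᵁ PrimeSpectrum.basicOpen c := by
            change ι z ∈ PrimeSpectrum.basicOpen c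
            rw [hz]; exact hy
          rw [hpre] at hzO
          refine ⟨⟨z.1, hzO⟩, (Spec.map g).isOpenEmbedding.injective ?_⟩
          rw [← Scheme.Hom.comp_apply, hb, Scheme.Hom.comp_apply, ← hz]
          congr 1
          exact Subtype.ext (Scheme.homOfLE_apply _ _)
      rw [this]
      exact hC.preimage (Spec.map g).continuous
    have hbc : IsClosedImmersion (toSpec O ψ) := IsClosedImmersion.of_isPreimmersion _ hclosed
    obtain ⟨hOa, hsurj⟩ := (isClosedImmersion_toSpec_iff ψ).1 hbc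
    refine ⟨c, ?_, hOa, fun z => ?_⟩
    · have : x ∈ ι ⁻¹ᵁ PrimeSpectrum.basicOpen c := hxc
      rw [hpre] at this
      exact this
    · obtain ⟨w, rfl⟩ := hsurj z
      obtain ⟨⟨k, ⟨_, N, rfl⟩⟩, hk⟩ := IsLocalization.surj (Submonoid.powers c) w
      refine ⟨N, k, ?_⟩
      have h1 := congrArg ψ hk
      rw [map_mul, map_pow] at h1
      have h2 : ∀ a : K, ψ (algebraMap K (Localization.Away c) a) = rf hOT (a : Γ(X, T)) := fun a =>
        IsLocalization.Away.lift_eq c hu a
      rwa [map_pow, h2, h2] at h1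
  choose c hxc hca hk using piece
  obtain ⟨s, hs⟩ := hTc.elim_finite_subcover (fun x : T => (X.basicOpen (c x : Γ(X, T)) : Set X))
    (fun x => (X.basicOpen _).isOpen) fun x hx => Set.mem_iUnion.2 ⟨⟨x, hx⟩, hxc ⟨x, hx⟩⟩
  choose gens hgens using fun x : T => ProjMor.VeryAmple.exists_gens f (hca x) hU ((X.basicOpen_le _).trans hT)
  choose N k hNk using fun (x : T) (z : Γ(X, X.basicOpen (c x : Γ(X, T)))) => hk x z
  choose A hA hAf hcA using fun x : T => exists_finite_of_mem_closure (G := G) (c x).2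
  choose A' hA' hAf' hkA using fun (x : T) (z : Γ(X, X.basicOpen (c x : Γ(X, T)))) =>
    exists_finite_of_mem_closure (G := G) (k x z).2
  let G₀ : Set Γ(X, T) := ⋃ x ∈ s, (A x ∪ ⋃ z ∈ gens x, A' x z)
  refine ⟨G₀, Set.iUnion₂_subset fun x _ => Set.union_subset (hA x) (Set.iUnion₂_subset fun z _ => hA' x z),
    s.finite_toSet.biUnion fun x _ => (hAf x).union ((gens x).finite_toSet.biUnion fun z _ => hAf' x z), ?_⟩
  set K₀ := Subring.closure (Set.range (f.appLE U T hT).hom ∪ G₀)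
  let ι₀ := toSpec T (CommRingCat.ofHom (R := K₀) K₀.subtype)
  have hc0 : ∀ x ∈ s, (c x : Γ(X, T)) ∈ K₀ := fun x hx => Subring.closure_mono (fun a ha => Or.inr
    (Set.mem_biUnion hx (Or.inl ha))) (hcA x)
  have hk0 : ∀ x ∈ s, ∀ z ∈ gens x, (k x z : Γ(X, T)) ∈ K₀ := fun x hx z hz => Subring.closure_mono
    (fun a ha => Or.inr (Set.mem_biUnion hx (Or.inr (Set.mem_biUnion hz ha)))) (hkA x z)
  refine ProjMor.Pieces.isImmersion_of_pieces ι₀ (ι := s)
    (fun x => (PrimeSpectrum.basicOpen (⟨(c x.1 : Γ(X, T)), hc0 x.1 x.2⟩ : K₀) : (Spec (CommRingCat.of K₀)).Opens))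
    (fun y => ?_) fun x => ?_
  · obtain ⟨x, hx, hyx⟩ := Set.mem_iUnion₂.1 (hs y.2)
    refine ⟨⟨x, hx⟩, ?_⟩
    have hpre : ι₀ ⁻¹ᵁ PrimeSpectrum.basicOpen (⟨(c x : Γ(X, T)), hc0 x hx⟩ : K₀) =
        T.ι ⁻¹ᵁ X.basicOpen (c x : Γ(X, T)) := by
      change (T.toSpecΓ ≫ Spec.map _) ⁻¹ᵁ _ = _
      rw [Scheme.Hom.comp_preimage, SpecMap_preimage_basicOpen]
      exact Scheme.Opens.toSpecΓ_preimage_basicOpen T _
    exact hpre.ge hyx
  obtain ⟨x, hx⟩ := x
  let c₀ : K₀ := ⟨(c x : Γ(X, T)), hc0 x hx⟩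
  set O := X.basicOpen (c x : Γ(X, T))
  have hOT : O ≤ T := X.basicOpen_le _
  let g := CommRingCat.ofHom (algebraMap K₀ (Localization.Away c₀))
  have hu : IsUnit ((X.presheaf.map (homOfLE hOT).op).hom (c₀ : Γ(X, T))) := RingedSpace.isUnit_res_basicOpen _ _
  let ψ : CommRingCat.of (Localization.Away c₀) ⟶ Γ(X, O) :=
    CommRingCat.ofHom (IsLocalization.Away.lift c₀ (g := (X.presheaf.map (homOfLE hOT).op).hom.comp K₀.subtype) hu)
  have h2 : ∀ a : K₀, ψ (algebraMap K₀ (Localization.Away c₀) a) = rf hOT (a : Γ(X, T)) := fun a =>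
    IsLocalization.Away.lift_eq c₀ hu a
  have hψ : g ≫ ψ = CommRingCat.ofHom (R := K₀) K₀.subtype ≫ X.presheaf.map (homOfLE hOT).op :=
    CommRingCat.hom_ext (RingHom.ext h2)
  have hsurj : Function.Surjective ψ := by
    intro z
    refine RingHom.mem_range.1 ((Subring.closure_le (t := ψ.hom.range)).2 ?_ (hgens x z))
    rintro a (⟨r, rfl⟩ | ha)
    · refine ⟨algebraMap K₀ _ ⟨f.appLE U T hT r, Subring.subset_closure (Or.inl ⟨r, rfl⟩)⟩, ?_⟩
      refine (h2 _).trans ?_
      change ((f.appLE U T hT) ≫ X.presheaf.map (homOfLE hOT).op) r = _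
      rw [Scheme.Hom.appLE_map]
    · obtain ⟨w, hw⟩ := IsLocalization.Away.algebraMap_isUnit (S := Localization.Away c₀) c₀
      refine ⟨algebraMap K₀ _ ⟨_, hk0 x hx a ha⟩ * (↑(w⁻¹) : Localization.Away c₀) ^ N x a, ?_⟩
      have h3 : ψ (↑(w⁻¹) : Localization.Away c₀) * rf hOT (c x : Γ(X, T)) = 1 := by
        rw [← show ψ (w : Localization.Away c₀) = rf hOT (c x : Γ(X, T)) by rw [hw]; exact h2 c₀, ← map_mul]
        simp
      change ψ _ = a
      rw [map_mul, map_pow, h2]
      change rf hOT (k x a : Γ(X, T)) * _ = a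
      rw [← hNk x a, mul_assoc, ← mul_pow, mul_comm (rf hOT _), h3, one_pow, mul_one]
  have hb : toSpec O ψ ≫ Spec.map g = X.homOfLE hOT ≫ ι₀ := by
    rw [toSpec_comp, hψ, toSpec_res]
  have hbc : IsClosedImmersion (toSpec O ψ) := (isClosedImmersion_toSpec_iff ψ).2 ⟨hca x, hsurj⟩
  have hrange : (Spec.map g).opensRange = PrimeSpectrum.basicOpen c₀ :=
    Opens.ext (PrimeSpectrum.localization_away_comap_range (Localization.Away c₀) c₀)
  have hpre : ι₀ ⁻¹ᵁ (Spec.map g).opensRange = (X.homOfLE hOT).opensRange := by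
    rw [hrange]
    change (T.toSpecΓ ≫ Spec.map _) ⁻¹ᵁ _ = _
    rw [Scheme.Hom.comp_preimage, SpecMap_preimage_basicOpen, Scheme.opensRange_homOfLE]
    exact Scheme.Opens.toSpecΓ_preimage_basicOpen T _
  have hpb : IsPullback (toSpec O ψ) (X.homOfLE hOT) (Spec.map g) ι₀ :=
    IsOpenImmersion.isPullback _ _ _ _ hb.symm hpre
  change IsClosedImmersion (ι₀ ∣_ PrimeSpectrum.basicOpen c₀)
  rw [← hrange]
  refine (MorphismProperty.arrow_mk_iso_iff @IsClosedImmersion (morphismRestrictOpensRange ι₀ (Spec.map g))).2 ?_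
  rw [← hpb.flip.isoPullback_inv_snd]
  infer_instance

end Groth.Agent.Lib.SymAlg.PE
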