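import Groth.Agent.Lib.SymAlg.PE.Adapted
import Groth.Agent.Lib.SymAlg.PE.FTSub

/-!
# Very ample modules through quasi-coherent modules of finite type
-/

noncomputable section

set_option autoImplicit false
universe u

open CategoryTheory CategoryTheory.Limits AlgebraicGeometry Opposite TopologicalSpace
open scoped HomogeneousIdeal

namespace Groth.Agent.Lib.SymAlg.PE

open Groth.Agent.Lib TensorMod TensorMod.Dual TensorMod.Gen TensorMod.HomGlue TensorMod.Pullback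

variable {S X : Scheme.{u}} {q : X ⟶ S} {L : X.Modules}

theorem range_appLE_subset_rats {E : S.Modules} (v : E ⟶ (Scheme.Modules.pushforward q).obj L) (U : S.Opens)
    (e : Γ(E, U)) : Set.range (q.appLE U (gloc (ev v U e)) (gloc_le _)).hom ⊆ (rats v U e : Set _) := by
  rintro _ ⟨r, rfl⟩
  refine Subring.subset_closure ⟨r • e, ?_⟩
  simp only
  rw [ev_smul, ratio_smul, ratio_self, mul_one]
  rfl

/-- The criterion holds on a finite type submodule. -/
theorem exists_crit_ft [CompactSpace S] [QuasiSeparatedSpace S] [QuasiCompact q] [LocallyOfFiniteType q]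
    (hL : PicF.IsInvertible L) {E : S.Modules} (hE : Coh.IsQCoh E) {v : E ⟶ (Scheme.Modules.pushforward q).obj L}
    (hv : Generates v)
    (hI : ∀ (U : S.Opens), IsAffineOpen U → ∀ e : Γ(E, U), ImmOn (gloc (ev v U e)) (rats v U e)) :
    ∃ (E' : S.Modules) (_ : Coh.IsQCoh E') (_ : CohB1.IsFT E') (v' : E' ⟶ (Scheme.Modules.pushforward q).obj L),
      Crit v' := by
  classical
  have : E.IsQuasicoherent := hE
  have : CompactSpace X := QuasiCompact.compactSpace_of_compactSpace q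
  have h1 : ∀ x : X, ∃ (U : S.affineOpens) (e : Γ(E, U.1)) (A : Finset Γ(E, U.1)), x ∈ gloc (ev v U.1 e) ∧
      ImmOn (gloc (ev v U.1 e)) (Subring.closure (Set.range (q.appLE U.1 _ (gloc_le (ev v U.1 e))).hom ∪
        (fun a => ratio (ev v U.1 e) (ev v U.1 a)) '' ↑A)) := fun x => by
    obtain ⟨U, hU, hxU, -⟩ := exists_isAffineOpen_mem_and_subset (x := q x) (U := (⊤ : S.Opens)) trivial
    obtain ⟨e, he⟩ := hv.mem_affine hE hU hxU
    obtain ⟨G₀, hG, hG₀, hImm⟩ := immOn_finite q hU (gloc_le _)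
      (isCompact_gloc hL (q.isCompact_preimage hU.isCompact) (ev v U e)) (hI U hU e)
    obtain ⟨A, -, hA, rfl⟩ := Set.exists_subset_image_finite_and.1
      (⟨G₀, by rw [Set.image_univ]; exact hG, hG₀, rfl⟩ :
        ∃ t ⊆ (fun a' => ratio (ev v U e) (ev v U a')) '' Set.univ, t.Finite ∧ t = G₀)
    exact ⟨⟨U, hU⟩, e, hA.toFinset, he, by rwa [Set.Finite.coe_toFinset]⟩
  choose U e A hmem hImm using h1
  obtain ⟨tX, htX⟩ := isCompact_univ.elim_finite_subcover (fun x => (gloc (ev v (U x).1 (e x)) : Set X))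
    (fun x => (gloc _).isOpen) fun x _ => Set.mem_iUnion.2 ⟨x, hmem x⟩
  obtain ⟨E', ι, hq, hft, hι⟩ := exists_ft_through E
    (fun k : (Σ x : {x // x ∈ tX}, {a // a ∈ insert (e x.1) (A x.1)}) => U k.1.1) (fun k => k.2.1)
  refine ⟨E', hq, hft, ι ≫ v, fun x => ?_⟩
  obtain ⟨z, hz, hxz⟩ := Set.mem_iUnion₂.1 (htX (Set.mem_univ x))
  have hlift : ∀ a ∈ insert (e z) (A z), ∃ s : Γ(E', (U z).1), ev (ι ≫ v) (U z).1 s = ev v (U z).1 a := fun a ha => by
    obtain ⟨s, hs⟩ := hι ⟨⟨z, hz⟩, a, ha⟩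
    exact ⟨s, congrArg (fun b => ev v (U z).1 b) hs⟩
  obtain ⟨s, hs⟩ := hlift (e z) (Finset.mem_insert_self _ _)
  refine ⟨(U z).1, (U z).2, s, ?_, ?_⟩
  · rw [hs]
    exact hxz
  have hle : gloc (ev (ι ≫ v) (U z).1 s) ≤ gloc (ev v (U z).1 (e z)) := by rw [hs]
  refine ((hImm z).res hle).mono (Subring.map_le_iff_le_comap.2 (Subring.closure_le.2 ?_))
  rintro c (⟨r, rfl⟩ | ⟨a, ha, rfl⟩)
  · refine range_appLE_subset_rats (ι ≫ v) (U z).1 s ⟨r, ?_⟩
    change _ = (q.appLE (U z).1 _ (gloc_le (ev v (U z).1 (e z))) ≫ X.presheaf.map (homOfLE hle).op) r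
    rw [Scheme.Hom.appLE_map]
  · obtain ⟨s', hs'⟩ := hlift a (Finset.mem_insert_of_mem ha)
    refine Subring.subset_closure ⟨s', ?_⟩
    have key : ∀ (m : Γ(L, q ⁻¹ᵁ (U z).1)) (_ : m = ev v (U z).1 (e z)) (h : gloc m ≤ gloc (ev v (U z).1 (e z)))
        (n : Γ(L, q ⁻¹ᵁ (U z).1)) (_ : n = ev v (U z).1 a),
        ratio m n = X.presheaf.map (homOfLE h).op (ratio (ev v (U z).1 (e z)) (ev v (U z).1 a)) := by
      rintro m rfl h n rfl
      exact (rf_self _ _).symm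
    exact key _ hs hle _ hs'

/-- Very ample modules come from immersions into projective bundles of finite type modules. -/
theorem exists_immersion_projBundle_ft [CompactSpace S] [QuasiSeparatedSpace S] [QuasiCompact q]
    [LocallyOfFiniteType q] (hL : PicF.IsInvertible L) (h : RelProj.IsRelVeryAmple q L) :
    ∃ (E : S.Modules) (𝒯 : RelProj.QCGrAlg S) (j : E ⟶ 𝒯.toModule) (P : Scheme.{u}) (p : P ⟶ S)
      (chart : ∀ (U : S.Opens) (hU : IsAffineOpen U), ((p ⁻¹ᵁ U : P.Opens) : Scheme.{u}) ≅ Proj (𝒯.deg U hU))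
      (O1 : P.Modules)
      (lam : ∀ (U : S.Opens) (hU : IsAffineOpen U),
        O1 ⟶ (Scheme.Modules.pushforward (RelProj.emb p chart U hU)).obj (GrTwist.twist (𝒯.deg U hU) 1))
      (i : X ⟶ P),
      Coh.IsQCoh E ∧ CohB1.IsFT E ∧ RelProj.IsGrSymAlg E 𝒯 j ∧ RelProj.IsRelProj 𝒯 p chart ∧
        RelProj.IsRelTwist 𝒯 p chart 1 O1 lam ∧ IsImmersion i ∧ i ≫ p = q ∧
        Nonempty (L ≅ (Scheme.Modules.pullback i).obj O1) := by
  obtain ⟨E₀, hE₀, v₀, hv₀, hI⟩ := exists_data h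
  obtain ⟨E, hE, hft, v, hv⟩ := exists_crit_ft hL hE₀ hv₀ hI
  haveI : E.IsQuasicoherent := hE
  have hj : RelProj.IsGrSymAlg E (Exists.grAlg E) (Exists.jmap E) := Exists.isGrSymAlg E
  let B : Tw S := Tw.ofAlg (Exists.grAlg E) (Gen.isGenDegOne hj hE)
  obtain ⟨r, hr⟩ := exists_isMapFor (B := B) (hE := hE) hj v hv.generates
  obtain ⟨τ, hτ⟩ := exists_tau (G := Tw.Gens.ofSym B hE hj) hv.generates hr
  have heq : ∀ (U : S.Opens) (hU : IsAffineOpen U) (e : Γ((Tw.Gens.ofSym B hE hj).E, U)),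
      gloc (ev v U e) = r ⁻¹ᵁ B.D hU ((Tw.Gens.ofSym B hE hj).g U e) := fun U hU e => by
    have h1 : ev v U e = ev (vOf (Tw.Gens.ofSym B hE hj) r hr.hq τ) U e :=
      (hτ U hU e).trans (ev_vOf (Tw.Gens.ofSym B hE hj) r hr.hq τ hU e).symm
    exact (congrArg gloc h1).trans (gloc_vOf _ r hr.hq τ hU e)
  exact ⟨E, B.alg, Exists.jmap E, B.P, B.p, B.chart, B.O1, B.lam, r, hE, hft, hj, B.hP, B.hO,
    isImmersion_of_crit (Tw.Gens.ofSym B hE hj) hr heq hv, hr.hq, ⟨τ.symm⟩⟩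

end Groth.Agent.Lib.SymAlg.PE
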