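import Groth.Agent.Lib.Ample.GenLocus
import Groth.Agent.Lib.TensorMod.GenLocal

/-!
# Where a local section generates an invertible module
-/

noncomputable section

set_option autoImplicit false
universe u

open CategoryTheory CategoryTheory.Limits AlgebraicGeometry Opposite TopologicalSpace

namespace Groth.Agent.Lib.SymAlg.PE

open Groth.Agent.Lib TensorMod TensorMod.Dual TensorMod.Gen TensorMod.HomGlue TensorMod.Pullback
  TensorMod.LocIso Ample.GenLocus

variable {X Y : Scheme.{u}} {L M : X.Modules}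

/-- The largest open on which `m` generates. -/
def gloc {W : X.Opens} (m : Γ(L, W)) : X.Opens :=
  sSup {V | ∃ h : V ≤ W, IsGen L V (rs L h m)}

theorem gloc_le {W : X.Opens} (m : Γ(L, W)) : gloc m ≤ W :=
  sSup_le fun _ hV => hV.1

theorem le_gloc {W V : X.Opens} {m : Γ(L, W)} (h : V ≤ W) (hg : IsGen L V (rs L h m)) : V ≤ gloc m :=
  le_sSup ⟨h, hg⟩

theorem isGen_gloc {W : X.Opens} (m : Γ(L, W)) : IsGen L (gloc m) (rs L (gloc_le m) m) := by
  refine GenLocal.isGen_of_forall_exists fun x hx => ?_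
  obtain ⟨V, ⟨h, hg⟩, hxV⟩ := Opens.mem_sSup.1 hx
  exact ⟨V, le_gloc h hg, hxV, by rwa [rs_rs]⟩

theorem gloc_rs {W V : X.Opens} (h : V ≤ W) (m : Γ(L, W)) : gloc (rs L h m) = gloc m ⊓ V := by
  refine le_antisymm (le_inf (le_gloc ((gloc_le _).trans h) ?_) (gloc_le _)) (le_gloc inf_le_right ?_)
  · have := isGen_gloc (rs L h m)
    rwa [rs_rs] at this
  · have := (isGen_gloc m).res (inf_le_left : gloc m ⊓ V ≤ gloc m)
    rw [rs_rs] at this ⊢
    exact this

theorem gloc_eq_self {W : X.Opens} {m : Γ(L, W)} (h : IsGen L W m) : gloc m = W :=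
  le_antisymm (gloc_le m) (le_gloc le_rfl (by rwa [rs_self]))

/-- In terms of a generator the locus is a basic open. -/
theorem gloc_inf_eq {W U : X.Opens} (hUW : U ≤ W) {m : Γ(L, W)} {e : Γ(L, U)} (he : IsGen L U e)
    {a : Γ(X, U)} (ha : rs L hUW m = a • e) : gloc m ⊓ U = X.basicOpen a := by
  rw [← gloc_rs hUW m, ha]
  refine le_antisymm ?_ (le_gloc (X.basicOpen_le a) ?_)
  · have hg := isGen_gloc (a • e)
    rw [rs_smul] at hg
    have h1 := isUnit_of_isGen_smul (he.res (gloc_le (a • e))) hg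
    intro x hx
    refine (X.toRingedSpace.mem_basicOpen a x (gloc_le _ hx)).2 ?_
    have h2 := h1.map (X.presheaf.germ _ x hx).hom
    rwa [TopCat.Presheaf.germ_res_apply] at h2
  · rw [rs_smul]
    exact IsGen_smul_isUnit (he.res (X.basicOpen_le a)) (RingedSpace.isUnit_res_basicOpen _ a)

theorem exists_gen_nhd (hL : PicF.IsInvertible L) {W : X.Opens} {x : X} (hx : x ∈ W) :
    ∃ (U : X.Opens) (_ : U ≤ W) (e : Γ(L, U)), x ∈ U ∧ IsGen L U e := by
  obtain ⟨U, e, hxU, he⟩ := isInvertible_iff.1 hL x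
  exact ⟨U ⊓ W, inf_le_right, _, ⟨hxU, hx⟩, he.res inf_le_left⟩

theorem gloc_app_iso (φ : L ≅ M) {W : X.Opens} (m : Γ(L, W)) : gloc (φ.hom.app W m) = gloc m := by
  have key : ∀ {L M : X.Modules} (φ : L ≅ M) {W : X.Opens} (m : Γ(L, W)), gloc m ≤ gloc (φ.hom.app W m) := by
    intro L M φ W m
    refine le_gloc (gloc_le m) ?_
    rw [rs_app]
    exact isGen_of_isIso_over (isIso_over_of_iso φ _) (isGen_gloc m)
  refine le_antisymm ?_ (key φ m)
  have h2 : φ.symm.hom.app W (φ.hom.app W m) = m :=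
    congrArg (fun t : L ⟶ L => t.app W m) φ.hom_inv_id
  have h := key φ.symm (φ.hom.app W m)
  rwa [h2] at h

theorem gloc_unitSec (f : X ⟶ Y) {P : Y.Modules} (hP : PicF.IsInvertible P) {W : Y.Opens} (m : Γ(P, W)) :
    gloc (unitSec f P m) = f ⁻¹ᵁ gloc m := by
  have key : ∀ (U : Y.Opens) (hUW : U ≤ W) (e : Γ(P, U)), IsGen P U e →
      gloc (unitSec f P m) ⊓ f ⁻¹ᵁ U = f ⁻¹ᵁ (gloc m ⊓ U) := by
    intro U hUW e he
    obtain ⟨a, ha⟩ := exists_coord he (rs P hUW m)
    rw [gloc_inf_eq hUW he ha, Scheme.preimage_basicOpen]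
    refine gloc_inf_eq (f.preimage_mono hUW) (isGen_unitSec f he) ?_
    rw [← unitSec_smul, ← ha]
    exact unitSec_rs f hUW m
  refine le_antisymm (fun x hx => ?_) (fun x hx => ?_)
  · have hxW : f x ∈ W := gloc_le (unitSec f P m) hx
    obtain ⟨U, hUW, e, hxU, he⟩ := exists_gen_nhd hP (x := f x) hxW
    exact ((key U hUW e he).le ⟨hx, hxU⟩).1
  · obtain ⟨U, hUW, e, hxU, he⟩ := exists_gen_nhd hP (x := f x) (gloc_le m hx)
    exact ((key U hUW e he).ge ⟨hx, hxU⟩).1

theorem gloc_tmul {N : X.Modules} (hL : PicF.IsInvertible L) (hN : PicF.IsInvertible N) {W : X.Opens}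
    (m : Γ(L, W)) (n : Γ(N, W)) :
    gloc (L := CohB1.tensorMod L N) (SecTwist.tmul L N W m n) = gloc m ⊓ gloc n := by
  have key : ∀ (U : X.Opens) (hUW : U ≤ W) (e : Γ(L, U)) (e' : Γ(N, U)), IsGen L U e → IsGen N U e' →
      gloc (L := CohB1.tensorMod L N) (SecTwist.tmul L N W m n) ⊓ U = (gloc m ⊓ gloc n) ⊓ U := by
    intro U hUW e e' he he'
    obtain ⟨a, ha⟩ := exists_coord he (rs L hUW m)
    obtain ⟨b, hb⟩ := exists_coord he' (rs N hUW n)
    rw [inf_inf_distrib_right, gloc_inf_eq hUW he ha, gloc_inf_eq hUW he' hb, ← Scheme.basicOpen_mul]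
    refine gloc_inf_eq hUW (isGen_tmul he he') ?_
    rw [rs_tmul, ha, hb, tmul_smul]
    rfl
  have h : ∀ x ∈ W, x ∈ gloc (L := CohB1.tensorMod L N) (SecTwist.tmul L N W m n) ↔ x ∈ gloc m ⊓ gloc n := by
    intro x hx
    obtain ⟨U, hUW, e, hxU, he⟩ := exists_gen_nhd hL hx
    obtain ⟨U', hU', e', hxU', he'⟩ := exists_gen_nhd hN hxU
    have := SetLike.ext_iff.1 (key U' (hU'.trans hUW) _ e' (he.res hU') he') x
    exact ⟨fun h => (this.1 ⟨h, hxU'⟩).1, fun h => (this.2 ⟨h, hxU'⟩).1⟩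
  ext x
  exact ⟨fun hx => (h x (gloc_le _ hx)).1 hx, fun hx => (h x (gloc_le _ hx.1)).2 hx⟩

/-- An epimorphic quotient of an inverse image is generated by the sections it comes from. -/
theorem exists_mem_gloc_of_epi (q : X ⟶ Y) {E : Y.Modules} (hL : PicF.IsInvertible L)
    (s : (Scheme.Modules.pullback q).obj E ⟶ L) [Epi s] {x : X} {V : Y.Opens} (hx : q x ∈ V)
    (hV : IsAffineOpen V) :
    ∃ (U : Y.Opens) (_ : U ≤ V) (_ : IsAffineOpen U) (e : Γ(E, U)),
      x ∈ gloc (L := L) (W := q ⁻¹ᵁ U)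
        ((((Scheme.Modules.pullbackPushforwardAdjunction q).homEquiv E L) s).app U e) := by
  by_contra hcon
  push Not at hcon
  set v := ((Scheme.Modules.pullbackPushforwardAdjunction q).homEquiv E L) s with hv
  let i := X.fromSpecResidueField x
  let η : L ⟶ (Scheme.Modules.pushforward i).obj ((Scheme.Modules.pullback i).obj L) := (pbAdj i).unit.app L
  have hpt : ∀ (z : (Spec (X.residueField x))), i z = x := fun z => Scheme.fromSpecResidueField_apply x z
  have key : v ≫ (Scheme.Modules.pushforward q).map η = 0 := by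
    refine Scheme.Modules.hom_ext _ _ fun W => ?_
    ext e
    change unitSec i L (v.app W e : Γ(L, q ⁻¹ᵁ W)) = (0 : Γ((pb i).obj L, i ⁻¹ᵁ (q ⁻¹ᵁ W)))
    by_cases hW : q x ∈ W
    · obtain ⟨W', hW', hxW', hle⟩ := exists_isAffineOpen_mem_and_subset (x := q x) (U := W ⊓ V) ⟨hW, hx⟩
      have hleW : W' ≤ W := hle.trans inf_le_left
      obtain ⟨A, hA, g, hxA, hg⟩ := exists_gen_nhd hL (x := x) (W := q ⁻¹ᵁ W') hxW'
      obtain ⟨a, ha⟩ := exists_coord hg (rs L (hA.trans (q.preimage_mono hleW)) (v.app W e))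
      have hnot := hcon W' (hle.trans inf_le_right) hW' (rs E hleW e)
      have h1 : rs L hA (v.app W' (rs E hleW e) : Γ(L, q ⁻¹ᵁ W')) = a • g := by
        rw [← rs_app v hleW e]
        exact (rs_rs L (q.preimage_mono hleW) hA _).trans ha
      have hxa : x ∉ X.basicOpen a := fun h => hnot ((gloc_inf_eq hA hg h1).ge h).1
      have hall : (⊤ : (Spec (X.residueField x)).Opens) ≤ i ⁻¹ᵁ A := fun z _ => by
        change i z ∈ A
        rw [hpt]
        exact hxA
      have ha0 : rf hall (i.app A a) = 0 := by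
        by_contra hne
        have hne' : (Scheme.ΓSpecIso (X.residueField x)).hom (rf hall (i.app A a)) ≠ 0 := fun h =>
          hne ((ConcreteCategory.bijective_of_isIso (Scheme.ΓSpecIso (X.residueField x)).hom).1
            (h.trans (map_zero _).symm))
        have hu : IsUnit (rf hall (i.app A a)) :=
          (isUnit_map_iff (Scheme.ΓSpecIso (X.residueField x)).commRingCatIsoToRingEquiv _).1 hne'.isUnit
        have h2 : (IsLocalRing.closedPoint (X.residueField x)) ∈ i ⁻¹ᵁ X.basicOpen a := by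
          rw [Scheme.preimage_basicOpen]
          have h3 := (Spec (X.residueField x)).basicOpen_of_isUnit hu
          rw [rf, Scheme.basicOpen_res] at h3
          exact (h3.ge trivial).2
        exact hxa (by have := h2; rwa [← hpt (IsLocalRing.closedPoint (X.residueField x))])
      have hle2 : (⊤ : (Spec (X.residueField x)).Opens) ≤ i ⁻¹ᵁ (q ⁻¹ᵁ W) :=
        hall.trans (i.preimage_mono (hA.trans (q.preimage_mono hleW)))
      have h5 : rs ((pb i).obj L) hle2 (unitSec i L (v.app W e : Γ(L, q ⁻¹ᵁ W))) = 0 := by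
        rw [← rs_rs ((pb i).obj L) (i.preimage_mono (hA.trans (q.preimage_mono hleW))) hall,
          unitSec_rs i (hA.trans (q.preimage_mono hleW)), ha, unitSec_smul, rs_smul, ha0, zero_smul]
      refine sections_ext_cover (fun _ : Unit => (⊤ : (Spec (X.residueField x)).Opens)) _
        (fun z _ => Opens.mem_iSup.2 ⟨(), trivial⟩) fun _ => ?_
      have h6 := congrArg (rs ((pb i).obj L) (inf_le_right : i ⁻¹ᵁ (q ⁻¹ᵁ W) ⊓ ⊤ ≤ ⊤)) h5
      rw [rs_rs] at h6
      exact h6.trans ((map_zero _).trans (map_zero _).symm)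
    · refine sections_ext_cover (fun i : Empty => i.elim) _ (fun z hz => ?_) (fun i => i.elim)
      exact absurd hz (fun h => hW (by rw [← hpt z]; exact h))
  have h7 : s ≫ η = 0 := by
    apply ((Scheme.Modules.pullbackPushforwardAdjunction q).homEquiv E _).injective
    rw [Adjunction.homEquiv_naturality_right, ← hv, key]
    rw [Adjunction.homEquiv_unit, Functor.map_zero, comp_zero]
  have h8 : η = 0 := (cancel_epi s).1 (h7.trans comp_zero.symm)
  obtain ⟨A, hA, g, hxA, hg⟩ := exists_gen_nhd hL (x := x) (W := ⊤) trivial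
  have h9 : unitSec i L g = 0 := congrArg (fun t => t.app A g) h8
  have hgi := (isGen_unitSec i hg (i ⁻¹ᵁ A) le_rfl).1 (a₁ := 1) (a₂ := 0) (by
    simp only [rs_self, h9, smul_zero])
  have h11 : Subsingleton Γ(Spec (X.residueField x), i ⁻¹ᵁ A) := subsingleton_of_zero_eq_one hgi.symm
  have hz : IsLocalRing.closedPoint (X.residueField x) ∈ i ⁻¹ᵁ A := by
    change i _ ∈ A
    rw [hpt]
    exact hxA
  have := ((Spec (X.residueField x)).presheaf.germ (i ⁻¹ᵁ A) _ hz).hom.domain_nontrivial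
  exact not_subsingleton _ h11

end Groth.Agent.Lib.SymAlg.PE
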