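import Groth.Agent.Lib.SymAlg.PE.Sigma
import Groth.Agent.Lib.SymAlg.PE.Locus
import Groth.Agent.Lib.SymAlg.Gen
import Groth.Agent.Lib.QCoh.Closure
import Groth.Agent.Lib.QCAlgSub.Basic

/-!
# Modules mapping onto the degree-one part; the canonical map to `p_* O(1)`
-/

noncomputable section

set_option autoImplicit false
universe u

open CategoryTheory CategoryTheory.Limits AlgebraicGeometry Opposite TopologicalSpace DirectSum
open scoped HomogeneousIdeal

namespace Groth.Agent.Lib.SymAlg.PE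

open Groth.Agent.Lib Groth.Agent.H58VA TensorMod TensorMod.Dual TensorMod.Gen TensorMod.HomGlue
  TensorMod.Pullback TensorMod.LocIso Ample.GenLocus QCAlgSub.Basic

variable {S : Scheme.{u}}

/-- A quasi-coherent module mapping onto the degree-one part. -/
structure Tw.Gens (B : Tw S) where
  /-- the module -/
  E : S.Modules
  qcoh : Coh.IsQCoh E
  /-- the map -/
  j : E ⟶ B.alg.toModule
  mem : ∀ (U : S.Opens) (hU : IsAffineOpen U) (e : Γ(E, U)), jm B.alg.toQCAlg j U e ∈ B.alg.deg U hU 1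
  surj : ∀ (U : S.Opens) (hU : IsAffineOpen U) (b : B.R U), b ∈ B.alg.deg U hU 1 →
    ∃ e : Γ(E, U), jm B.alg.toQCAlg j U e = b

/-- A graded symmetric algebra, with its module. -/
def Tw.Gens.ofSym (B : Tw S) {E : S.Modules} (hE : Coh.IsQCoh E) {j : E ⟶ B.alg.toModule}
    (hj : RelProj.IsGrSymAlg E B.alg j) : B.Gens where
  E := E
  qcoh := hE
  j := j
  mem := hj.2
  surj U hU b hb := by
    obtain ⟨e, he⟩ := Gen.deg_one hj hE hU hb
    exact ⟨e, he.symm⟩

theorem exists_degProj (𝒮 : RelProj.QCGrAlg S) (d : ℕ) : ∃ π : 𝒮.toModule ⟶ 𝒮.toModule,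
    ∀ (U : S.Opens) (hU : IsAffineOpen U) (x : 𝒮.presheaf.obj (op U)),
      (show 𝒮.presheaf.obj (op U) from π.app U x) = (decompose (𝒮.deg U hU) x d : 𝒮.presheaf.obj (op U)) := by
  let dd : ∀ U : S.affineOpens, Γ(𝒮.toModule, U.1) →+ Γ(𝒮.toModule, U.1) := fun U =>
    (GradedRing.proj (𝒮.deg U.1 U.2) d : 𝒮.presheaf.obj (op U.1) →+ 𝒮.presheaf.obj (op U.1))
  obtain ⟨π, hπ⟩ := ArtinFun.HomAffine.exists_hom_of_affine dd
    (fun U r x => coe_decompose_mul_of_left_mem_zero (𝒮.deg U.1 U.2) (j := d)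
      (b := (show 𝒮.presheaf.obj (op U.1) from x)) (𝒮.str_mem U.1 U.2 r))
    (fun U V h x => GradedRingHom.map_directSumDecompose (𝒜 := 𝒮.deg U.1 U.2) (ℬ := 𝒮.deg V.1 V.2)
      (𝒮.res U.2 V.2 h) (x := (show 𝒮.presheaf.obj (op U.1) from x)) (i := d))
  exact ⟨π, fun U hU x => hπ ⟨U, hU⟩ x⟩

/-- Every graded algebra has such a module: its degree-one part. -/
theorem Tw.nonempty_gens (B : Tw S) : Nonempty B.Gens := by
  obtain ⟨π, hπ⟩ := exists_degProj B.alg 1
  have : B.alg.toModule.IsQuasicoherent := isQuasicoherent_toModule B.alg.toQCAlg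
  let φ := π - 𝟙 B.alg.toModule
  have hk : (kernel φ).IsQuasicoherent := QCoh.Closure.isQCoh_kernel φ
  let Sh := ShortComplex.mk (kernel.ι φ) φ (kernel.condition φ)
  have hex : Sh.Exact := ShortComplex.exact_kernel _
  have : Mono Sh.f := inferInstanceAs (Mono (kernel.ι φ))
  refine ⟨⟨kernel φ, hk, kernel.ι φ, fun U hU e => ?_, fun U hU b hb => ?_⟩⟩
  · have h : π.app U ((kernel.ι φ).app U e) - (kernel.ι φ).app U e = 0 :=
      QCoh.Closure.sections_comp (S := Sh) U e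
    rw [sub_eq_zero] at h
    have h2 : (decompose (B.alg.deg U hU) (jm B.alg.toQCAlg (kernel.ι φ) U e) 1 : B.R U) =
        jm B.alg.toQCAlg (kernel.ι φ) U e := (hπ U hU _).symm.trans h
    rw [← h2]
    exact SetLike.coe_mem _
  · obtain ⟨y, hy⟩ := QCoh.Closure.sections_exact hex U (show Γ(B.alg.toModule, U) from b) (by
      change π.app U (show Γ(B.alg.toModule, U) from b) - (show Γ(B.alg.toModule, U) from b) = 0
      rw [sub_eq_zero]
      exact (hπ U hU _).trans (decompose_of_mem_same _ hb))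
    exact ⟨y, hy⟩

variable {B : Tw S} (G : B.Gens)

/-- `j e` over an affine open. -/
abbrev Tw.Gens.g (U : S.Opens) (e : Γ(G.E, U)) : B.R U := jm B.alg.toQCAlg G.j U e

theorem Tw.Gens.exists_canon : ∃ φ : G.E ⟶ (Scheme.Modules.pushforward B.p).obj B.O1,
    ∀ (U : S.Opens) (hU : IsAffineOpen U) (e : Γ(G.E, U)),
      (φ.app U e : Γ(B.O1, B.p ⁻¹ᵁ U)) = B.sec (G.mem U hU e) := by
  have hadd : ∀ (U : S.affineOpens) (a b : Γ(G.E, U.1)),
      B.sec (G.mem U.1 U.2 (a + b)) = B.sec (G.mem U.1 U.2 a) + B.sec (G.mem U.1 U.2 b) := fun U a b =>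
    (B.sec_congr _ (add_mem (G.mem U.1 U.2 a) (G.mem U.1 U.2 b)) (map_add (G.j.app U.1).hom a b)).trans
      (B.sec_add _ _)
  let dd : ∀ U : S.affineOpens, Γ(G.E, U.1) →+ Γ((Scheme.Modules.pushforward B.p).obj B.O1, U.1) := fun U =>
    AddMonoidHom.mk' (fun e => (B.sec (G.mem U.1 U.2 e) : Γ(B.O1, B.p ⁻¹ᵁ U.1))) (hadd U)
  obtain ⟨φ, hφ⟩ := ArtinFun.HomAffine.exists_hom_of_affine dd
    (fun U r e => by
      change B.sec (G.mem U.1 U.2 (r • e)) = B.p.app U.1 r • B.sec (G.mem U.1 U.2 e)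
      have h : jm B.alg.toQCAlg G.j U.1 (r • e) =
          (B.alg.str.app (op U.1)).hom r * jm B.alg.toQCAlg G.j U.1 e := Scheme.Modules.Hom.app_smul G.j r e
      exact (B.sec_congr _ (h ▸ G.mem U.1 U.2 (r • e)) h).trans (B.sec_smul r _ _))
    (fun U V h e => by
      refine (B.sec_res V.2 h (G.mem U.1 U.2 e)).trans (B.sec_congr _ _ ?_)
      exact (PresheafOfModules.naturality_apply G.j.val (homOfLE h).op e).symm)
  exact ⟨φ, fun U hU e => hφ ⟨U, hU⟩ e⟩

/-- The canonical map `E ⟶ p_* O(1)`. -/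
def Tw.Gens.canon : G.E ⟶ (Scheme.Modules.pushforward B.p).obj B.O1 := G.exists_canon.choose

theorem Tw.Gens.canon_app {U : S.Opens} (hU : IsAffineOpen U) (e : Γ(G.E, U)) :
    (G.canon.app U e : Γ(B.O1, B.p ⁻¹ᵁ U)) = B.sec (G.mem U hU e) :=
  G.exists_canon.choose_spec U hU e

theorem Tw.isInvertible (B : Tw S) : PicF.IsInvertible B.O1 := by
  refine isInvertible_iff.2 fun x => ?_
  obtain ⟨U, hU, hxU, -⟩ := exists_isAffineOpen_mem_and_subset (x := B.p x) (U := ⊤) trivial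
  obtain ⟨g, hg, hxg⟩ := B.exists_mem_D hU hxU
  exact ⟨_, _, hxg, B.isGen_sec hg⟩

/-- `D₊(g)` is where `g/1` generates. -/
theorem Tw.gloc_sec (B : Tw S) {U : S.Opens} {hU : IsAffineOpen U} {g : B.R U} (hg : g ∈ B.alg.deg U hU 1) :
    gloc (B.sec hg) = B.D hU g := by
  refine le_antisymm (fun x hx => ?_) (le_gloc (B.D_le hU g) (B.isGen_sec hg))
  have hxU : B.p x ∈ U := gloc_le (B.sec hg) hx
  obtain ⟨g', hg', hx'⟩ := B.exists_mem_D hU hxU
  obtain ⟨y, hy, hyx⟩ := hx'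
  set W := gloc (B.sec hg) with hW
  obtain ⟨c, hc⟩ := exists_coord (isGen_gloc (B.sec hg)) (rs B.O1 (gloc_le (B.sec hg)) (B.sec hg'))
  have hyW : y ∈ B.e hU ⁻¹ᵁ W := by
    change B.e hU y ∈ W
    rw [show B.e hU y = x from hyx]
    exact hx
  have h1 := congrArg (fun t => GrTwist.val (V := B.e hU ⁻¹ᵁ W) (B.read (hU := hU) W t) ⟨y, hyW⟩) hc
  rw [B.val_rs (gloc_le (B.sec hg)) (B.sec hg'), B.val_sec, B.val_smul,
    B.val_rs (gloc_le (B.sec hg)) (B.sec hg), B.val_sec] at h1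
  exact ⟨y, GrTwistOne.notMem_of_eq_mul_frac1 y _ h1 hy, hyx⟩

end Groth.Agent.Lib.SymAlg.PE
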