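import Groth.Agent.Lib.SymAlg.PE.Imm
import Groth.Agent.Lib.SymAlg.PE.Gens

/-!
# Morphisms into `D₊(g)` given by ratios
-/

noncomputable section

set_option autoImplicit false
universe u

open CategoryTheory CategoryTheory.Limits AlgebraicGeometry Opposite TopologicalSpace
open scoped HomogeneousIdeal

namespace Groth.Agent.Lib.SymAlg.PE

open Groth.Agent.Lib TensorMod TensorMod.Dual TensorMod.Gen TensorMod.HomGlue

variable {X P : Scheme.{u}}

/-- The ring map of a morphism into an open `D`, valued in `Γ(X, O)`. -/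
def valOn {O : X.Opens} (r : (O : Scheme.{u}) ⟶ P) (D : P.Opens) (h : (⊤ : (O : Scheme.{u}).Opens) ≤ r ⁻¹ᵁ D) :
    Γ(P, D) ⟶ Γ(X, O) :=
  r.appLE D ⊤ h ≫ O.topIso.hom

theorem eq_toSpec {O : X.Opens} (r : (O : Scheme.{u}) ⟶ P) {D : P.Opens} (hD : IsAffineOpen D)
    (h : (⊤ : (O : Scheme.{u}).Opens) ≤ r ⁻¹ᵁ D) : toSpec O (valOn r D h) ≫ hD.fromSpec = r := by
  have h1 := Scheme.Opens.toSpecΓ_SpecMap_appLE r D ⊤ h
  rw [Scheme.Opens.toSpecΓ_top, Category.assoc] at h1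
  have h2 := congrArg (· ≫ hD.fromSpec) h1
  simp only [Category.assoc, IsAffineOpen.toSpecΓ_fromSpec, Scheme.Hom.resLE_comp_ι] at h2
  have : IsIso (⊤ : (O : Scheme.{u}).Opens).ι := by rw [← Scheme.topIso_hom]; infer_instance
  rw [cancel_epi] at h2
  rw [toSpec, valOn, Spec.map_comp, Scheme.Opens.toSpecΓ]
  simp only [Category.assoc]
  rw [← Spec.map_comp_assoc, Iso.hom_inv_id, Spec.map_id, Category.id_comp]
  exact h2

theorem toSpec_injective {O : X.Opens} {A : CommRingCat.{u}} {φ ψ : A ⟶ Γ(X, O)}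
    (h : toSpec O φ = toSpec O ψ) : φ = ψ := by
  have h1 := congrArg (fun f => f.appTop) h
  simp only [toSpec, Scheme.Hom.comp_appTop, Scheme.Opens.toSpecΓ_appTop] at h1
  rw [Scheme.ΓSpecIso_naturality_assoc, Scheme.ΓSpecIso_naturality_assoc, cancel_epi, cancel_mono] at h1
  exact h1

theorem top_le_toSpec {O : X.Opens} {D : P.Opens} (hD : IsAffineOpen D) (φ : Γ(P, D) ⟶ Γ(X, O)) :
    (⊤ : (O : Scheme.{u}).Opens) ≤ (toSpec O φ ≫ hD.fromSpec) ⁻¹ᵁ D := by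
  rw [Scheme.Hom.comp_preimage, hD.fromSpec_preimage_self]
  exact le_top

theorem valOn_toSpec {O : X.Opens} {D : P.Opens} (hD : IsAffineOpen D) (φ : Γ(P, D) ⟶ Γ(X, O))
    (h : (⊤ : (O : Scheme.{u}).Opens) ≤ (toSpec O φ ≫ hD.fromSpec) ⁻¹ᵁ D) :
    valOn (toSpec O φ ≫ hD.fromSpec) D h = φ := by
  refine toSpec_injective ?_
  rw [← cancel_mono hD.fromSpec]
  exact eq_toSpec _ hD h

theorem valOn_homOfLE {O O' : X.Opens} (i : O' ≤ O) (r : (O : Scheme.{u}) ⟶ P) (D : P.Opens)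
    (h : (⊤ : (O : Scheme.{u}).Opens) ≤ r ⁻¹ᵁ D) (h' : (⊤ : (O' : Scheme.{u}).Opens) ≤ (X.homOfLE i ≫ r) ⁻¹ᵁ D) :
    valOn (X.homOfLE i ≫ r) D h' = valOn r D h ≫ X.presheaf.map (homOfLE i).op := by
  rw [valOn, valOn, ← Scheme.Hom.appLE_comp_appLE (X.homOfLE i) r D ⊤ ⊤ h le_top]
  simp only [Category.assoc]
  congr 1
  rw [appLE_top_top]
  simp [Scheme.Hom.appTop, Scheme.homOfLE_app, Scheme.Opens.topIso]
  exact (X.presheaf.map_comp _ _).symm.trans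
    ((congrArg X.presheaf.map (Subsingleton.elim _ _)).trans (X.presheaf.map_comp _ _))

theorem valOn_mono {O : X.Opens} (r : (O : Scheme.{u}) ⟶ P) {D D' : P.Opens} (hle : D' ≤ D)
    (h' : (⊤ : (O : Scheme.{u}).Opens) ≤ r ⁻¹ᵁ D') :
    P.presheaf.map (homOfLE hle).op ≫ valOn r D' h' = valOn r D (h'.trans (r.preimage_mono hle)) := by
  rw [valOn, valOn, Scheme.Hom.map_appLE_assoc]

theorem valOn_ι {O : X.Opens} (r : X ⟶ P) {D : P.Opens} (h : O ≤ r ⁻¹ᵁ D)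
    (h' : (⊤ : (O : Scheme.{u}).Opens) ≤ (O.ι ≫ r) ⁻¹ᵁ D) :
    valOn (O.ι ≫ r) D h' = r.appLE D O h := by
  have e : (⊤ : (O : Scheme.{u}).Opens) ≤ O.ι ⁻¹ᵁ O := by rw [Scheme.Opens.ι_preimage_self]
  rw [valOn, ← Scheme.Hom.appLE_comp_appLE O.ι r D O ⊤ h e, Category.assoc]
  have : O.ι.appLE O ⊤ e ≫ O.topIso.hom = 𝟙 _ := by
    simp [Scheme.Hom.appLE, Scheme.Opens.topIso]
    refine (congrArg (_ ≫ ·) (X.presheaf.map_comp _ _).symm).trans ?_
    exact (X.presheaf.map_comp _ _).symm.trans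
      ((congrArg X.presheaf.map (Subsingleton.elim _ _)).trans (X.presheaf.map_id _))
  rw [this, Category.comp_id]

end Groth.Agent.Lib.SymAlg.PE
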