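import Mathlib.AlgebraicGeometry.Morphisms.Immersion
import Mathlib.AlgebraicGeometry.Limits

/-!
# Subrings of sections making an open an immersed subscheme of an affine scheme
-/

noncomputable section

set_option autoImplicit false
universe u

open CategoryTheory CategoryTheory.Limits AlgebraicGeometry Opposite TopologicalSpace

namespace Groth.Agent.Lib.SymAlg.PE

variable {X : Scheme.{u}}

/-- The morphism to `Spec A` given by functions on `T`. -/
def toSpec (T : X.Opens) {A : CommRingCat.{u}} (φ : A ⟶ Γ(X, T)) : (T : Scheme.{u}) ⟶ Spec A :=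
  T.toSpecΓ ≫ Spec.map φ

/-- `T ⟶ Spec K` is an immersion. -/
def ImmOn (T : X.Opens) (K : Subring Γ(X, T)) : Prop :=
  IsImmersion (toSpec T (CommRingCat.ofHom (R := K) K.subtype))

theorem toSpec_comp (T : X.Opens) {A B : CommRingCat.{u}} (φ : A ⟶ Γ(X, T)) (ψ : B ⟶ A) :
    toSpec T φ ≫ Spec.map ψ = toSpec T (ψ ≫ φ) := by
  rw [toSpec, toSpec, Category.assoc, ← Spec.map_comp]

theorem toSpec_res {T T' : X.Opens} (h : T' ≤ T) {A : CommRingCat.{u}} (φ : A ⟶ Γ(X, T)) :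
    toSpec T' (φ ≫ X.presheaf.map (homOfLE h).op) = X.homOfLE h ≫ toSpec T φ := by
  rw [toSpec, toSpec, Spec.map_comp, ← Category.assoc, Scheme.Opens.toSpecΓ_SpecMap_presheaf_map, Category.assoc]

theorem immOn_of_range {T : X.Opens} {A : CommRingCat.{u}} (φ : A ⟶ Γ(X, T)) {K : Subring Γ(X, T)}
    (hK : φ.hom.range ≤ K) (h : IsImmersion (toSpec T φ)) : ImmOn T K := by
  let ψ : A ⟶ CommRingCat.of K := CommRingCat.ofHom (φ.hom.codRestrict K fun x => hK ⟨x, rfl⟩)
  have e : ψ ≫ CommRingCat.ofHom (R := K) K.subtype = φ := rfl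
  have : IsImmersion (toSpec T (CommRingCat.ofHom (R := K) K.subtype) ≫ Spec.map ψ) := by
    rwa [toSpec_comp, e]
  exact IsImmersion.of_comp _ (Spec.map ψ)

theorem isImmersion_toSpec {T : X.Opens} {A : CommRingCat.{u}} (φ : A ⟶ Γ(X, T)) {K : Subring Γ(X, T)}
    (hK : K ≤ φ.hom.range) (h : ImmOn T K) : IsImmersion (toSpec T φ) := by
  let ι := CommRingCat.ofHom (R := φ.hom.range) φ.hom.range.subtype
  have h1 : IsImmersion (toSpec T ι) := immOn_of_range (CommRingCat.ofHom (R := K) K.subtype)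
    (by rintro _ ⟨x, rfl⟩; exact hK x.2) h
  have h2 : IsClosedImmersion (Spec.map (CommRingCat.ofHom φ.hom.rangeRestrict)) :=
    IsClosedImmersion.spec_of_surjective _ φ.hom.rangeRestrict_surjective
  have e : CommRingCat.ofHom φ.hom.rangeRestrict ≫ ι = φ := rfl
  rw [← e, ← toSpec_comp]
  infer_instance

theorem isImmersion_toSpec_iff {T : X.Opens} {A : CommRingCat.{u}} (φ : A ⟶ Γ(X, T)) :
    IsImmersion (toSpec T φ) ↔ ImmOn T φ.hom.range :=
  ⟨immOn_of_range φ le_rfl, isImmersion_toSpec φ le_rfl⟩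

theorem ImmOn.mono {T : X.Opens} {K K' : Subring Γ(X, T)} (h : ImmOn T K) (hle : K ≤ K') : ImmOn T K' :=
  immOn_of_range (CommRingCat.ofHom (R := K) K.subtype) (by rintro _ ⟨x, rfl⟩; exact hle x.2) h

theorem ImmOn.res {T T' : X.Opens} (h : T' ≤ T) {K : Subring Γ(X, T)} (hK : ImmOn T K) :
    ImmOn T' (K.map (X.presheaf.map (homOfLE h).op).hom) := by
  refine immOn_of_range (CommRingCat.ofHom (R := K) K.subtype ≫ X.presheaf.map (homOfLE h).op) ?_ ?_
  · rintro _ ⟨x, rfl⟩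
    exact ⟨x, x.2, rfl⟩
  · rw [toSpec_res h]
    have : IsImmersion (toSpec T (CommRingCat.ofHom (R := K) K.subtype)) := hK
    infer_instance

theorem immOn_top {T : X.Opens} (hT : IsAffineOpen T) : ImmOn T ⊤ := by
  refine immOn_of_range (𝟙 _) le_top ?_
  have : IsAffine (T : Scheme.{u}) := hT
  rw [toSpec, Spec.map_id, Category.comp_id, Scheme.Opens.toSpecΓ]
  infer_instance

theorem resLE_toSpec {Y : Scheme.{u}} (f : X ⟶ Y) {T : X.Opens} {V : Y.Opens} (h : T ≤ f ⁻¹ᵁ V)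
    {A : CommRingCat.{u}} (φ : A ⟶ Γ(Y, V)) :
    toSpec T (φ ≫ f.appLE V T h) = f.resLE V T h ≫ toSpec V φ := by
  rw [toSpec, toSpec, Spec.map_comp, ← Category.assoc, Scheme.Opens.toSpecΓ_SpecMap_appLE, Category.assoc]

/-- Pairs: an immersion into a product of immersed opens. -/
theorem ImmOn.pair {X₁ X₂ : Scheme.{u}} (f₁ : X ⟶ X₁) (f₂ : X ⟶ X₂) {T : X.Opens} {T₁ : X₁.Opens}
    {T₂ : X₂.Opens} (h₁ : T ≤ f₁ ⁻¹ᵁ T₁) (h₂ : T ≤ f₂ ⁻¹ᵁ T₂)
    (hT : IsImmersion (pullback.lift (f := terminal.from (T₁ : Scheme.{u})) (g := terminal.from (T₂ : Scheme.{u}))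
      (f₁.resLE T₁ T h₁) (f₂.resLE T₂ T h₂) (Subsingleton.elim _ _)))
    {K₁ : Subring Γ(X₁, T₁)} (hK₁ : ImmOn T₁ K₁) {K₂ : Subring Γ(X₂, T₂)} (hK₂ : ImmOn T₂ K₂) :
    ImmOn T (K₁.map (f₁.appLE T₁ T h₁).hom ⊔ K₂.map (f₂.appLE T₂ T h₂).hom) := by
  let K := K₁.map (f₁.appLE T₁ T h₁).hom ⊔ K₂.map (f₂.appLE T₂ T h₂).hom
  let ι := CommRingCat.ofHom (R := K) K.subtype
  let a₁ := toSpec T₁ (CommRingCat.ofHom (R := K₁) K₁.subtype)
  let a₂ := toSpec T₂ (CommRingCat.ofHom (R := K₂) K₂.subtype)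
  have hi₁ : IsImmersion a₁ := hK₁
  have hi₂ : IsImmersion a₂ := hK₂
  let c₁ : CommRingCat.of K₁ ⟶ CommRingCat.of K :=
    CommRingCat.ofHom (((f₁.appLE T₁ T h₁).hom.comp K₁.subtype).codRestrict K
      fun x => (le_sup_left : _ ≤ K) ⟨x, x.2, rfl⟩)
  let c₂ : CommRingCat.of K₂ ⟶ CommRingCat.of K :=
    CommRingCat.ofHom (((f₂.appLE T₂ T h₂).hom.comp K₂.subtype).codRestrict K
      fun x => (le_sup_right : _ ≤ K) ⟨x, x.2, rfl⟩)
  have hm : IsImmersion (pullback.map (terminal.from (T₁ : Scheme.{u})) (terminal.from (T₂ : Scheme.{u}))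
      (terminal.from (Spec (CommRingCat.of K₁))) (terminal.from (Spec (CommRingCat.of K₂))) a₁ a₂ (𝟙 _)
      (Subsingleton.elim _ _) (Subsingleton.elim _ _)) :=
    MorphismProperty.pullbackMap (P := @IsImmersion) hi₁ hi₂ (Subsingleton.elim _ _) (Subsingleton.elim _ _)
  let b : Spec (CommRingCat.of K) ⟶ pullback (terminal.from (Spec (CommRingCat.of K₁)))
      (terminal.from (Spec (CommRingCat.of K₂))) :=
    pullback.lift (Spec.map c₁) (Spec.map c₂) (Subsingleton.elim _ _)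
  have e : toSpec T ι ≫ b = pullback.lift (f := terminal.from (T₁ : Scheme.{u}))
        (g := terminal.from (T₂ : Scheme.{u})) (f₁.resLE T₁ T h₁) (f₂.resLE T₂ T h₂) (Subsingleton.elim _ _) ≫
      pullback.map (terminal.from (T₁ : Scheme.{u})) (terminal.from (T₂ : Scheme.{u}))
        (terminal.from (Spec (CommRingCat.of K₁))) (terminal.from (Spec (CommRingCat.of K₂))) a₁ a₂ (𝟙 _)
        (Subsingleton.elim _ _) (Subsingleton.elim _ _) := by
    apply pullback.hom_ext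
    · simp only [b, Category.assoc, pullback.lift_fst, pullback.lift_fst_assoc]
      rw [toSpec_comp]
      exact resLE_toSpec f₁ h₁ (CommRingCat.ofHom (R := K₁) K₁.subtype)
    · simp only [b, Category.assoc, pullback.lift_snd, pullback.lift_snd_assoc]
      rw [toSpec_comp]
      exact resLE_toSpec f₂ h₂ (CommRingCat.ofHom (R := K₂) K₂.subtype)
  have : IsImmersion (toSpec T ι ≫ b) := by
    rw [e]
    infer_instance
  exact IsImmersion.of_comp (toSpec T ι) b

end Groth.Agent.Lib.SymAlg.PE
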