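import Groth.Agent.Lib.SymAlg.PE.Main

/-!
# The projective bundle of an invertible module
-/

noncomputable section

set_option autoImplicit false
universe u

open CategoryTheory CategoryTheory.Limits AlgebraicGeometry Opposite TopologicalSpace

namespace Groth.Agent.Lib.SymAlg.PE

open Groth.Agent.Lib TensorMod TensorMod.Dual TensorMod.Gen TensorMod.HomGlue Ample.GenLocus

variable {S : Scheme.{u}}

theorem isIso_p_of_line {B : Tw S} (L : S.Modules) (hL : PicF.IsInvertible L) (hq : Coh.IsQCoh L)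
    {j : L ⟶ B.alg.toModule} (hj : RelProj.IsGrSymAlg L B.alg j) : IsIso B.p := by
  let G := Tw.Gens.ofSym B hq hj
  have key : ∀ x : B.P, ∃ (U : S.Opens) (hU : IsAffineOpen U) (e : Γ(G.E, U)),
      B.p x ∈ U ∧ IsGen L U (show Γ(L, U) from e) ∧ B.D hU (G.g U e) = B.p ⁻¹ᵁ U ∧
        Function.Surjective (B.p.appLE U (B.D hU (G.g U e)) (B.D_le hU _)) := by
    intro x
    obtain ⟨U₀, e₀, hx, he₀⟩ := isInvertible_iff.1 hL (B.p x)
    obtain ⟨U, hU, hxU, hle⟩ := exists_isAffineOpen_mem_and_subset (x := B.p x) (U := U₀) hx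
    have he : IsGen L U (rs L hle e₀) := he₀.res hle
    have hcoef : ∀ e' : Γ(L, U), ∃ a : Γ(S, U), e' = a • rs L hle e₀ := fun e' => exists_coord he e'
    have hsec : ∀ (a : Γ(S, U)),
        B.sec (G.mem U hU (a • rs L hle e₀)) = B.p.app U a • B.sec (G.mem U hU (rs L hle e₀)) := fun a =>
      ((G.canon_app hU (a • rs L hle e₀)).symm.trans (G.canon.app_smul a _)).trans
        (congrArg (fun z : Γ(B.O1, B.p ⁻¹ᵁ U) => B.p.app U a • z) (G.canon_app hU (rs L hle e₀)))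
    refine ⟨U, hU, rs L hle e₀, hxU, he, le_antisymm (B.D_le hU _) fun y hy => ?_, ?_⟩
    · obtain ⟨g, hg, hyg⟩ := B.exists_mem_D hU (x := y) hy
      obtain ⟨e', rfl⟩ := G.surj U hU g hg
      obtain ⟨a, rfl⟩ := hcoef e'
      rw [← B.gloc_sec hg] at hyg
      rw [← B.gloc_sec (G.mem U hU (rs L hle e₀))]
      have h1 : B.sec hg = B.p.app U a • B.sec (G.mem U hU (rs L hle e₀)) := hsec a
      obtain ⟨V, hV, t, hyV, ht⟩ := exists_gen_nhd B.isInvertible (x := y) (W := B.p ⁻¹ᵁ U) hy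
      obtain ⟨c, hc⟩ := exists_coord ht (rs B.O1 hV (B.sec (G.mem U hU (rs L hle e₀))))
      have h2 : rs B.O1 hV (B.sec hg) = (rf hV (B.p.app U a) * c) • t := by rw [h1, rs_smul, hc, smul_smul]
      have h3 : y ∈ B.P.basicOpen (rf hV (B.p.app U a) * c) := (gloc_inf_eq hV ht h2).le ⟨hyg, hyV⟩
      rw [Scheme.basicOpen_mul] at h3
      exact ((gloc_inf_eq hV ht hc).ge h3.2).1
    · refine fun z => ?_
      have hz : z ∈ Subring.closure (Set.range (G.fr hU (rs L hle e₀))) := (G.closure_fr hU _).symm ▸ trivial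
      refine RingHom.mem_range.1 ((Subring.closure_le (t := (B.p.appLE U _ (B.D_le hU _)).hom.range)).2 ?_ hz)
      rintro _ ⟨e', rfl⟩
      obtain ⟨a, ha⟩ := hcoef e'
      refine ⟨a, ?_⟩
      refine (B.isGen_sec (G.mem U hU (rs L hle e₀)) _ le_rfl).1 ?_
      simp only [rs_self]
      rw [← B.sec_eq_frac_smul (G.mem U hU (rs L hle e₀)) (G.mem U hU e'),
        B.sec_congr (G.mem U hU e') (G.mem U hU (a • rs L hle e₀)) (congrArg (G.g U) ha), hsec a, rs_smul]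
      rfl
  let v : L ⟶ (Scheme.Modules.pushforward (𝟙 S)).obj L := (Scheme.Modules.pushforwardId S).inv.app L
  have hv : Generates v := fun x => by
    obtain ⟨U₀, e₀, hx, he₀⟩ := isInvertible_iff.1 hL x
    obtain ⟨U, hU, hxU, hle⟩ := exists_isAffineOpen_mem_and_subset (x := x) (U := U₀) hx
    refine ⟨U, hU, rs L hle e₀, ?_⟩
    rw [gloc_eq_self (L := L) (W := (𝟙 S : S ⟶ S) ⁻¹ᵁ U) (m := ev v U (rs L hle e₀)) (he₀.res hle)]
    exact hxU
  obtain ⟨r, hr⟩ := exists_isMapFor (B := B) (hE := hq) hj v hv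
  refine ⟨r, ?_, hr.hq⟩
  have key2 : ∀ x : B.P, ∃ (U : S.Opens) (hU : IsAffineOpen U) (e : Γ(G.E, U)),
      x ∈ B.D hU (G.g U e) ∧ (B.D hU (G.g U e)).ι ≫ B.p ≫ r = (B.D hU (G.g U e)).ι := by
    intro x
    obtain ⟨U, hU, e, hxU, -, hD, hs⟩ := key x
    refine ⟨U, hU, e, hD.ge hxU, ?_⟩
    set D := B.D hU (G.g U e)
    have hDa : IsAffineOpen D := B.isAffineOpen_D hU (G.mem U hU e)
    have h1 : (⊤ : (D : Scheme.{u}).Opens) ≤ D.ι ⁻¹ᵁ D := by rw [Scheme.Opens.ι_preimage_self]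
    have h2 : (⊤ : (D : Scheme.{u}).Opens) ≤ (D.ι ≫ B.p ≫ r) ⁻¹ᵁ D := fun z _ => by
      change r (B.p (D.ι z)) ∈ D
      have h3 : B.p (r (B.p (D.ι z))) ∈ U := by
        rw [← Scheme.Hom.comp_apply r B.p, hr.hq]
        exact B.D_le hU _ z.2
      exact hD.ge h3
    rw [← eq_toSpec (D.ι ≫ B.p ≫ r) hDa h2]
    refine Eq.trans ?_ (eq_toSpec D.ι hDa h1)
    congr 2
    refine CommRingCat.hom_ext (RingHom.ext fun z => ?_)
    obtain ⟨a, rfl⟩ := hs z
    have h4 : (⊤ : (D : Scheme.{u}).Opens) ≤ (D.ι ≫ B.p) ⁻¹ᵁ U := fun z _ => B.D_le hU _ z.2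
    have e1 := valOn_comp (D.ι ≫ B.p ≫ r) B.p (B.D_le hU (G.g U e)) h2
      (h2.trans ((D.ι ≫ B.p ≫ r).preimage_mono (B.D_le hU (G.g U e))))
    have e2 := valOn_comp D.ι B.p (B.D_le hU (G.g U e)) h1 h4
    have e3 : ∀ (f g : (D : Scheme.{u}) ⟶ S) (hf : _) (hg : _), f = g → valOn f U hf = valOn g U hg := by
      rintro f g hf hg rfl; rfl
    exact ((congrArg (fun φ => φ a) e1).symm.trans
      (congrArg (fun φ => φ a) (e3 _ _ _ h4 (by simp only [Category.assoc, hr.hq, Category.comp_id])))).trans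
      (congrArg (fun φ => φ a) e2)
  choose U hU e hx he using key2
  refine (B.P.openCoverOfIsOpenCover (fun x => B.D (hU x) (G.g (U x) (e x)))
    (TopologicalSpace.IsOpenCover.mk (top_le_iff.1 fun x _ => Opens.mem_iSup.2 ⟨x, hx x⟩))).hom_ext _ _ fun x => ?_
  exact (he x).trans (Category.comp_id _).symm

end Groth.Agent.Lib.SymAlg.PE
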