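import Groth.Agent.Lib.SymAlg.PE.Exist

/-!
# Sections attached to a morphism into a relative Proj; the immersion property of the pieces
-/

noncomputable section

set_option autoImplicit false
universe u

open CategoryTheory CategoryTheory.Limits AlgebraicGeometry Opposite TopologicalSpace
open scoped HomogeneousIdeal

namespace Groth.Agent.Lib.SymAlg.PE

open Groth.Agent.Lib TensorMod TensorMod.Dual TensorMod.Gen TensorMod.HomGlue TensorMod.Pullback Ample.GenLocus

variable {S X : Scheme.{u}} {q : X ⟶ S} {E : S.Modules} {L : X.Modules}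

/-- The subring generated by the ratios. -/
def rats (v : E ⟶ (Scheme.Modules.pushforward q).obj L) (U : S.Opens) (e : Γ(E, U)) :
    Subring Γ(X, gloc (ev v U e)) :=
  Subring.closure (Set.range fun e' => ratio (ev v U e) (ev v U e'))

theorem ratio_mem_rats (v : E ⟶ (Scheme.Modules.pushforward q).obj L) (U : S.Opens) (e e' : Γ(E, U)) :
    ratio (ev v U e) (ev v U e') ∈ rats v U e :=
  Subring.subset_closure ⟨e', rfl⟩

/-- Near every point some section generates and its ratios give an immersion. -/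
def Crit (v : E ⟶ (Scheme.Modules.pushforward q).obj L) : Prop :=
  ∀ x : X, ∃ (U : S.Opens) (_ : IsAffineOpen U) (e : Γ(E, U)),
    x ∈ gloc (ev v U e) ∧ ImmOn (gloc (ev v U e)) (rats v U e)

theorem Crit.generates {v : E ⟶ (Scheme.Modules.pushforward q).obj L} (h : Crit v) : Generates v := fun x => by
  obtain ⟨U, hU, e, hx, -⟩ := h x
  exact ⟨U, hU, e, hx⟩

variable {B : Tw S} (G : B.Gens) (r : X ⟶ B.P) (hr : r ≫ B.p = q)
  (τ : (Scheme.Modules.pullback r).obj B.O1 ≅ L)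

/-- The sections of `L` coming from `O(1)`. -/
def vOf : G.E ⟶ (Scheme.Modules.pushforward q).obj L :=
  G.canon ≫ (Scheme.Modules.pushforward B.p).map ((pbAdj r).unit.app B.O1 ≫ (Scheme.Modules.pushforward r).map τ.hom) ≫
    (Scheme.Modules.pushforwardComp r B.p).hom.app L ≫ (Scheme.Modules.pushforwardCongr hr).hom.app L

theorem ev_vOf {U : S.Opens} (hU : IsAffineOpen U) (e : Γ(G.E, U)) :
    ev (vOf G r hr τ) U e =
      rs L (le_of_eq (congrArg (fun f : X ⟶ S => f ⁻¹ᵁ U) hr.symm)) (τ.hom.app (r ⁻¹ᵁ (B.p ⁻¹ᵁ U)) (unitSec r B.O1 (B.sec (G.mem U hU e)))) := by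
  rw [← G.canon_app hU e, ev, vOf]
  simp only [Scheme.Modules.Hom.comp_app, ConcreteCategory.comp_apply, Scheme.Modules.pushforwardComp_hom_app_app,
    Scheme.Modules.pushforwardCongr_hom_app_app]
  rfl

theorem gloc_vOf {U : S.Opens} (hU : IsAffineOpen U) (e : Γ(G.E, U)) :
    gloc (ev (vOf G r hr τ) U e) = r ⁻¹ᵁ B.D hU (G.g U e) := by
  rw [ev_vOf G r hr τ hU e, gloc_rs]
  erw [gloc_app_iso τ (W := r ⁻¹ᵁ (B.p ⁻¹ᵁ U)) (unitSec r B.O1 (B.sec (G.mem U hU e)))]
  rw [gloc_unitSec r B.isInvertible, B.gloc_sec]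
  refine inf_eq_left.2 ((r.preimage_mono (B.D_le hU _)).trans ?_)
  rw [← hr]
  rfl

theorem isMapFor_vOf : IsMapFor G (vOf G r hr τ) r := by
  refine ⟨hr, fun U hU e => (gloc_vOf G r hr τ hU e).le, fun U hU e e' => ?_⟩
  set T := gloc (ev (vOf G r hr τ) U e)
  have h : T ≤ r ⁻¹ᵁ B.D hU (G.g U e) := (gloc_vOf G r hr τ hU e).le
  have h1 := ratio_unique_on (m := ev (vOf G r hr τ) U e) (n := ev (vOf G r hr τ) U e') (V := T) le_rfl
    (c := r.appLE _ T h (G.fr hU e e')) ?_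
  · rw [show rf le_rfl (ratio _ _) = ratio _ _ from rf_self _ _] at h1
    exact h1.symm
  have hTU : T ≤ r ⁻¹ᵁ (B.p ⁻¹ᵁ U) := h.trans (r.preimage_mono (B.D_le hU _))
  have h2 : ∀ (f : Γ(G.E, U)) (p : T ≤ q ⁻¹ᵁ U), rs L p (ev (vOf G r hr τ) U f) =
      τ.hom.app T (rs _ h (unitSec r B.O1 (rs B.O1 (B.D_le hU (G.g U e)) (B.sec (G.mem U hU f))))) := fun f p => by
    rw [ev_vOf G r hr τ hU f, rs_rs]
    refine Eq.trans (rs_app τ.hom hTU (unitSec r B.O1 (B.sec (G.mem U hU f)))) ?_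
    refine congrArg (τ.hom.app T) ?_
    rw [← unitSec_rs r (B.D_le hU (G.g U e)), rs_rs]
  rw [h2 e', h2 e, ← Scheme.Modules.Hom.app_smul]
  refine congrArg (τ.hom.app T) ?_
  rw [B.sec_eq_frac_smul (G.mem U hU e) (G.mem U hU e'), unitSec_smul, rs_smul]
  rfl

/-- The pieces of an immersion are immersed in the spectra of their rings of ratios. -/
theorem immOn_of_isMapFor {v : G.E ⟶ (Scheme.Modules.pushforward q).obj L} {r : X ⟶ B.P} (h : IsMapFor G v r)
    [IsImmersion r] {U : S.Opens} (hU : IsAffineOpen U) (e : Γ(G.E, U)) :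
    ImmOn (gloc (ev v U e)) (rats v U e) := by
  set T := gloc (ev v U e)
  have hD := B.isAffineOpen_D hU (G.mem U hU e)
  have h1 : (⊤ : (T : Scheme.{u}).Opens) ≤ (T.ι ≫ r) ⁻¹ᵁ B.D hU (G.g U e) := fun x _ => h.le U hU e x.2
  have h2 : IsImmersion (toSpec T (r.appLE _ T (h.le U hU e)) ≫ hD.fromSpec) := by
    rw [← valOn_ι r (h.le U hU e) h1, eq_toSpec _ hD h1]
    infer_instance
  refine immOn_of_range (r.appLE _ T (h.le U hU e)) ?_ (IsImmersion.of_comp (f := toSpec T (r.appLE _ T (h.le U hU e))) hD.fromSpec)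
  rw [RingHom.range_eq_map, ← G.closure_fr hU e, RingHom.map_closure]
  refine Subring.closure_mono ?_
  rintro _ ⟨_, ⟨e', rfl⟩, rfl⟩
  exact ⟨e', (h.frac U hU e e').symm⟩

/-- A morphism whose pieces are immersed in the spectra of their rings of ratios is an immersion. -/
theorem isImmersion_of_crit {v : G.E ⟶ (Scheme.Modules.pushforward q).obj L} {r : X ⟶ B.P} (h : IsMapFor G v r)
    (heq : ∀ (U : S.Opens) (hU : IsAffineOpen U) (e : Γ(G.E, U)), gloc (ev v U e) = r ⁻¹ᵁ B.D hU (G.g U e))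
    (hv : Crit v) : IsImmersion r := by
  choose U hU e hx hI using hv
  let D : X → B.P.Opens := fun x => B.D (hU x) (G.g (U x) (e x))
  let Ω : B.P.Opens := ⨆ x, D x
  let k : X ⟶ (Ω : Scheme.{u}) := IsOpenImmersion.lift Ω.ι r (by
    rw [Scheme.Opens.range_ι]
    rintro _ ⟨x, rfl⟩
    exact Opens.mem_iSup.2 ⟨x, h.le _ (hU x) (e x) (hx x)⟩)
  have hk : k ≫ Ω.ι = r := IsOpenImmersion.lift_fac _ _ _
  have : IsImmersion k := by
    refine IsZariskiLocalAtTarget.of_iSup_eq_top (P := @IsImmersion) (fun x => Ω.ι ⁻¹ᵁ D x) ?_ fun x => ?_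
    · rw [← Scheme.Hom.preimage_iSup]
      exact top_le_iff.1 fun z _ => z.2
    · have hD := B.isAffineOpen_D (hU x) (G.mem (U x) (hU x) (e x))
      set T := gloc (ev v (U x) (e x)) with hT
      have h1 : (⊤ : (T : Scheme.{u}).Opens) ≤ (T.ι ≫ r) ⁻¹ᵁ D x := fun z _ => h.le _ (hU x) (e x) z.2
      have h2 : IsImmersion (toSpec T (r.appLE _ T (h.le _ (hU x) (e x)))) := by
        refine isImmersion_toSpec _ ?_ (hI x)
        rw [rats, Subring.closure_le]
        rintro _ ⟨e', rfl⟩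
        exact ⟨_, h.frac _ (hU x) (e x) e'⟩
      have h3 : IsImmersion (T.ι ≫ r) := by
        rw [← eq_toSpec _ hD h1, valOn_ι r (h.le _ (hU x) (e x)) h1]
        infer_instance
      have h4 : IsImmersion (r ∣_ D x) := by
        have : IsImmersion ((r ∣_ D x) ≫ (D x).ι) := by
          rw [morphismRestrict_ι, show D x = B.D (hU x) (G.g (U x) (e x)) from rfl, ← heq _ (hU x) (e x)]
          exact h3
        exact IsImmersion.of_comp _ (D x).ι
      rw [← hk, morphismRestrict_comp] at h4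
      exact @IsImmersion.of_comp _ _ _ (k ∣_ (Ω.ι ⁻¹ᵁ D x)) (Ω.ι ∣_ D x) h4
  rw [← hk]
  infer_instance

end Groth.Agent.Lib.SymAlg.PE
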