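import Groth.Agent.Lib.SymAlg.PE.Adapted
import Groth.Agent.Lib.ProjMor.Embed

/-!
# Very ample modules and immersions into projective space
-/

noncomputable section

set_option autoImplicit false
universe u

open CategoryTheory CategoryTheory.Limits AlgebraicGeometry Opposite TopologicalSpace

namespace Groth.Agent.Lib.SymAlg.PE

open Groth.Agent.Lib TensorMod TensorMod.Basic TensorMod.Free TensorMod.Dual TensorMod.Gen TensorMod.HomGlue TensorMod.Pullback
  Ample.GenLocus ProjMor ProjMor.Sec ProjMor.Frame ProjMor.Char ProjMor.Rep ProjMor.Embed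

variable {X Y : Scheme.{u}}

/-- Sections with immersing ratios give an immersion into projective space. -/
theorem isRelVeryAmplePn_of_immOn (q : X ⟶ Y) (M : X.Modules) (hM : PicF.IsInvertible M) {N : ℕ}
    (t : Fin (N + 1) → ProjUP.Γm M) (I : Set (Fin (N + 1))) (hcov : ∀ x, ∃ i ∈ I, x ∈ locus (t i))
    (V : Fin (N + 1) → Y.Opens) (hV : ∀ i ∈ I, IsAffineOpen (V i))
    (hle : ∀ i, i ∈ I → locus (t i) ≤ q ⁻¹ᵁ V i)
    (hgen : ∀ i, ∀ hi : i ∈ I, ImmOn (locus (t i)) (Subring.closure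
      (Set.range (q.appLE (V i) (locus (t i)) (hle i hi)).hom ∪
        {a | ∃ k, gl (t k) (locus (t i)) = a • gl (t i) (locus (t i))}))) :
    RelAmple.IsRelVeryAmplePn q M := by
  let Z : Type u := ULift.{u} ℤ
  obtain ⟨r, hr, τ, hτ⟩ := Poly.exists_map N Z (q ≫ specULiftZIsTerminal.from Y) M hM t
    (generatedBy_of_locus t fun x => by obtain ⟨i, -, h⟩ := hcov x; exact ⟨i, h⟩)
  let j : X ⟶ CohB1.ProjSpaceOver N Y := pullback.lift r q hr
  let p : CohB1.ProjSpaceOver N Y ⟶ CohB1.ProjSpace N Z := pullback.fst _ _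
  let π : CohB1.ProjSpaceOver N Y ⟶ Y := pullback.snd _ _
  have hjp : j ≫ p = r := pullback.lift_fst _ _ _
  have hjπ : j ≫ π = q := pullback.lift_snd _ _ _
  let 𝒜 := CohB1.polyGrading N Z
  let el : Fin (N + 1) → 𝒜 1 := fun i => ⟨MvPolynomial.X i, MvPolynomial.isHomogeneous_X Z i⟩
  have hadj := Poly.adjoin_lin N Z
  have hcv := Main.cover (Poly.lin_mem N Z) hadj
  have hinv : PicF.IsInvertible (Twist.twist 𝒜 1) :=
    Groth.Agent.Lib.ProjTilde.Invertible.twist_isInvertible_of_cover (fun x => by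
      obtain ⟨c, hc⟩ := hcv x
      exact ⟨c, c.2, hc⟩) 1
  have hloc : ∀ i, locus (t i) = r ⁻¹ᵁ Proj.basicOpen 𝒜 (el i : MvPolynomial (Fin (N + 1)) Z) := fun i => by
    rw [← locus_g hcv (el i)]
    exact (congrArg locus (hτ i)).symm.trans ((locus_iso τ _).trans (locus_pullback hinv r _))
  have hratio : ∀ i k, gl (t k) (locus (t i)) =
      r.appLE _ (locus (t i)) (hloc i).le (fr 𝒜 (el i) (el k)) • gl (t i) (locus (t i)) := fun i k =>
    ratio_of_iso (a := el i) (b := el k) τ (hτ i) (hτ k) (hloc i).le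
  let Dp : Fin (N + 1) → (CohB1.ProjSpaceOver N Y).Opens := fun i =>
    π ⁻¹ᵁ V i ⊓ p ⁻¹ᵁ Proj.basicOpen 𝒜 (el i : MvPolynomial (Fin (N + 1)) Z)
  have hDaff : ∀ i ∈ I, IsAffineOpen (Dp i) := fun i hi => by
    haveI : IsAffine (V i : Scheme.{u}) := hV i hi
    let O := π ⁻¹ᵁ V i
    have hp : IsAffineHom (O.ι ≫ p) := by
      have h1 : IsPullback (O.ι ≫ p) (π ∣_ V i)
          (CohB1.ProjSpace.toSpec N Z) ((V i).ι ≫ specULiftZIsTerminal.from Y) :=
        (isPullback_morphismRestrict π (V i)).flip.paste_horiz (IsPullback.of_hasPullback _ _)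
      exact MorphismProperty.of_isPullback h1.flip
        (inferInstance : IsAffineHom ((V i).ι ≫ specULiftZIsTerminal.from Y))
    have h := @IsAffineOpen.preimage _ _ _ (Proj.isAffineOpen_basicOpen 𝒜 _ (el i).2 one_pos) (O.ι ≫ p) hp
    have h2 := (O.ι.isAffineOpen_iff_of_isOpenImmersion).2 h
    rwa [Scheme.Hom.comp_preimage, Scheme.Hom.image_preimage_eq_opensRange_inf, Scheme.Opens.opensRange_ι] at h2
  let Ω : (CohB1.ProjSpaceOver N Y).Opens := ⨆ i : I, Dp i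
  have hjD : ∀ i ∈ I, j ⁻¹ᵁ Dp i = locus (t i) := fun i hi => by
    have e1 : j ⁻¹ᵁ (π ⁻¹ᵁ V i) = q ⁻¹ᵁ V i := congrArg (fun φ : X ⟶ Y => φ ⁻¹ᵁ V i) hjπ
    have e2 : j ⁻¹ᵁ (p ⁻¹ᵁ Proj.basicOpen 𝒜 (el i : MvPolynomial (Fin (N + 1)) Z)) = locus (t i) := by
      rw [hloc, ← Scheme.Hom.comp_preimage]
      exact congrArg (fun φ : X ⟶ CohB1.ProjSpace N Z => φ ⁻¹ᵁ _) hjp
    refine (Scheme.Hom.preimage_inf j).trans ?_
    rw [e1, e2]
    exact inf_eq_right.2 (hle i hi)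
  have hΩ : (⊤ : X.Opens) ≤ j ⁻¹ᵁ Ω := fun x _ => by
    obtain ⟨i, hi, hx⟩ := hcov x
    rw [← hjD i hi] at hx
    exact Opens.mem_iSup.2 ⟨⟨i, hi⟩, hx⟩
  have hclosed : ∀ i ∈ I, IsImmersion (j ∣_ Dp i) := fun i hi => by
    have key : ∀ (T : X.Opens) (hT : T = locus (t i)) (hle' : T ≤ j ⁻¹ᵁ Dp i),
        IsImmersion (j.resLE (Dp i) T hle') := by
      rintro T rfl hle'
      have h1 : IsImmersion (toSpec (locus (t i)) (j.appLE (Dp i) (locus (t i)) hle')) := by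
        refine isImmersion_toSpec _ (Subring.closure_le.2 ?_) (hgen i hi)
        rintro a (⟨y, rfl⟩ | ⟨k, hk⟩)
        · refine ⟨π.appLE (V i) (Dp i) inf_le_left y, ?_⟩
          rw [← ConcreteCategory.comp_apply, Scheme.Hom.appLE_comp_appLE]
          simp only [hjπ]
        · have ha : a = r.appLE _ (locus (t i)) (hloc i).le (fr 𝒜 (el i) (el k)) :=
            (isGen_locus (t i) _ le_rfl).1 (by simpa only [rs_self] using hk.symm.trans (hratio i k))
          refine ⟨p.appLE _ (Dp i) inf_le_right (fr 𝒜 (el i) (el k)), ?_⟩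
          rw [← ConcreteCategory.comp_apply, Scheme.Hom.appLE_comp_appLE, ha]
          simp only [hjp]
      have : IsImmersion (j.resLE (Dp i) (locus (t i)) hle' ≫ (Dp i).toSpecΓ) := by
        rwa [← Scheme.Opens.toSpecΓ_SpecMap_appLE]
      exact IsImmersion.of_comp _ (Dp i).toSpecΓ
    rw [← Scheme.Hom.resLE_eq_morphismRestrict]
    exact key _ (hjD i hi) le_rfl
  have himm : IsImmersion j := by
    let k : X ⟶ (Ω : Scheme.{u}) := IsOpenImmersion.lift Ω.ι j (by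
      rw [Scheme.Opens.range_ι]
      rintro _ ⟨x, rfl⟩
      exact hΩ (Opens.mem_top x))
    have hk : k ≫ Ω.ι = j := IsOpenImmersion.lift_fac _ _ _
    haveI : IsImmersion k := by
      refine IsZariskiLocalAtTarget.of_iSup_eq_top (P := @IsImmersion) (fun i : I => Ω.ι ⁻¹ᵁ Dp i) ?_
        fun i => ?_
      · rw [← Scheme.Hom.preimage_iSup]
        exact top_le_iff.1 fun x _ => x.2
      · have hsq : IsPullback (k ⁻¹ᵁ (Ω.ι ⁻¹ᵁ Dp i)).ι (k ∣_ (Ω.ι ⁻¹ᵁ Dp i)) k (Ω.ι ⁻¹ᵁ Dp i).ι :=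
          (isPullback_morphismRestrict k _).flip
        have hP : IsImmersion (j ∣_ Dp i) := hclosed i i.2
        rw [← hk, morphismRestrict_comp] at hP
        exact @IsImmersion.of_comp _ _ _ (k ∣_ (Ω.ι ⁻¹ᵁ Dp i)) (Ω.ι ∣_ Dp i) hP
    rw [← hk]
    infer_instance
  refine ⟨N, j, himm, hjπ, ⟨τ.symm ≪≫ ?_⟩⟩
  exact (Scheme.Modules.pullbackCongr hjp.symm).app (Twist.twist 𝒜 1) ≪≫
    ((Scheme.Modules.pullbackComp j p).app (Twist.twist 𝒜 1)).symm


theorem isRelVeryAmplePn_of_isRelVeryAmple [IsAffine Y] (f : X ⟶ Y) [QuasiCompact f] [LocallyOfFiniteType f]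
    (L : X.Modules) (hL : PicF.IsInvertible L) (h : RelProj.IsRelVeryAmple f L) :
    RelAmple.IsRelVeryAmplePn f L := by
  classical
  obtain ⟨E, hE, v, hv, hI⟩ := exists_data h
  have : CompactSpace X := QuasiCompact.compactSpace_of_compactSpace f
  have h1 : ∀ x : X, ∃ (a : Γ(L, (⊤ : X.Opens))) (A : Finset Γ(L, (⊤ : X.Opens))), x ∈ gloc a ∧
      ImmOn (gloc a) (Subring.closure (Set.range (f.appLE ⊤ (gloc a) (gloc_le a)).hom ∪ ratio a '' ↑A)) := fun x => by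
    obtain ⟨e, he⟩ := hv.mem_affine hE (isAffineOpen_top Y) (x := x) trivial
    obtain ⟨G₀, hG, hG₀, hImm⟩ := immOn_finite f (isAffineOpen_top Y) (gloc_le _)
      (isCompact_gloc hL isCompact_univ (ev v ⊤ e)) (hI _ (isAffineOpen_top Y) e)
    obtain ⟨A, -, hA, rfl⟩ := Set.exists_subset_image_finite_and.1
      (⟨G₀, by rw [Set.image_univ]; exact hG, hG₀, rfl⟩ :
        ∃ t ⊆ (fun a' => ratio (ev v ⊤ e) (ev v ⊤ a')) '' Set.univ, t.Finite ∧ t = G₀)
    refine ⟨ev v ⊤ e, hA.toFinset.image (ev v ⊤), he, ?_⟩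
    rwa [Finset.coe_image, Set.Finite.coe_toFinset, ← Set.image_comp]
  choose a A ha hImm using h1
  obtain ⟨tX, htX⟩ := isCompact_univ.elim_finite_subcover (fun x => (gloc (a x) : Set X))
    (fun x => (gloc (a x)).isOpen) fun x _ => Set.mem_iUnion.2 ⟨x, ha x⟩
  let B : Finset Γ(L, (⊤ : X.Opens)) := insert 0 (tX.biUnion fun x => insert (a x) (A x))
  obtain ⟨N, hN⟩ : ∃ N, B.card = N + 1 := ⟨B.card - 1, by
    have : 0 < B.card := Finset.card_pos.2 ⟨0, Finset.mem_insert_self _ _⟩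
    omega⟩
  let ε : Fin (N + 1) ≃ {b // b ∈ B} := (B.equivFin.trans (finCongr hN)).symm
  let t : Fin (N + 1) → ProjUP.Γm L := fun k => (ε k).1
  have hloc : ∀ b : Γ(L, (⊤ : X.Opens)), locus b = gloc b := fun b =>
    (gloc_sv (Modules.Free.unitHom L b)).symm.trans (congrArg gloc (Modules.Free.unitHom_app_one L b))
  have hmem : ∀ x ∈ tX, ∀ b ∈ insert (a x) (A x), ∃ k, t k = b := fun x hx b hb =>
    ⟨ε.symm ⟨b, Finset.mem_insert_of_mem (Finset.mem_biUnion.2 ⟨x, hx, hb⟩)⟩,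
      congrArg Subtype.val (ε.apply_symm_apply _)⟩
  refine isRelVeryAmplePn_of_immOn f L hL t {k | ∃ x ∈ tX, t k = a x} (fun x => ?_) (fun _ => ⊤)
    (fun _ _ => isAffineOpen_top Y) (fun _ _ => le_top) ?_
  · obtain ⟨z, hz, hxz⟩ := Set.mem_iUnion₂.1 (htX (Set.mem_univ x))
    obtain ⟨k, hk⟩ := hmem z hz (a z) (Finset.mem_insert_self _ _)
    exact ⟨k, ⟨z, hz, hk⟩, by rw [hk, hloc]; exact hxz⟩
  · rintro k ⟨z, hz, hk⟩
    have key : ∀ (O : X.Opens) (_ : O = gloc (a z)) (hO : O ≤ f ⁻¹ᵁ ⊤),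
        ImmOn O (Subring.closure (Set.range (f.appLE ⊤ O hO).hom ∪ {c | ∃ k', gl (t k') O = c • gl (t k) O})) := by
      rintro O rfl hO
      refine (hImm z).mono (Subring.closure_mono (Set.union_subset_union_right _ ?_))
      rintro _ ⟨b, hb, rfl⟩
      obtain ⟨k', hk'⟩ := hmem z hz b (Finset.mem_insert_of_mem hb)
      exact ⟨k', by rw [hk, hk']; exact ratio_spec (a z) b⟩
    exact key _ (by rw [hk, hloc]) le_top

end Groth.Agent.Lib.SymAlg.PE
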