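import Groth.Agent.Lib.SymAlg.PE.Main
import Groth.Agent.Lib.CohBasics.Affine
import Groth.Agent.Lib.Modules.LocalSections
import Groth.Agent.Lib.PProj.Main
import Groth.Agent.Lib.HProj.Proper

/-!
# Projective morphisms and projective bundles of modules of finite type
-/

noncomputable section

set_option autoImplicit false
universe u

open CategoryTheory CategoryTheory.Limits AlgebraicGeometry Opposite TopologicalSpace DirectSum
open scoped HomogeneousIdeal

namespace Groth.Agent.Lib.SymAlg.PE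

open Groth.Agent.Lib Groth.Agent.H58VA TensorMod TensorMod.Dual TensorMod.Gen TensorMod.HomGlue TensorMod.Pullback
  QCAlgSub.Basic

variable {S X : Scheme.{u}}

theorem isFTDeg_one_of_isGrSymAlg {E : S.Modules} (hE : Coh.IsQCoh E) (hft : CohB1.IsFT E)
    {𝒯 : RelProj.QCGrAlg S} {j : E ⟶ 𝒯.toModule} (hj : RelProj.IsGrSymAlg E 𝒯 j) : 𝒯.IsFTDeg 1 := by
  classical
  intro U hU
  haveI : E.IsQuasicoherent := hE
  haveI : SheafOfModules.IsFiniteType (R := S.ringCatSheaf) E := hft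
  obtain ⟨n, G, hG⟩ := @Module.Finite.exists_fin Γ(S, U) Γ(E, U) _ _ _ (CohBasics.Affine.finite_sections (M := E) hU)
  refine ⟨Finset.univ.image fun k => jm 𝒯.toQCAlg j U (G k), ?_, fun x hx => ?_⟩
  · intro t ht
    obtain ⟨k, -, rfl⟩ := Finset.mem_image.1 (Finset.mem_coe.1 ht)
    exact hj.2 U hU (G k)
  obtain ⟨e, rfl⟩ := Gen.deg_one hj hE hU hx
  obtain ⟨c, hc⟩ := (Submodule.mem_span_range_iff_exists_fun Γ(S, U)).1
    (hG.ge Submodule.mem_top : e ∈ Submodule.span Γ(S, U) (Set.range G))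
  refine ⟨fun t => ∑ k ∈ Finset.univ.filter (fun k => jm 𝒯.toQCAlg j U (G k) = t), c k, ?_⟩
  have h1 : jm 𝒯.toQCAlg j U e = ∑ k, (𝒯.str.app (op U)).hom (c k) * jm 𝒯.toQCAlg j U (G k) := by
    rw [← hc]
    refine (map_sum (j.app U).hom _ _).trans (Finset.sum_congr rfl fun k _ => ?_)
    exact Scheme.Modules.Hom.app_smul j (c k) (G k)
  rw [h1, ← Finset.sum_fiberwise_of_maps_to (t := Finset.univ.image fun k => jm 𝒯.toQCAlg j U (G k))
    (g := fun k => jm 𝒯.toQCAlg j U (G k)) (fun k hk => Finset.mem_image_of_mem _ hk)]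
  refine Finset.sum_congr rfl fun t _ => ?_
  rw [map_sum, Finset.sum_mul]
  exact Finset.sum_congr rfl fun k hk => by rw [(Finset.mem_filter.1 hk).2]

theorem exists_gens_ft (B : Tw S) (hft : B.alg.IsFTDeg 1) : ∃ G : B.Gens, CohB1.IsFT G.E := by
  classical
  obtain ⟨π, hπ⟩ := exists_degProj B.alg 1
  have : B.alg.toModule.IsQuasicoherent := isQuasicoherent_toModule B.alg.toQCAlg
  let φ := π - 𝟙 B.alg.toModule
  have hk : (kernel φ).IsQuasicoherent := QCoh.Closure.isQCoh_kernel φ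
  let Sh := ShortComplex.mk (kernel.ι φ) φ (kernel.condition φ)
  have hex : Sh.Exact := ShortComplex.exact_kernel _
  have : Mono Sh.f := inferInstanceAs (Mono (kernel.ι φ))
  have hmem : ∀ (U : S.Opens) (hU : IsAffineOpen U) (e : Γ(kernel φ, U)),
      jm B.alg.toQCAlg (kernel.ι φ) U e ∈ B.alg.deg U hU 1 := fun U hU e => by
    have h : π.app U ((kernel.ι φ).app U e) - (kernel.ι φ).app U e = 0 :=
      QCoh.Closure.sections_comp (S := Sh) U e
    rw [sub_eq_zero] at h
    have h2 : (decompose (B.alg.deg U hU) (jm B.alg.toQCAlg (kernel.ι φ) U e) 1 : B.R U) =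
        jm B.alg.toQCAlg (kernel.ι φ) U e := (hπ U hU _).symm.trans h
    rw [← h2]
    exact SetLike.coe_mem _
  have hsurj : ∀ (U : S.Opens) (hU : IsAffineOpen U) (b : B.R U), b ∈ B.alg.deg U hU 1 →
      ∃ e : Γ(kernel φ, U), jm B.alg.toQCAlg (kernel.ι φ) U e = b := fun U hU b hb => by
    obtain ⟨y, hy⟩ := QCoh.Closure.sections_exact hex U (show Γ(B.alg.toModule, U) from b) (by
      change π.app U (show Γ(B.alg.toModule, U) from b) - (show Γ(B.alg.toModule, U) from b) = 0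
      rw [sub_eq_zero]
      exact (hπ U hU _).trans (decompose_of_mem_same _ hb))
    exact ⟨y, hy⟩
  refine ⟨⟨kernel φ, hk, kernel.ι φ, hmem, hsurj⟩,
    CohBasics.Affine.isFiniteType_of_finite_sections (M := kernel φ) fun x => ?_⟩
  obtain ⟨U, hU, hx, -⟩ := exists_isAffineOpen_mem_and_subset (U := (⊤ : S.Opens)) (x := x) trivial
  refine ⟨U, hU, hx, ?_⟩
  obtain ⟨T, hT, hgen⟩ := hft U hU
  choose et het using fun t : {t // t ∈ T} => hsurj U hU t.1 (hT t.2)
  refine ⟨⟨T.attach.image et, eq_top_iff.2 fun e _ => ?_⟩⟩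
  obtain ⟨c, hc⟩ := hgen _ (hmem U hU e)
  have he : e = ∑ t ∈ T.attach, c t.1 • et t := by
    refine Modules.LocalSections.app_injective (kernel.ι φ) U ?_
    refine hc.trans ((Finset.sum_attach T fun t => (B.alg.str.app (op U)).hom (c t) * t).symm.trans ?_)
    refine Eq.trans (Finset.sum_congr rfl fun t _ => ?_) (map_sum ((kernel.ι φ).app U).hom _ _).symm
    refine Eq.trans ?_ (Scheme.Modules.Hom.app_smul (kernel.ι φ) (c t.1) (et t)).symm
    exact congrArg (fun b => (B.alg.str.app (op U)).hom (c t.1) * b) (het t).symm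
  rw [he]
  exact Submodule.sum_mem _ fun t ht => Submodule.smul_mem _ _
    (Submodule.subset_span (Finset.mem_coe.2 (Finset.mem_image_of_mem _ ht)))

theorem isProjective_iff_closedImmersion {Y : Scheme.{u}} (f : X ⟶ Y) :
    RelProj.IsProjective f ↔
      ∃ (E : Y.Modules) (𝒯 : RelProj.QCGrAlg Y) (j : E ⟶ 𝒯.toModule) (P : Scheme.{u}) (p : P ⟶ Y)
        (chart : ∀ (U : Y.Opens) (hU : IsAffineOpen U), ((p ⁻¹ᵁ U : P.Opens) : Scheme.{u}) ≅ Proj (𝒯.deg U hU))
        (i : X ⟶ P),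
        Coh.IsQCoh E ∧ CohB1.IsFT E ∧ RelProj.IsGrSymAlg E 𝒯 j ∧ RelProj.IsRelProj 𝒯 p chart ∧
          IsClosedImmersion i ∧ i ≫ p = f := by
  constructor
  · intro hf
    have hprop := HProj.Proper.isProper_of_isProjective hf
    obtain ⟨𝒮, P, p, chart, e, hgen, hft, hP, he⟩ := hf
    obtain ⟨O1, lam, hO⟩ := Groth.Agent.H81.RelProj.RelTwist.exists_isRelTwist hP 1
    let B₀ : Tw Y := ⟨𝒮, hgen, P, p, chart, hP, O1, lam, hO⟩
    obtain ⟨G, hG⟩ := exists_gens_ft B₀ hft
    let L := (Scheme.Modules.pullback e.hom).obj O1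
    let v₀ := vOf G e.hom he (Iso.refl L)
    have hgens : Generates v₀ := fun x => by
      obtain ⟨U, hU, hxU, -⟩ := exists_isAffineOpen_mem_and_subset (x := B₀.p (e.hom x)) (U := ⊤) trivial
      obtain ⟨g, hg, hxg⟩ := B₀.exists_mem_D hU hxU
      obtain ⟨a, rfl⟩ := G.surj U hU g hg
      refine ⟨U, hU, a, ?_⟩
      rw [gloc_vOf G e.hom he (Iso.refl L) hU a]
      exact hxg
    have hcrit : Crit v₀ := crit_of_data hgens fun U hU a =>
      immOn_of_isMapFor G (isMapFor_vOf G e.hom he (Iso.refl L)) hU a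
    have hE := G.qcoh
    haveI : G.E.IsQuasicoherent := hE
    have hj : RelProj.IsGrSymAlg G.E (Exists.grAlg G.E) (Exists.jmap G.E) := Exists.isGrSymAlg G.E
    let B : Tw Y := Tw.ofAlg (Exists.grAlg G.E) (Gen.isGenDegOne hj hE)
    obtain ⟨r, hr⟩ := exists_isMapFor (B := B) (hE := hE) hj v₀ hgens
    obtain ⟨τ, hτ⟩ := exists_tau (G := Tw.Gens.ofSym B hE hj) hgens hr
    have heq : ∀ (U : Y.Opens) (hU : IsAffineOpen U) (a : Γ((Tw.Gens.ofSym B hE hj).E, U)),
        gloc (ev v₀ U a) = r ⁻¹ᵁ B.D hU ((Tw.Gens.ofSym B hE hj).g U a) := fun U hU a => by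
      have h1 : ev v₀ U a = ev (vOf (Tw.Gens.ofSym B hE hj) r hr.hq τ) U a :=
        (hτ U hU a).trans (ev_vOf (Tw.Gens.ofSym B hE hj) r hr.hq τ hU a).symm
      exact (congrArg gloc h1).trans (gloc_vOf _ r hr.hq τ hU a)
    have hi : IsImmersion r := isImmersion_of_crit (Tw.Gens.ofSym B hE hj) hr heq hcrit
    have := RelProjBasics.Basic.isSeparated B.hP
    have : IsProper (r ≫ B.p) := by rw [hr.hq]; exact hprop
    have : IsProper r := IsProper.of_comp r B.p
    exact ⟨G.E, B.alg, Exists.jmap G.E, B.P, B.p, B.chart, r, hE, hG, hj, B.hP,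
      IsClosedImmersion.of_isPreimmersion r r.isClosedMap.isClosed_range, hr.hq⟩
  · rintro ⟨E, 𝒯, j, P, p, chart, i, hE, hft, hj, hP, hi, rfl⟩
    refine PProj.Main.isProjective_closedImmersion_comp ?_ i
    exact ⟨𝒯, P, p, chart, Iso.refl P, Gen.isGenDegOne hj hE, isFTDeg_one_of_isGrSymAlg hE hft hj, hP,
      Category.id_comp p⟩

end Groth.Agent.Lib.SymAlg.PE
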