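import Groth.Agent.Lib.SymAlg.PE.Main
import Groth.Agent.Lib.TensorMod.TensorQCoh

/-!
# Tensor products of relatively very ample modules
-/

noncomputable section

set_option autoImplicit false
universe u

open CategoryTheory CategoryTheory.Limits AlgebraicGeometry Opposite TopologicalSpace

namespace Groth.Agent.Lib.SymAlg.PE

open Groth.Agent.Lib TensorMod TensorMod.Dual TensorMod.Gen TensorMod.HomGlue TensorMod.Pullback
  TensorMod.Basic TensorMod.Free Ample.GenLocus

variable {S X : Scheme.{u}} {q : X ⟶ S} {L L' : X.Modules} {E E' : S.Modules}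

/-- The product of two maps to direct images. -/
def tensorData (v : E ⟶ (Scheme.Modules.pushforward q).obj L) (v' : E' ⟶ (Scheme.Modules.pushforward q).obj L') :
    CohB1.tensorMod E E' ⟶ (Scheme.Modules.pushforward q).obj (CohB1.tensorMod L L') :=
  tmap v v' ≫ mu q L L'

theorem ev_tensorData (v : E ⟶ (Scheme.Modules.pushforward q).obj L)
    (v' : E' ⟶ (Scheme.Modules.pushforward q).obj L') (U : S.Opens) (e : Γ(E, U)) (e' : Γ(E', U)) :
    ev (tensorData v v') U (SecTwist.tmul E E' U e e') = SecTwist.tmul L L' (q ⁻¹ᵁ U) (ev v U e) (ev v' U e') := by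
  have h := pairM_comp (𝟙 (CohB1.tensorMod E E')) (tensorData v v') e e'
  rw [Category.id_comp, pairM_id] at h
  refine h.symm.trans ?_
  rw [tensorData, pairM_tmap_comp, ← pairM_id]
  exact pairM_mu q _ _

theorem gloc_tensorData (hL : PicF.IsInvertible L) (hL' : PicF.IsInvertible L')
    (v : E ⟶ (Scheme.Modules.pushforward q).obj L)
    (v' : E' ⟶ (Scheme.Modules.pushforward q).obj L') (U : S.Opens) (e : Γ(E, U)) (e' : Γ(E', U)) :
    gloc (ev (tensorData v v') U (SecTwist.tmul E E' U e e')) = gloc (ev v U e) ⊓ gloc (ev v' U e') := by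
  rw [ev_tensorData]
  exact gloc_tmul hL hL' _ _

theorem crit_tensor (hL : PicF.IsInvertible L) (hL' : PicF.IsInvertible L')
    {v : E ⟶ (Scheme.Modules.pushforward q).obj L} {v' : E' ⟶ (Scheme.Modules.pushforward q).obj L'}
    (hv : Crit v) (hv' : Generates v') : Crit (tensorData v v') := by
  intro x
  obtain ⟨U, hU, e, hx, hI⟩ := hv x
  obtain ⟨U', hU', e', hx'⟩ := hv' x
  obtain ⟨W, hW, hxW, hWle⟩ := exists_isAffineOpen_mem_and_subset (x := q x) (U := U ⊓ U')
    ⟨gloc_le (ev v U e) hx, gloc_le (ev v' U' e') hx'⟩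
  have i : W ≤ U := hWle.trans inf_le_left
  have i' : W ≤ U' := hWle.trans inf_le_right
  refine ⟨W, hW, SecTwist.tmul E E' W (rs E i e) (rs E' i' e'), ?_, ?_⟩
  · rw [gloc_tensorData hL hL', gloc_ev_rs, gloc_ev_rs]
    exact ⟨⟨hx, hxW⟩, hx', hxW⟩
  set f : Γ(CohB1.tensorMod E E', W) := SecTwist.tmul E E' W (rs E i e) (rs E' i' e')
  set T := gloc (ev (tensorData v v') W f) with hTdef
  have hT1 : T ≤ gloc (ev v W (rs E i e)) := by rw [hTdef, gloc_tensorData hL hL']; exact inf_le_left
  have hT : T ≤ gloc (ev v U e) := hT1.trans (by rw [gloc_ev_rs]; exact inf_le_left)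
  refine (hI.res hT).mono ?_
  rw [rats, rats, RingHom.map_closure, Subring.closure_le]
  rintro _ ⟨_, ⟨e₁, rfl⟩, rfl⟩
  refine Subring.subset_closure ⟨SecTwist.tmul E E' W (rs E i e₁) (rs E' i' e'), ?_⟩
  have h := ratio_unique_on (m := ev (tensorData v v') W f)
    (n := ev (tensorData v v') W (SecTwist.tmul E E' W (rs E i e₁) (rs E' i' e'))) (V := T) le_rfl
    (c := rf hT (ratio (ev v U e) (ev v U e₁))) ?_
  · exact (rf_self le_rfl _).symm.trans h
  have h1 := congrArg (rs L hT1) (ratio_spec (ev v W (rs E i e)) (ev v W (rs E i e₁)))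
  rw [rs_smul, rs_rs, rs_rs, ratio_res v i e e₁ hT hT1] at h1
  have hTW : T ≤ q ⁻¹ᵁ W := gloc_le _
  have h2 : ∀ e₂ : Γ(E, U), rs (CohB1.tensorMod L L') hTW
      (ev (tensorData v v') W (SecTwist.tmul E E' W (rs E i e₂) (rs E' i' e'))) =
      SecTwist.tmul L L' T (rs L hTW (ev v W (rs E i e₂))) (rs L' hTW (ev v' W (rs E' i' e'))) := fun e₂ => by
    rw [ev_tensorData, rs_tmul]
  refine (h2 e₁).trans ?_
  rw [h1]
  refine Eq.trans ?_ (congrArg (fun z => rf hT (ratio (ev v U e) (ev v U e₁)) • z) (h2 e)).symm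
  have h3 := tmul_smul (M := L) (N := L') (U := T) (rf hT (ratio (ev v U e) (ev v U e₁))) 1
    (rs L hTW (ev v W (rs E i e))) (rs L' hTW (ev v' W (rs E' i' e')))
  rw [one_smul, mul_one] at h3
  exact h3

theorem isRelVeryAmple_tensor (hL : PicF.IsInvertible L) (hL' : PicF.IsInvertible L')
    (h : RelProj.IsRelVeryAmple q L) (hE' : Coh.IsQCoh E') (v' : E' ⟶ (Scheme.Modules.pushforward q).obj L')
    (hv' : Generates v') : RelProj.IsRelVeryAmple q (CohB1.tensorMod L L') := by
  obtain ⟨F, hF, v, hg, hI⟩ := exists_data h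
  have h1 : F.IsQuasicoherent := hF
  have h2 : E'.IsQuasicoherent := hE'
  exact isRelVeryAmple_of_crit (TensorQCoh.isQCoh_tensorMod F E') (tensorData v v')
    (crit_tensor hL hL' (crit_of_data hg hI) hv')

theorem generates_of_epi (hL' : PicF.IsInvertible L') (φ : (Scheme.Modules.pullback q).obj E' ⟶ L') [Epi φ] :
    Generates ((Scheme.Modules.pullbackPushforwardAdjunction q).homEquiv E' L' φ) := fun x => by
  obtain ⟨V, hV, hxV, -⟩ := exists_isAffineOpen_mem_and_subset (x := q x) (U := ⊤) trivial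
  obtain ⟨U, -, hU, e, hx⟩ := exists_mem_gloc_of_epi q hL' φ (x := x) hxV hV
  exact ⟨U, hU, e, hx⟩

/-- The inverse image of an invertible module on the base is generated by the sections coming from it. -/
theorem generates_unit {K : S.Modules} (hK : PicF.IsInvertible K) :
    Generates ((pbAdj q).unit.app K) := fun x => by
  obtain ⟨U, e, hxU, he⟩ := isInvertible_iff.1 hK (q x)
  obtain ⟨W, hW, hxW, hWle⟩ := exists_isAffineOpen_mem_and_subset (x := q x) (U := U) hxU
  refine ⟨W, hW, rs K hWle e, ?_⟩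
  change x ∈ gloc (unitSec q K (rs K hWle e))
  rw [gloc_unitSec q hK, gloc_eq_self (he.res hWle)]
  exact hxW

end Groth.Agent.Lib.SymAlg.PE
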