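import Groth.Agent.Lib.SymAlg.PE.Univ
import Groth.Agent.Lib.SymAlg.PE.Tensor
import Groth.Agent.Lib.SymAlg.Gen
import Groth.Agent.Lib.Modules.TensorAffine

/-!
# `P(E ⊗ L) ≅ P(E)` for an invertible module `L`
-/

noncomputable section

set_option autoImplicit false
universe u

open CategoryTheory CategoryTheory.Limits AlgebraicGeometry Opposite TopologicalSpace
open scoped HomogeneousIdeal

namespace Groth.Agent.Lib.SymAlg.PE

open Groth.Agent.Lib TensorMod TensorMod.Dual TensorMod.Gen TensorMod.HomGlue TensorMod.Pullback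
  TensorMod.Basic Ample.GenLocus
open Groth.Agent.Lib.QCAlgSub.Basic (jm)
open scoped TensorProduct

variable {S : Scheme.{u}}

/-- A semilinear map `a` on `E(U)` with `a e = 1` gives a ring map on `Γ(D₊(j e))`. -/
theorem exists_hom_of_lin {B : Tw S} {E : S.Modules} {hE : Coh.IsQCoh E} {j : E ⟶ B.alg.toModule}
    (hj : RelProj.IsGrSymAlg E B.alg j) {U : S.Opens} (hU : IsAffineOpen U) (e : Γ(E, U))
    {A : Type u} [CommRing A] (f : Γ(S, U) →+* A) (a : Γ(E, U) → A)
    (ha : ∀ x y, a (x + y) = a x + a y) (hf : ∀ (r : Γ(S, U)) x, a (r • x) = f r * a x) (h1 : a e = 1) :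
    ∃ φ : Γ(B.P, B.D hU ((Tw.Gens.ofSym B hE hj).g U e)) →+* A,
      ∀ e', φ ((Tw.Gens.ofSym B hE hj).fr hU e e') = a e' := by
  have : E.IsQuasicoherent := hE
  let G := Tw.Gens.ofSym B hE hj
  letI : Algebra Γ(S, U) (B.R U) := Unique.algInst B.alg.toQCAlg U
  letI : Algebra Γ(S, U) A := f.toAlgebra
  let lin : Γ(E, U) →ₗ[Γ(S, U)] A := { toFun := a, map_add' := ha, map_smul' := hf }
  have hsym := Unique.isSymmetricAlgebra hj.1 hU
  let F : B.R U →ₐ[Γ(S, U)] A := hsym.lift lin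
  have hFj : ∀ e', F (jm B.alg.toQCAlg j U e') = a e' := fun e' =>
    IsSymmetricAlgebra.lift_eq hsym lin e'
  let g : B.R U := G.g U e
  have hg : g ∈ B.alg.deg U hU 1 := G.mem U hU e
  have hFg : F g = 1 := (hFj e).trans h1
  let F' : Localization.Away g →+* A :=
    IsLocalization.Away.lift g (g := F.toRingHom) (show IsUnit (F g) by rw [hFg]; exact isUnit_one)
  let ψ : HomogeneousLocalization.Away (B.alg.deg U hU) g →+* A :=
    F'.comp (algebraMap _ (Localization.Away g))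
  have hψ : ∀ b (hb : b ∈ B.alg.deg U hU 1), ψ (Away.frac _ hg hb) = F b := fun b hb => by
    have h1 : F' (algebraMap _ _ b) = F b := IsLocalization.Away.lift_eq g _ b
    have h2 : F' (algebraMap _ _ g) = 1 := (IsLocalization.Away.lift_eq g _ g).trans hFg
    change F' (Away.frac _ hg hb).val = _
    rw [Away.val_frac, ← h1]
    have h3 : Localization.mk b (⟨g, 1, pow_one g⟩ : Submonoid.powers g) *
        algebraMap (B.R U) (Localization.Away g) g = algebraMap _ _ b := by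
      rw [← Localization.mk_one_eq_algebraMap, ← Localization.mk_one_eq_algebraMap, Localization.mk_mul,
        Localization.mk_eq_mk_iff, Localization.r_iff_exists]
      exact ⟨1, by simp [mul_comm]⟩
    have h4 := congrArg F' h3
    rwa [map_mul, h2, mul_one] at h4
  haveI := B.isIso_toBasic hU g
  let eA := RingEquiv.ofBijective _ (B.awayToSection_bijective hg)
  refine ⟨(ψ.comp eA.symm.toRingHom).comp (B.toBasic hU g).hom, fun e' => ?_⟩
  change ψ (eA.symm (B.toBasic hU g (G.fr hU e e'))) = _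
  rw [B.toBasic_frac]
  exact ((congrArg ψ (eA.symm_apply_apply _)).trans (hψ _ _)).trans (hFj e')

theorem generates_canon {B : Tw S} (G : B.Gens) : Generates G.canon := fun x => by
  obtain ⟨U, hU, hxU, -⟩ := exists_isAffineOpen_mem_and_subset (x := B.p x) (U := ⊤) trivial
  obtain ⟨g, hg, hxg⟩ := B.exists_mem_D hU hxU
  obtain ⟨e, rfl⟩ := G.surj U hU g hg
  refine ⟨U, hU, e, ?_⟩
  rw [show ev G.canon U e = B.sec (G.mem U hU e) from G.canon_app hU e, B.gloc_sec]
  exact hxg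

theorem isIso_of_bijective_appLE {X Y : Scheme.{u}} (r : X ⟶ Y)
    (h : ∀ y : Y, ∃ (D : Y.Opens) (D' : X.Opens) (e : D' = r ⁻¹ᵁ D), y ∈ D ∧ IsAffineOpen D ∧ IsAffineOpen D' ∧
      Function.Bijective (r.appLE D D' e.le)) : IsIso r := by
  choose D D' e hy hD hD' hb using h
  refine HasAffineProperty.of_iSup_eq_top (P := MorphismProperty.isomorphisms Scheme.{u})
    (fun y : Y => ⟨D y, hD y⟩) (top_le_iff.1 fun y _ => Opens.mem_iSup.2 ⟨y, hy y⟩) fun y => ⟨?_, ?_⟩
  · exact (e y ▸ hD' y : IsAffineOpen (r ⁻¹ᵁ D y))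
  · have h2 : IsIso (r.app (D y)) := by
      refine (ConcreteCategory.isIso_iff_bijective _).2 ?_
      have key : ∀ (W : X.Opens) (h : W ≤ r ⁻¹ᵁ D y), W = D' y → Function.Bijective (r.appLE (D y) W h) := by
        rintro W h rfl
        exact hb y
      rw [Scheme.Hom.app_eq_appLE]
      exact key _ le_rfl (e y).symm
    change IsIso (r ∣_ D y).appTop
    rw [Scheme.Hom.appTop, Scheme.Hom.app_eq_appLE, morphismRestrict_appLE]
    rw [Scheme.Hom.app_eq_appLE] at h2
    have key : ∀ (U : Y.Opens) (V : X.Opens) (h : V ≤ r ⁻¹ᵁ U), U = D y → V = r ⁻¹ᵁ D y →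
        IsIso (r.appLE U V h) := by
      rintro U V h rfl rfl
      exact h2
    exact key _ _ _ (by simp) (by simp)

/-- `P(E ⊗ L) ≅ P(E)`, the twisting sheaf pulling back to `O(1) ⊗ p^*L`. -/
theorem exists_iso_tensor {B BQ : Tw S} {E L : S.Modules} (hE : Coh.IsQCoh E) (hL : PicF.IsInvertible L)
    (hLq : Coh.IsQCoh L) {j : E ⟶ B.alg.toModule} (hj : RelProj.IsGrSymAlg E B.alg j)
    {k : CohB1.tensorMod E L ⟶ BQ.alg.toModule} (hk : RelProj.IsGrSymAlg (CohB1.tensorMod E L) BQ.alg k) :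
    ∃ i : B.P ≅ BQ.P, i.hom ≫ BQ.p = B.p ∧ Nonempty ((Scheme.Modules.pullback i.hom).obj BQ.O1 ≅
      CohB1.tensorMod B.O1 ((Scheme.Modules.pullback B.p).obj L)) := by
  have : E.IsQuasicoherent := hE
  have : L.IsQuasicoherent := hLq
  have hEL : Coh.IsQCoh (CohB1.tensorMod E L) := TensorQCoh.isQCoh_tensorMod E L
  let G := Tw.Gens.ofSym B hE hj
  let GQ := Tw.Gens.ofSym BQ hEL hk
  have hpL : PicF.IsInvertible ((pb B.p).obj L) := PicLoc.isInvertible_pullback B.p hL
  let v : GQ.E ⟶ (Scheme.Modules.pushforward B.p).obj (CohB1.tensorMod B.O1 ((pb B.p).obj L)) :=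
    tensorData G.canon ((pbAdj B.p).unit.app L)
  have hloc : ∀ (U : S.Opens) (hU : IsAffineOpen U) (e : Γ(E, U)) (l : Γ(L, U)), IsGen L U l →
      gloc (ev v U (SecTwist.tmul E L U e l)) = B.D hU (G.g U e) := fun U hU e l hl => by
    refine (gloc_tensorData B.isInvertible hpL G.canon _ U e l).trans ?_
    rw [show ev G.canon U e = B.sec (G.mem U hU e) from G.canon_app hU e, B.gloc_sec,
      show ev ((pbAdj B.p).unit.app L) U l = unitSec B.p L l from rfl, gloc_unitSec B.p hL, gloc_eq_self hl]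
    exact inf_eq_left.2 (B.D_le hU _)
  have hgenL : ∀ (y : S), ∃ (U : S.Opens) (l : Γ(L, U)), IsAffineOpen U ∧ y ∈ U ∧ IsGen L U l := fun y => by
    obtain ⟨U₀, l, hy, hl⟩ := isInvertible_iff.1 hL y
    obtain ⟨U, hU, hyU, hle⟩ := exists_isAffineOpen_mem_and_subset (x := y) (U := U₀) hy
    exact ⟨U, rs L hle l, hU, hyU, hl.res hle⟩
  have hbij : ∀ (U : S.Opens), IsAffineOpen U → ∀ l : Γ(L, U), IsGen L U l → ∀ w : Γ(GQ.E, U),
      ∃ e : Γ(E, U), SecTwist.tmul E L U e l = w := fun U hU l hl w => by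
    obtain ⟨z, hz⟩ := (Modules.TensorAffine.bijective_gamma (M := E) (N := L) hU).2 w
    have : ∀ z : Γ(E, U) ⊗[Γ(S, U)] Γ(L, U), ∃ e, z = e ⊗ₜ l := fun z => by
      induction z using TensorProduct.induction_on with
      | zero => exact ⟨0, (TensorProduct.zero_tmul _ _).symm⟩
      | tmul e m =>
        obtain ⟨a, rfl⟩ := exists_coord hl m
        exact ⟨a • e, (TensorProduct.smul_tmul _ _ _).symm⟩
      | add z z' hz hz' =>
        obtain ⟨e, rfl⟩ := hz
        obtain ⟨e', rfl⟩ := hz'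
        exact ⟨e + e', (TensorProduct.add_tmul _ _ _).symm⟩
    obtain ⟨e, rfl⟩ := this z
    exact ⟨e, hz⟩
  have hv : Generates v := fun x => by
    obtain ⟨U₀, l₀, hU₀, hxU₀, hl₀⟩ := hgenL (B.p x)
    obtain ⟨g, hg, hxg⟩ := B.exists_mem_D hU₀ (x := x) hxU₀
    obtain ⟨e, rfl⟩ := G.surj U₀ hU₀ g hg
    exact ⟨U₀, hU₀, SecTwist.tmul E L U₀ e l₀, (hloc U₀ hU₀ e l₀ hl₀).ge hxg⟩
  obtain ⟨r, hr⟩ := exists_isMapFor (B := BQ) (hE := hEL) hk v hv
  obtain ⟨τ, hτ⟩ := exists_tau (G := GQ) hv hr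
  have heq : ∀ (U : S.Opens) (hU : IsAffineOpen U) (w : Γ(GQ.E, U)),
      gloc (ev v U w) = r ⁻¹ᵁ BQ.D hU (GQ.g U w) := fun U hU w =>
    (congrArg gloc ((hτ U hU w).trans (ev_vOf GQ r hr.hq τ hU w).symm)).trans (gloc_vOf _ r hr.hq τ hU w)
  have hiso : IsIso r := by
    refine isIso_of_bijective_appLE r fun y => ?_
    obtain ⟨U, l, hU, hyU, hl⟩ := hgenL (BQ.p y)
    obtain ⟨g, hg, hyg⟩ := BQ.exists_mem_D hU (x := y) hyU
    obtain ⟨w, rfl⟩ := GQ.surj U hU g hg
    obtain ⟨e, rfl⟩ := hbij U hU l hl w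
    set w₀ : Γ(GQ.E, U) := SecTwist.tmul E L U e l with hw₀
    set DQ := BQ.D hU (GQ.g U w₀) with hDQ
    set DP := B.D hU (G.g U e) with hDP
    have hpre : DP = r ⁻¹ᵁ DQ := (hloc U hU e l hl).symm.trans (heq U hU w₀)
    refine ⟨DQ, DP, hpre, hyg, BQ.isAffineOpen_D hU (GQ.mem U hU w₀), B.isAffineOpen_D hU (G.mem U hU e), ?_⟩
    let φ := r.appLE DQ DP hpre.le
    have hφ : ∀ e' : Γ(E, U), φ (GQ.fr hU w₀ (SecTwist.tmul E L U e' l)) = G.fr hU e e' := fun e' => by
      have hle : DP ≤ gloc (ev v U w₀) := (hloc U hU e l hl).ge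
      have h1 : φ (GQ.fr hU w₀ (SecTwist.tmul E L U e' l)) =
          rf hle (r.appLE DQ _ (hr.le U hU w₀) (GQ.fr hU w₀ (SecTwist.tmul E L U e' l))) := by
        change _ = (r.appLE DQ _ (hr.le U hU w₀) ≫ B.P.presheaf.map (homOfLE hle).op) _
        rw [Scheme.Hom.appLE_map]
      rw [h1, hr.frac]
      refine ratio_unique_on hle ?_
      have h2 : ∀ e₂ : Γ(E, U), rs (CohB1.tensorMod B.O1 ((pb B.p).obj L)) (hle.trans (gloc_le _))
          (ev v U (SecTwist.tmul E L U e₂ l)) = SecTwist.tmul B.O1 ((pb B.p).obj L) DP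
            (rs B.O1 (B.D_le hU _) (B.sec (G.mem U hU e₂)))
            (rs ((pb B.p).obj L) (B.D_le hU _) (ev ((pbAdj B.p).unit.app L) U l)) := fun e₂ => by
        refine (congrArg (rs _ _) (ev_tensorData G.canon _ U e₂ l)).trans ?_
        rw [rs_tmul, show ev G.canon U e₂ = B.sec (G.mem U hU e₂) from G.canon_app hU e₂]
      refine (h2 e').trans ?_
      rw [B.sec_eq_frac_smul (G.mem U hU e) (G.mem U hU e')]
      refine Eq.trans ?_ (congrArg (fun z => G.fr hU e e' • z) (h2 e)).symm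
      have h3 := tmul_smul (M := B.O1) (N := (pb B.p).obj L) (U := DP) (G.fr hU e e') 1
        (rs B.O1 (B.D_le hU _) (B.sec (G.mem U hU e)))
        (rs ((pb B.p).obj L) (B.D_le hU _) (ev ((pbAdj B.p).unit.app L) U l))
      rw [one_smul, mul_one] at h3
      exact h3
    have hD' : DQ ≤ gloc (ev GQ.canon U w₀) := by
      rw [show ev GQ.canon U w₀ = BQ.sec (GQ.mem U hU w₀) from GQ.canon_app hU w₀, BQ.gloc_sec]
    let a : Γ(E, U) → Γ(BQ.P, DQ) := fun e' =>
      rf hD' (ratio (ev GQ.canon U w₀) (ev GQ.canon U (SecTwist.tmul E L U e' l)))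
    have ha : ∀ e', a e' = GQ.fr hU w₀ (SecTwist.tmul E L U e' l) := fun e' => by
      have key : ∀ (m n : Γ(BQ.O1, BQ.p ⁻¹ᵁ U)) (h : DQ ≤ gloc m), m = BQ.sec (GQ.mem U hU w₀) →
          n = BQ.sec (GQ.mem U hU (SecTwist.tmul E L U e' l)) →
          rf h (ratio m n) = GQ.fr hU w₀ (SecTwist.tmul E L U e' l) := by
        rintro m n h rfl rfl
        exact ratio_unique_on h (BQ.sec_eq_frac_smul _ _)
      exact key _ _ hD' (GQ.canon_app hU w₀) (GQ.canon_app hU _)
    obtain ⟨ψ, hψ⟩ := exists_hom_of_lin (hE := hE) hj hU e (BQ.p.appLE U DQ (BQ.D_le hU _)).hom a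
      (fun x y => by
        have hxy : SecTwist.tmul E L U (x + y) l =
            (SecTwist.tmul E L U x l + SecTwist.tmul E L U y l : Γ(GQ.E, U)) :=
          Modules.TensorSec.tens_add_left x y l
        simp only [a]
        rw [hxy, show ev GQ.canon U (SecTwist.tmul E L U x l + SecTwist.tmul E L U y l) =
          ev GQ.canon U (SecTwist.tmul E L U x l) + ev GQ.canon U (SecTwist.tmul E L U y l) from
          map_add (GQ.canon.app U).hom _ _, ratio_add]
        exact map_add (BQ.P.presheaf.map (homOfLE hD').op).hom _ _)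
      (fun c x => by
        have hxy : SecTwist.tmul E L U (c • x) l = (c • SecTwist.tmul E L U x l : Γ(GQ.E, U)) :=
          Modules.TensorSec.tens_smul_left c x l
        simp only [a]
        rw [hxy, show ev GQ.canon U (c • SecTwist.tmul E L U x l) =
          BQ.p.app U c • ev GQ.canon U (SecTwist.tmul E L U x l) from ev_smul GQ.canon U c _, ratio_smul, ← rf_app BQ.p (BQ.D_le hU (GQ.g U w₀)), ← rf_rf (gloc_le _) hD']
        exact map_mul (BQ.P.presheaf.map (homOfLE hD').op).hom _ _)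
      (by simp only [a]; rw [ratio_self]; exact map_one (BQ.P.presheaf.map (homOfLE hD').op).hom)
    have hψ' : ∀ e', ψ (G.fr hU e e') = GQ.fr hU w₀ (SecTwist.tmul E L U e' l) := fun e' =>
      (hψ e').trans (ha e')
    have hid : ∀ z : Γ(BQ.P, DQ), ψ (φ z) = z := fun z => by
      have hz : z ∈ Subring.closure (Set.range (GQ.fr hU w₀)) := (GQ.closure_fr hU w₀).symm ▸ trivial
      refine RingHom.eqOn_set_closure (f := ψ.comp φ.hom) (g := RingHom.id _) ?_ hz
      rintro _ ⟨w, rfl⟩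
      obtain ⟨e', rfl⟩ := hbij U hU l hl w
      exact (congrArg ψ (hφ e')).trans (hψ' e')
    refine ⟨Function.LeftInverse.injective hid, fun z => ?_⟩
    have hz : z ∈ Subring.closure (Set.range (G.fr hU e)) := (G.closure_fr hU e).symm ▸ trivial
    refine RingHom.mem_range.1 ((Subring.closure_le (t := φ.hom.range)).2 ?_ hz)
    rintro _ ⟨e', rfl⟩
    exact ⟨_, hφ e'⟩
  exact ⟨asIso r, hr.hq, ⟨τ⟩⟩

end Groth.Agent.Lib.SymAlg.PE
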