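import Groth.Agent.Lib.SymAlg.PE.ProjIff
import Groth.Agent.Lib.SymAlg.PE.TensorInv
import Groth.Agent.H81.ProjClosed.Main

/-!
# `O(1)` on the Proj of a graded quotient
-/

noncomputable section

set_option autoImplicit false
universe u

open CategoryTheory CategoryTheory.Limits AlgebraicGeometry Opposite TopologicalSpace DirectSum HomogeneousLocalization
open scoped HomogeneousIdeal

namespace Groth.Agent.Lib.SymAlg.PE

open Groth.Agent.Lib Groth.Agent.H58VA TensorMod TensorMod.Dual TensorMod.Gen TensorMod.HomGlue TensorMod.Pullback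
open Groth.Agent.Lib.QCAlgSub.Basic (jm)

variable {S : Scheme.{u}}

theorem appLE_congr_hom {X Y : Scheme.{u}} {f g : X ⟶ Y} (h : f = g) (U : Y.Opens) (V : X.Opens)
    (hf : V ≤ f ⁻¹ᵁ U) (hg : V ≤ g ⁻¹ᵁ U) : f.appLE U V hf = g.appLE U V hg := by
  subst h
  rfl

theorem Tw.awayι_le (B : Tw S) {U : S.Opens} (hU : IsAffineOpen U) {g : B.R U} (hg : g ∈ B.alg.deg U hU 1) :
    (⊤ : (Spec (CommRingCat.of (HomogeneousLocalization.Away (B.alg.deg U hU) g))).Opens) ≤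
      (Proj.awayι (B.alg.deg U hU) g hg one_pos ≫ B.e hU) ⁻¹ᵁ B.D hU g := by
  rw [Scheme.Hom.comp_preimage, B.preimage_D hU g,
    ← Proj.opensRange_awayι (B.alg.deg U hU) g hg one_pos, Scheme.Hom.preimage_opensRange]

theorem Tw.bijective_awayι (B : Tw S) {U : S.Opens} (hU : IsAffineOpen U) {g : B.R U} (hg : g ∈ B.alg.deg U hU 1)
    (h : (⊤ : (Spec (CommRingCat.of (HomogeneousLocalization.Away (B.alg.deg U hU) g))).Opens) ≤
      (Proj.awayι (B.alg.deg U hU) g hg one_pos ≫ B.e hU) ⁻¹ᵁ B.D hU g) :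
    Function.Bijective ((Proj.awayι (B.alg.deg U hU) g hg one_pos ≫ B.e hU).appLE (B.D hU g) ⊤ h) ∧
      ∀ b (hb : b ∈ B.alg.deg U hU 1),
        (Proj.awayι (B.alg.deg U hU) g hg one_pos ≫ B.e hU).appLE (B.D hU g) ⊤ h (B.frac hg hb) =
          (Scheme.ΓSpecIso _).inv (Away.frac (B.alg.deg U hU) hg hb) := by
  let a := Proj.awayι (B.alg.deg U hU) g hg one_pos
  have hab : (⊤ : (Spec (CommRingCat.of (HomogeneousLocalization.Away (B.alg.deg U hU) g))).Opens) ≤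
      a ⁻¹ᵁ Proj.basicOpen (B.alg.deg U hU) g := by
    rw [← Proj.opensRange_awayι (B.alg.deg U hU) g hg one_pos, Scheme.Hom.preimage_opensRange]
  have hsec : Proj.awayToSection (B.alg.deg U hU) g ≫ a.appLE _ ⊤ hab ≫ (Scheme.ΓSpecIso _).hom = 𝟙 _ := by
    let iso := Proj.basicOpenIsoSpec (B.alg.deg U hU) g hg one_pos
    have h1 : iso.hom.appTop = (Scheme.ΓSpecIso _).hom ≫ Proj.awayToSection (B.alg.deg U hU) g ≫
        (Proj.basicOpen (B.alg.deg U hU) g).topIso.inv := Proj.basicOpenToSpec_app_top (B.alg.deg U hU) g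
    have h2 : a.appLE _ ⊤ hab = (Proj.basicOpen (B.alg.deg U hU) g).topIso.inv ≫ iso.inv.appTop := by
      have e' : (⊤ : ((Proj.basicOpen (B.alg.deg U hU) g : (Proj (B.alg.deg U hU)).Opens) : Scheme.{u}).Opens) ≤
          (Proj.basicOpen (B.alg.deg U hU) g).ι ⁻¹ᵁ Proj.basicOpen (B.alg.deg U hU) g := by
        rw [Scheme.Opens.ι_preimage_self]
      change (iso.inv ≫ (Proj.basicOpen (B.alg.deg U hU) g).ι).appLE _ ⊤ _ = _
      rw [← Scheme.Hom.appLE_comp_appLE iso.inv (Proj.basicOpen (B.alg.deg U hU) g).ι _ ⊤ ⊤ e' le_top,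
        appLE_top_top]
      congr 1
    rw [← Iso.inv_comp_eq] at h1
    rw [h2]
    simp only [Category.assoc]
    rw [← reassoc_of% h1, ← Scheme.Hom.comp_appTop_assoc, iso.inv_hom_id]
    simp
  haveI := B.isIso_toBasic hU g
  haveI : IsIso (Proj.awayToSection (B.alg.deg U hU) g) :=
    (ConcreteCategory.isIso_iff_bijective _).2 (B.awayToSection_bijective hg)
  haveI : IsIso (a.appLE _ ⊤ hab ≫ (Scheme.ΓSpecIso _).hom) := IsIso.of_isIso_fac_left hsec
  haveI : IsIso (a.appLE _ ⊤ hab) := IsIso.of_isIso_comp_right _ (Scheme.ΓSpecIso _).hom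
  have e1 : (a ≫ B.e hU).appLE (B.D hU g) ⊤ h = B.toBasic hU g ≫ a.appLE _ ⊤ hab :=
    (Scheme.Hom.appLE_comp_appLE a (B.e hU) (B.D hU g) (Proj.basicOpen (B.alg.deg U hU) g) ⊤ (B.preimage_D hU g).ge hab).symm
  refine ⟨?_, fun b hb => ?_⟩
  · haveI : IsIso ((a ≫ B.e hU).appLE (B.D hU g) ⊤ h) := by rw [e1]; infer_instance
    exact ConcreteCategory.bijective_of_isIso ((a ≫ B.e hU).appLE (B.D hU g) ⊤ h)
  · rw [e1, CommRingCat.comp_apply, B.toBasic_frac]
    have h2 := DFunLike.congr_fun (congrArg CommRingCat.Hom.hom hsec) (Away.frac (B.alg.deg U hU) hg hb)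
    have h3 := congrArg (Scheme.ΓSpecIso (CommRingCat.of (HomogeneousLocalization.Away (B.alg.deg U hU) g))).inv h2
    refine Eq.trans ?_ h3
    exact ((Scheme.ΓSpecIso (CommRingCat.of (HomogeneousLocalization.Away (B.alg.deg U hU) g))).hom_inv_id_apply _).symm

/-- The chart equation gives the effect on fractions. -/
theorem appLE_frac_of_chart {B BB : Tw S} {U : S.Opens} {hU : IsAffineOpen U}
    (ψ : (B.alg.deg U hU) →+*ᵍ (BB.alg.deg U hU)) {g b : B.R U} (hg : g ∈ B.alg.deg U hU 1) (hb : b ∈ B.alg.deg U hU 1)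
    (h : BB.P ⟶ B.P)
    (heq : (Proj.awayι (BB.alg.deg U hU) (ψ g) (ψ.map_mem hg) one_pos ≫ BB.e hU) ≫ h =
      Spec.map (CommRingCat.ofHom (HomogeneousLocalization.Away.map ψ g)) ≫ Proj.awayι (B.alg.deg U hU) g hg one_pos ≫ B.e hU)
    (hle : BB.D hU (ψ g) ≤ h ⁻¹ᵁ B.D hU g) :
    h.appLE (B.D hU g) (BB.D hU (ψ g)) hle (B.frac hg hb) = BB.frac (ψ.map_mem hg) (ψ.map_mem hb) := by
  obtain ⟨-, hv⟩ := B.bijective_awayι hU hg (B.awayι_le hU hg)
  obtain ⟨hi, hvB⟩ := BB.bijective_awayι hU (ψ.map_mem hg) (BB.awayι_le hU (ψ.map_mem hg))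
  refine hi.1 ?_
  rw [hvB]
  set m := CommRingCat.ofHom (HomogeneousLocalization.Away.map ψ g) with hm
  have e2 : (⊤ : (Spec (CommRingCat.of (HomogeneousLocalization.Away (BB.alg.deg U hU) (ψ g)))).Opens) ≤
      ((Proj.awayι (BB.alg.deg U hU) (ψ g) (ψ.map_mem hg) one_pos ≫ BB.e hU) ≫ h) ⁻¹ᵁ B.D hU g := by
    rw [Scheme.Hom.comp_preimage]
    exact (BB.awayι_le hU (ψ.map_mem hg)).trans (Scheme.Hom.preimage_mono _ hle)
  have e3 : (⊤ : (Spec (CommRingCat.of (HomogeneousLocalization.Away (BB.alg.deg U hU) (ψ g)))).Opens) ≤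
      (Spec.map m ≫ Proj.awayι (B.alg.deg U hU) g hg one_pos ≫ B.e hU) ⁻¹ᵁ B.D hU g := by
    rw [← heq]; exact e2
  have h1 := appLE_congr_hom heq (B.D hU g) ⊤ e2 e3
  have e4 : (⊤ : (Spec (CommRingCat.of (HomogeneousLocalization.Away (BB.alg.deg U hU) (ψ g)))).Opens) ≤
      Spec.map m ⁻¹ᵁ ⊤ := le_top.trans (Scheme.Hom.preimage_top _).ge
  have h1' := ((Scheme.Hom.appLE_comp_appLE (Proj.awayι (BB.alg.deg U hU) (ψ g) (ψ.map_mem hg) one_pos ≫ BB.e hU) h
      (B.D hU g) (BB.D hU (ψ g)) ⊤ hle (BB.awayι_le hU (ψ.map_mem hg))).trans h1).trans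
    (Scheme.Hom.appLE_comp_appLE (Spec.map m) (Proj.awayι (B.alg.deg U hU) g hg one_pos ≫ B.e hU) (B.D hU g) ⊤ ⊤
      (B.awayι_le hU hg) e4).symm
  rw [appLE_top_top, hm] at h1'
  clear h1
  rename' h1' => h1
  have h2 := DFunLike.congr_fun (congrArg CommRingCat.Hom.hom h1) (B.frac hg hb)
  refine h2.trans ?_
  change (Spec.map (CommRingCat.ofHom (HomogeneousLocalization.Away.map ψ g))).appTop
    ((Proj.awayι (B.alg.deg U hU) g hg one_pos ≫ B.e hU).appLE _ ⊤ (B.awayι_le hU hg) (B.frac hg hb)) = _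
  rw [hv, ← CommRingCat.comp_apply, ← Scheme.ΓSpecIso_inv_naturality, CommRingCat.comp_apply]
  refine congrArg _ ?_
  rw [Away.frac]
  exact HomogeneousLocalization.Away.map_mk ψ _ _ _ _ _

/-- On the Proj of a graded quotient the `O(1)` pulls back to the `O(1)`. -/
theorem nonempty_pullback_O1_iso {B BB : Tw S} {E : S.Modules} (hE : Coh.IsQCoh E) {j : E ⟶ B.alg.toModule}
    (hj : RelProj.IsGrSymAlg E B.alg j) (φ : B.alg.toQCAlg ⟶ BB.alg.toQCAlg) (hφ : RelProj.IsGradedHom φ)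
    (hs : ∀ U : S.Opens, IsAffineOpen U → Function.Surjective (φ.hom.app (op U)).hom)
    (h : BB.P ⟶ B.P) (hh : RelProj.IsProjQMap (RelProj.QGrHom.ofHom φ hφ) B.p B.chart BB.p BB.chart h) :
    h ≫ B.p = BB.p ∧ Nonempty ((Scheme.Modules.pullback h).obj B.O1 ≅ BB.O1) := by
  let G := Tw.Gens.ofSym B hE hj
  let GB : BB.Gens :=
    { E := E
      qcoh := hE
      j := j ≫ RelSpec.QCAlg.Hom.toModuleMap φ
      mem := fun U hU e => (RelProj.gradedHomAt φ hφ U hU).map_mem (G.mem U hU e)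
      surj := fun U hU b hb => by
        obtain ⟨a, ha, hab⟩ := H81.ProjClosed.gradedHomAt_surjective _ φ hφ hs U hU hb
        obtain ⟨e, rfl⟩ := G.surj U hU a ha
        exact ⟨e, hab⟩ }
  haveI := ProjQ.isIso_ι (u := RelProj.QGrHom.ofHom φ hφ) hh.1
  have hov : h ≫ B.p = BB.p := by
    have h1 := ProjQ.over B.hP BB.hP (ProjQ.ι_comp_isProjQMap hh)
    rw [Category.assoc, cancel_epi] at h1
    exact h1.trans (Category.comp_id _)
  let v : G.E ⟶ (Scheme.Modules.pushforward BB.p).obj BB.O1 := GB.canon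
  have hgl : ∀ (U : S.Opens) (hU : IsAffineOpen U) (e : Γ(E, U)),
      gloc (ev v U e) = BB.D hU (RelProj.gradedHomAt φ hφ U hU (G.g U e)) := fun U hU e => by
    rw [show ev v U e = BB.sec (GB.mem U hU e) from GB.canon_app hU e, BB.gloc_sec]
    rfl
  have heq : ∀ (U : S.Opens) (hU : IsAffineOpen U) (e : Γ(E, U)),
      (Proj.awayι (BB.alg.deg U hU) (RelProj.gradedHomAt φ hφ U hU (G.g U e))
          ((RelProj.gradedHomAt φ hφ U hU).map_mem (G.mem U hU e)) one_pos ≫ BB.e hU) ≫ h =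
        Spec.map (CommRingCat.ofHom (HomogeneousLocalization.Away.map (RelProj.gradedHomAt φ hφ U hU) (G.g U e))) ≫
          Proj.awayι (B.alg.deg U hU) (G.g U e) (G.mem U hU e) one_pos ≫ B.e hU := fun U hU e => by
    have key : ∀ (ψ ψ' : (B.alg.deg U hU) →+*ᵍ (BB.alg.deg U hU)), ψ = ψ' →
        (Proj.awayι (BB.alg.deg U hU) (ψ (G.g U e)) (ψ.map_mem (G.mem U hU e)) one_pos ≫ BB.e hU) ≫ h =
          Spec.map (CommRingCat.ofHom (HomogeneousLocalization.Away.map ψ (G.g U e))) ≫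
            Proj.awayι (B.alg.deg U hU) (G.g U e) (G.mem U hU e) one_pos ≫ B.e hU →
        (Proj.awayι (BB.alg.deg U hU) (ψ' (G.g U e)) (ψ'.map_mem (G.mem U hU e)) one_pos ≫ BB.e hU) ≫ h =
          Spec.map (CommRingCat.ofHom (HomogeneousLocalization.Away.map ψ' (G.g U e))) ≫
            Proj.awayι (B.alg.deg U hU) (G.g U e) (G.mem U hU e) one_pos ≫ B.e hU := by
      rintro ψ ψ' rfl h'
      exact h'
    exact key _ _ (ProjQ.gradedAt_ofHom φ hφ U hU) (hh.2 U hU U hU le_rfl 1 one_pos _ (G.mem U hU e))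
  have hle : ∀ (U : S.Opens) (hU : IsAffineOpen U) (e : Γ(E, U)),
      BB.D hU (RelProj.gradedHomAt φ hφ U hU (G.g U e)) ≤ h ⁻¹ᵁ B.D hU (G.g U e) := fun U hU e => by
    rintro _ ⟨y, hy, rfl⟩
    obtain ⟨z, rfl⟩ := (Proj.opensRange_awayι (BB.alg.deg U hU) _
      ((RelProj.gradedHomAt φ hφ U hU).map_mem (G.mem U hU e)) one_pos).ge hy
    change h ((Proj.awayι _ _ _ one_pos ≫ BB.e hU) z) ∈ B.D hU (G.g U e)
    refine (congrArg (· ∈ B.D hU (G.g U e)) (congr($(heq U hU e) z))).mpr ?_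
    exact B.awayι_le hU (G.mem U hU e) (trivial : _ ∈ (⊤ : (Spec _).Opens))
  have hm : IsMapFor G v h := by
    refine ⟨hov, fun U hU e => (hgl U hU e).le.trans (hle U hU e), fun U hU e e' => ?_⟩
    have hT : gloc (ev v U e) ≤ BB.D hU (RelProj.gradedHomAt φ hφ U hU (G.g U e)) := (hgl U hU e).le
    refine Eq.trans ?_ (rf_self le_rfl (ratio (ev v U e) (ev v U e')))
    refine Eq.trans ?_ (Eq.symm (ratio_unique_on (m := ev v U e) (n := ev v U e') (V := gloc (ev v U e)) le_rfl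
      (c := rf hT (BB.frac (GB.mem U hU e) (GB.mem U hU e'))) ?_))
    · have h1 := appLE_frac_of_chart (RelProj.gradedHomAt φ hφ U hU) (G.mem U hU e) (G.mem U hU e') h
        (heq U hU e) (hle U hU e)
      refine Eq.trans ?_ (congrArg (rf hT) h1)
      change _ = (h.appLE _ _ (hle U hU e) ≫ BB.P.presheaf.map (homOfLE hT).op) _
      rw [Scheme.Hom.appLE_map]
    · have key : ∀ (m n : Γ(BB.O1, BB.p ⁻¹ᵁ U)) (hT' : gloc m ≤ BB.D hU (GB.g U e)), m = BB.sec (GB.mem U hU e) →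
          n = BB.sec (GB.mem U hU e') →
          rs BB.O1 (gloc_le m) n = rf hT' (BB.frac (GB.mem U hU e) (GB.mem U hU e')) • rs BB.O1 (gloc_le m) m := by
        rintro m n hT' rfl rfl
        have h2 := congrArg (rs BB.O1 hT') (BB.sec_eq_frac_smul (GB.mem U hU e) (GB.mem U hU e'))
        rw [rs_smul, rs_rs, rs_rs] at h2
        exact h2
      exact key _ _ hT (GB.canon_app hU e) (GB.canon_app hU e')
  obtain ⟨τ, -⟩ := exists_tau (G := G) (v := v) (generates_canon GB) hm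
  exact ⟨hov, ⟨τ⟩⟩

theorem isGenDegOne_quot {𝒜 ℬ : RelProj.QCGrAlg S} (φ : 𝒜.toQCAlg ⟶ ℬ.toQCAlg) (hφ : RelProj.IsGradedHom φ)
    (hs : ∀ U : S.Opens, IsAffineOpen U → Function.Surjective (φ.hom.app (op U)).hom) (h : 𝒜.IsGenDegOne) :
    ℬ.IsGenDegOne := fun U hU => by
  have h1 := congrArg (Subring.map (φ.hom.app (op U)).hom) (h U hU)
  rw [RingHom.map_closure, ← RingHom.range_eq_map, RingHom.range_eq_top.2 (hs U hU)] at h1
  refine eq_top_iff.2 (h1.ge.trans (Subring.closure_mono ?_))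
  rintro _ ⟨a, ha, rfl⟩
  exact ha.imp (fun ha => (RelProj.gradedHomAt φ hφ U hU).map_mem ha)
    (fun ha => (RelProj.gradedHomAt φ hφ U hU).map_mem ha)

theorem isFTDeg_quot {𝒜 ℬ : RelProj.QCGrAlg S} (φ : 𝒜.toQCAlg ⟶ ℬ.toQCAlg) (hφ : RelProj.IsGradedHom φ)
    (hs : ∀ U : S.Opens, IsAffineOpen U → Function.Surjective (φ.hom.app (op U)).hom) {d : ℕ} (h : 𝒜.IsFTDeg d) :
    ℬ.IsFTDeg d := fun U hU => by
  classical
  obtain ⟨T, hT, hgen⟩ := h U hU
  let f : 𝒜.presheaf.obj (op U) → ℬ.presheaf.obj (op U) := RelProj.gradedHomAt φ hφ U hU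
  refine ⟨T.image f, fun t ht => ?_, fun x hx => ?_⟩
  · obtain ⟨t', ht', rfl⟩ := Finset.mem_image.1 (Finset.mem_coe.1 ht)
    exact (RelProj.gradedHomAt φ hφ U hU).map_mem (hT ht')
  obtain ⟨a, ha, rfl⟩ := H81.ProjClosed.gradedHomAt_surjective _ φ hφ hs U hU hx
  obtain ⟨c, hc⟩ := hgen a ha
  refine ⟨fun t => ∑ t' ∈ T.filter (fun t' => f t' = t), c t', ?_⟩
  have hstr : ∀ r, f ((𝒜.str.app (op U)).hom r) = (ℬ.str.app (op U)).hom r := fun r =>
    congrArg (fun k : S.presheaf ⟶ ℬ.presheaf => (k.app (op U)).hom r) φ.comm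
  have h1 : f a = ∑ t ∈ T, (ℬ.str.app (op U)).hom (c t) * f t := by
    rw [hc]
    refine (map_sum (RelProj.gradedHomAt φ hφ U hU) _ _).trans (Finset.sum_congr rfl fun t _ => ?_)
    exact (map_mul (RelProj.gradedHomAt φ hφ U hU) _ _).trans (congrArg (· * f t) (hstr (c t)))
  rw [show RelProj.gradedHomAt φ hφ U hU a = f a from rfl, h1, ← Finset.sum_fiberwise_of_maps_to (t := T.image f) (g := f) (fun k hk => Finset.mem_image_of_mem _ hk)]
  refine Finset.sum_congr rfl fun t _ => ?_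
  rw [map_sum, Finset.sum_mul]
  exact Finset.sum_congr rfl fun k hk => by rw [(Finset.mem_filter.1 hk).2]

end Groth.Agent.Lib.SymAlg.PE
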