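import Groth.Agent.Lib.SymAlg.PE.Main

/-!
# The criterion along open immersions
-/

noncomputable section

set_option autoImplicit false
universe u

open CategoryTheory CategoryTheory.Limits AlgebraicGeometry Opposite TopologicalSpace

namespace Groth.Agent.Lib.SymAlg.PE

open Groth.Agent.Lib TensorMod TensorMod.Dual TensorMod.Gen TensorMod.HomGlue

variable {X X' : Scheme.{u}} (f : X' ⟶ X) [IsOpenImmersion f] {L : X.Modules}

/-- A section of the restriction as a section of the module. -/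
abbrev up {W : X'.Opens} (m : Γ(L.restrict f, W)) : Γ(L, f ''ᵁ W) := (L.restrictAppIso f W).hom m

theorem up_rs {W W' : X'.Opens} (h : W' ≤ W) (m : Γ(L.restrict f, W)) :
    up f (rs (L.restrict f) h m) = rs L (f.image_mono h) (up f m) := rfl

theorem up_smul {W : X'.Opens} (a : Γ(X', W)) (m : Γ(L.restrict f, W)) :
    up f (a • m) = (f.appIso W).inv a • up f m := rfl

theorem isGen_up_iff {V : X'.Opens} (m : Γ(L.restrict f, V)) :
    IsGen L (f ''ᵁ V) (up f m) ↔ IsGen (L.restrict f) V m := by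
  have key : ∀ (W : X'.Opens) (hW : W ≤ V),
      Function.Bijective (fun a : Γ(X', W) => a • rs (L.restrict f) hW m) ↔
        Function.Bijective (fun a : Γ(X, f ''ᵁ W) => a • rs L (f.image_mono hW) (up f m)) := fun W hW => by
    have h : (fun a : Γ(X, f ''ᵁ W) => a • rs L (f.image_mono hW) (up f m)) ∘ (f.appIso W).inv =
        (L.restrictAppIso f W).hom ∘ fun a : Γ(X', W) => a • rs (L.restrict f) hW m := rfl
    rw [← Function.Bijective.of_comp_iff' (ConcreteCategory.bijective_of_isIso (L.restrictAppIso f W).hom),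
      ← Function.Bijective.of_comp_iff _ (ConcreteCategory.bijective_of_isIso (f.appIso W).inv), h]
  constructor
  · intro h W hW
    exact (key W hW).2 (h _ (f.image_mono hW))
  · intro h V' hV'
    obtain ⟨W, rfl⟩ : ∃ W : X'.Opens, f ''ᵁ W = V' := ⟨f ⁻¹ᵁ V', by
      rw [Scheme.Hom.image_preimage_eq_opensRange_inf]
      exact inf_eq_right.2 (hV'.trans (f.image_le_opensRange _))⟩
    have hW : W ≤ V := by
      have := f.preimage_mono hV'
      rwa [f.preimage_image_eq, f.preimage_image_eq] at this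
    exact (key W hW).1 (h W hW)

theorem gloc_up {W : X'.Opens} (m : Γ(L.restrict f, W)) : gloc (up f m) = f ''ᵁ gloc m := by
  refine le_antisymm ?_ (le_gloc (f.image_mono (gloc_le m)) ?_)
  · obtain ⟨V, hV⟩ : ∃ V : X'.Opens, f ''ᵁ V = gloc (up f m) := ⟨f ⁻¹ᵁ gloc (up f m), by
      rw [Scheme.Hom.image_preimage_eq_opensRange_inf]
      exact inf_eq_right.2 ((gloc_le _).trans (f.image_le_opensRange _))⟩
    have hVW : V ≤ W := by
      have := f.preimage_mono (hV.le.trans (gloc_le (up f m)))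
      rwa [f.preimage_image_eq, f.preimage_image_eq] at this
    rw [← hV]
    refine f.image_mono (le_gloc hVW ?_)
    rw [← isGen_up_iff, up_rs]
    have h := (isGen_gloc (up f m)).res hV.le
    rw [rs_rs] at h
    exact h
  · exact (isGen_up_iff f (rs _ (gloc_le m) m)).2 (isGen_gloc m)

theorem toSpec_image {T : X'.Opens} {A : CommRingCat.{u}} (φ : A ⟶ Γ(X', T)) :
    toSpec T φ = f.resLE (f ''ᵁ T) T (f.preimage_image_eq T).ge ≫ toSpec (f ''ᵁ T) (φ ≫ (f.appIso T).inv) := by
  rw [← resLE_toSpec f (f.preimage_image_eq T).ge, Category.assoc, Scheme.Hom.appIso_inv_appLE]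
  congr 1
  rw [show (homOfLE (le_refl T)).op = 𝟙 _ from rfl]
  simp

theorem immOn_image {T : X'.Opens} {K : Subring Γ(X', T)} (h : ImmOn T K) :
    ImmOn (f ''ᵁ T) (K.map (f.appIso T).inv.hom) := by
  refine immOn_of_range (CommRingCat.ofHom (R := K) K.subtype ≫ (f.appIso T).inv) ?_ ?_
  · rintro _ ⟨x, rfl⟩
    exact ⟨x, x.2, rfl⟩
  · have hiso : IsIso (f.resLE (f ''ᵁ T) T (f.preimage_image_eq T).ge) := by
      have e : f.resLE (f ''ᵁ T) T (f.preimage_image_eq T).ge = (f.isoImage T).hom := by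
        rw [← cancel_mono (f ''ᵁ T).ι, Scheme.Hom.resLE_comp_ι, Scheme.Hom.isoImage_hom_ι]
      rw [e]
      infer_instance
    have h1 : IsImmersion (toSpec T (CommRingCat.ofHom (R := K) K.subtype)) := h
    rw [toSpec_image f] at h1
    exact (MorphismProperty.cancel_left_of_respectsIso (P := @IsImmersion) _ _).1 h1

/-- Transporting the criterion along an open immersion. -/
theorem immOn_rats_of_restrict {S S' : Scheme.{u}} {q : X ⟶ S} {q' : X' ⟶ S'} {E : S.Modules} {E' : S'.Modules}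
    {v : E ⟶ (Scheme.Modules.pushforward q).obj L}
    {v' : E' ⟶ (Scheme.Modules.pushforward q').obj (L.restrict f)}
    {W : S'.Opens} {e' : Γ(E', W)} (hI : ImmOn (gloc (ev v' W e')) (rats v' W e'))
    {U : S.Opens} {e : Γ(E, U)} (hTU : gloc (ev v U e) = f ''ᵁ gloc (ev v' W e'))
    (hlift : ∀ e₁' : Γ(E', W), ∃ e₁ : Γ(E, U), ∀ (p : gloc (ev v U e) ≤ q ⁻¹ᵁ U)
      (p' : gloc (ev v U e) ≤ f ''ᵁ (q' ⁻¹ᵁ W)), rs L p (ev v U e₁) = rs L p' (up f (ev v' W e₁')))
    (he : ∀ (p : gloc (ev v U e) ≤ q ⁻¹ᵁ U) (p' : gloc (ev v U e) ≤ f ''ᵁ (q' ⁻¹ᵁ W)),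
      rs L p (ev v U e) = rs L p' (up f (ev v' W e'))) : ImmOn (gloc (ev v U e)) (rats v U e) := by
  refine ((immOn_image f hI).res hTU.le).mono ?_
  rw [rats, rats, RingHom.map_closure, RingHom.map_closure, Subring.closure_le]
  rintro _ ⟨_, ⟨_, ⟨e₁', rfl⟩, rfl⟩, rfl⟩
  obtain ⟨e₁, he₁⟩ := hlift e₁'
  refine Subring.subset_closure ⟨e₁, ?_⟩
  have p : gloc (ev v U e) ≤ q ⁻¹ᵁ U := gloc_le _
  have p' : gloc (ev v U e) ≤ f ''ᵁ (q' ⁻¹ᵁ W) := hTU.le.trans (f.image_mono (gloc_le _))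
  have h := ratio_unique_on (m := ev v U e) (n := ev v U e₁) (V := gloc (ev v U e)) le_rfl
    (c := rf hTU.le ((f.appIso (gloc (ev v' W e'))).inv (ratio (ev v' W e') (ev v' W e₁')))) ?_
  · exact (rf_self le_rfl _).symm.trans h
  refine ((he₁ p p').trans ?_).trans (congrArg (_ • ·) (he p p').symm)
  have h1 := congrArg (fun z => rs L hTU.le (up f z)) (ratio_spec (ev v' W e') (ev v' W e₁'))
  simp only [up_smul, up_rs, rs_smul, rs_rs] at h1
  exact h1

end Groth.Agent.Lib.SymAlg.PE
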