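import Groth.Agent.Lib.SymAlg.PE.Basic
import Groth.Agent.Lib.ArtinFun.HomAffine

/-!
# The canonical sections `g/1` of `O(1)` and their ratios
-/

noncomputable section

set_option autoImplicit false
universe u

open CategoryTheory CategoryTheory.Limits AlgebraicGeometry Opposite TopologicalSpace
open scoped HomogeneousIdeal

namespace Groth.Agent.Lib.SymAlg.PE

open Groth.Agent.Lib Groth.Agent.H58VA TensorMod TensorMod.Dual TensorMod.Gen TensorMod.HomGlue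

variable {S : Scheme.{u}} (B : Tw S) {U : S.Opens} {hU : IsAffineOpen U}

/-- A section of `O(1)` read on the chart. -/
def Tw.read (W : B.P.Opens) (s : Γ(B.O1, W)) :
    Γ(GrTwist.twist (B.alg.deg U hU) 1, B.e hU ⁻¹ᵁ W) :=
  (B.lam U hU).app W s

theorem Tw.read_smul {W : B.P.Opens} (a : Γ(B.P, W)) (s : Γ(B.O1, W)) :
    B.read (hU := hU) W (a • s) = ((B.e hU).app W a) • B.read (hU := hU) W s := by
  rw [Tw.read, Scheme.Modules.Hom.app_smul]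
  rfl

/-- `g/1` as a section of `O(1)` over `p⁻¹U`. -/
def Tw.sec {g : B.R U} (hg : g ∈ B.alg.deg U hU 1) : Γ(B.O1, B.p ⁻¹ᵁ U) :=
  ((B.hO.bijective U hU (B.p ⁻¹ᵁ U) le_rfl).2
    (rs (GrTwist.twist (B.alg.deg U hU) ((1 : ℕ) : ℤ)) le_top (GrTwistOne.oneSec hg))).choose

theorem Tw.val_sec {g : B.R U} (hg : g ∈ B.alg.deg U hU 1) (y : ↥(B.e hU ⁻¹ᵁ (B.p ⁻¹ᵁ U))) :
    GrTwist.val (V := B.e hU ⁻¹ᵁ (B.p ⁻¹ᵁ U)) (B.read (hU := hU) _ (B.sec hg)) y =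
      GrTwistOne.frac1 y.1 g := by
  have h := ((B.hO.bijective U hU (B.p ⁻¹ᵁ U) le_rfl).2
    (rs (GrTwist.twist (B.alg.deg U hU) ((1 : ℕ) : ℤ)) le_top (GrTwistOne.oneSec hg))).choose_spec
  exact congrArg (fun t => GrTwist.val (V := B.e hU ⁻¹ᵁ (B.p ⁻¹ᵁ U)) t y) h

/-- Sections over an open inside `p⁻¹U` are determined by their values on the chart. -/
theorem Tw.ext_val {W : B.P.Opens} (hW : W ≤ B.p ⁻¹ᵁ U) {s t : Γ(B.O1, W)}
    (h : ∀ y : ↥(B.e hU ⁻¹ᵁ W), GrTwist.val (V := B.e hU ⁻¹ᵁ W) (B.read (hU := hU) W s) y =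
      GrTwist.val (V := B.e hU ⁻¹ᵁ W) (B.read (hU := hU) W t) y) : s = t :=
  (B.hO.bijective U hU W hW).1 (Subtype.ext (funext fun y => Subtype.ext (h y)))

theorem Tw.val_rs {W W' : B.P.Opens} (h : W' ≤ W) (s : Γ(B.O1, W)) (y : ↥(B.e hU ⁻¹ᵁ W')) :
    GrTwist.val (V := B.e hU ⁻¹ᵁ W') (B.read (hU := hU) W' (rs B.O1 h s)) y =
      GrTwist.val (V := B.e hU ⁻¹ᵁ W) (B.read (hU := hU) W s) ⟨y.1, h y.2⟩ := by
  exact congrArg (fun t => GrTwist.val (V := B.e hU ⁻¹ᵁ W') t y)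
    (HomGlue.rs_app (B.lam U hU) h s).symm

theorem Tw.val_smul {W : B.P.Opens} (a : Γ(B.P, W)) (s : Γ(B.O1, W)) (y : ↥(B.e hU ⁻¹ᵁ W)) :
    GrTwist.val (V := B.e hU ⁻¹ᵁ W) (B.read (hU := hU) W (a • s)) y =
      ((((B.e hU).app W a : Γ(Proj (B.alg.deg U hU), B.e hU ⁻¹ᵁ W)) :
        GrTwist.O (𝒜 := B.alg.deg U hU) (op (B.e hU ⁻¹ᵁ W))).1 y).val *
      GrTwist.val (V := B.e hU ⁻¹ᵁ W) (B.read (hU := hU) W s) y := by
  rw [B.read_smul]
  exact GrTwist.coe_smul_val _ y.1 _ _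

variable {g : B.R U} (hg : g ∈ B.alg.deg U hU 1)

theorem Tw.isGen_sec : IsGen B.O1 (B.D hU g) (rs B.O1 (B.D_le hU g) (B.sec hg)) :=
  Frame.isGen_of_val B.hO hU (B.sec hg) hg (B.val_sec hg)

/-- The ratio identity. -/
theorem Tw.sec_eq_frac_smul {b : B.R U} (hb : b ∈ B.alg.deg U hU 1) :
    rs B.O1 (B.D_le hU g) (B.sec hb) = B.frac hg hb • rs B.O1 (B.D_le hU g) (B.sec hg) := by
  refine B.ext_val (hU := hU) (B.D_le hU g) fun y => ?_
  rw [B.val_rs (B.D_le hU g) (B.sec hb), B.val_smul, B.val_rs (B.D_le hU g) (B.sec hg),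
    B.val_sec, B.val_sec]
  have hy : y.1 ∈ Proj.basicOpen (B.alg.deg U hU) g := (B.preimage_D hU g).le y.2
  have h1 : ((((B.e hU).app (B.D hU g) (B.frac hg hb) : Γ(Proj (B.alg.deg U hU), B.e hU ⁻¹ᵁ B.D hU g)) :
        GrTwist.O (𝒜 := B.alg.deg U hU) (op (B.e hU ⁻¹ᵁ B.D hU g))).1 y).val =
      Localization.mk b (⟨g ^ 1, fun h => hy (by simpa using h)⟩ :
        y.1.asHomogeneousIdeal.toIdeal.primeCompl) := by
    have h2 := congrArg (fun t : Γ(Proj (B.alg.deg U hU), Proj.basicOpen (B.alg.deg U hU) g) =>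
      ((t : GrTwist.O (𝒜 := B.alg.deg U hU) (op (Proj.basicOpen (B.alg.deg U hU) g))).1 ⟨y.1, hy⟩).val)
      (B.toBasic_frac hg hb)
    exact h2
  rw [h1, Localization.mk_mul, Localization.mk_eq_mk_iff, Localization.r_iff_exists]
  exact ⟨1, by simp only [Submonoid.coe_mul, OneMemClass.coe_one, one_mul, mul_one, pow_one]; ring⟩

include hg in
/-- Linearity over the base, read on `D₊(g)`. -/
theorem Tw.val_appLE (r : Γ(S, U)) (y : ↥(Proj.basicOpen (B.alg.deg U hU) g)) :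
    ((B.toBasic hU g (B.p.appLE U (B.D hU g) (B.D_le hU g) r) :
      GrTwist.O (𝒜 := B.alg.deg U hU) (op (Proj.basicOpen (B.alg.deg U hU) g))).1 y).val =
      Localization.mk ((B.alg.str.app (op U)).hom r) 1 := by
  rw [B.toBasic_appLE hg r]
  rfl

include hg in
theorem Tw.sec_smul_on (r : Γ(S, U)) {b : B.R U} (hb : b ∈ B.alg.deg U hU 1)
    (hrb : (B.alg.str.app (op U)).hom r * b ∈ B.alg.deg U hU 1) :
    rs B.O1 (B.D_le hU g) (B.sec hrb) =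
      B.p.appLE U (B.D hU g) (B.D_le hU g) r • rs B.O1 (B.D_le hU g) (B.sec hb) := by
  refine B.ext_val (hU := hU) (B.D_le hU g) fun y => ?_
  rw [B.val_rs (B.D_le hU g) (B.sec hrb), B.val_smul, B.val_rs (B.D_le hU g) (B.sec hb),
    B.val_sec, B.val_sec]
  have hy : y.1 ∈ Proj.basicOpen (B.alg.deg U hU) g := (B.preimage_D hU g).le y.2
  have h1 : ((((B.e hU).app (B.D hU g) (B.p.appLE U (B.D hU g) (B.D_le hU g) r) :
        Γ(Proj (B.alg.deg U hU), B.e hU ⁻¹ᵁ B.D hU g)) :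
        GrTwist.O (𝒜 := B.alg.deg U hU) (op (B.e hU ⁻¹ᵁ B.D hU g))).1 y).val =
      Localization.mk ((B.alg.str.app (op U)).hom r) 1 := B.val_appLE hg r ⟨y.1, hy⟩
  rw [h1, Localization.mk_mul, one_mul]

theorem Tw.sec_smul (r : Γ(S, U)) {b : B.R U} (hb : b ∈ B.alg.deg U hU 1)
    (hrb : (B.alg.str.app (op U)).hom r * b ∈ B.alg.deg U hU 1) :
    B.sec hrb = B.p.app U r • B.sec hb := by
  refine sections_ext_cover (fun g : B.alg.deg U hU 1 => B.D hU g.1) B.O1 (V := B.p ⁻¹ᵁ U)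
    (fun x hx => ?_) fun g => ?_
  · obtain ⟨g, hg, hxg⟩ := B.exists_mem_D hU (x := x) hx
    exact Opens.mem_iSup.2 ⟨⟨g, hg⟩, hxg⟩
  · have h := congrArg (rs B.O1 (inf_le_right : B.p ⁻¹ᵁ U ⊓ B.D hU g.1 ≤ B.D hU g.1))
      (B.sec_smul_on g.2 r hb hrb)
    rw [rs_rs, rs_smul, rs_rs] at h
    rw [rs_smul]
    refine h.trans (congrArg (· • _) ?_)
    rw [Scheme.Hom.app_eq_appLE]
    change ((B.p.appLE U (B.D hU g.1) _) ≫ B.P.presheaf.map (homOfLE _).op).hom r =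
      ((B.p.appLE U (B.p ⁻¹ᵁ U) _) ≫ B.P.presheaf.map (homOfLE _).op).hom r
    rw [Scheme.Hom.appLE_map, Scheme.Hom.appLE_map]

theorem Tw.sec_add {a b : B.R U} (ha : a ∈ B.alg.deg U hU 1) (hb : b ∈ B.alg.deg U hU 1) :
    B.sec (add_mem ha hb) = B.sec ha + B.sec hb := by
  refine B.ext_val (hU := hU) le_rfl fun y => ?_
  rw [show B.read (hU := hU) _ (B.sec ha + B.sec hb) =
      B.read (hU := hU) _ (B.sec ha) + B.read (hU := hU) _ (B.sec hb) from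
    map_add ((B.lam U hU).app _).hom _ _]
  rw [B.val_sec]
  refine Eq.trans ?_ (congrArg₂ (· + ·) (B.val_sec ha y) (B.val_sec hb y)).symm
  exact (Localization.add_mk_self _ _ _).symm

theorem Tw.sec_congr {a b : B.R U} (ha : a ∈ B.alg.deg U hU 1) (hb : b ∈ B.alg.deg U hU 1) (h : a = b) :
    B.sec ha = B.sec hb := by subst h; rfl

theorem Tw.sec_basicOpen (r : Γ(S, U)) {b : B.R U} (hb : b ∈ B.alg.deg U hU 1) :
    rs B.O1 (B.p.preimage_mono (S.basicOpen_le r)) (B.sec hb) =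
      B.sec ((B.alg.res hU (hU.basicOpen r) (S.basicOpen_le r)).map_mem hb) := by
  refine B.ext_val (hU := hU.basicOpen r) le_rfl fun y => ?_
  rw [B.val_sec]
  let hψ := B.alg.irrelevant_le_map U hU r
  have hy' : (B.e hU).base (ProjectiveSpectrum.comap
      (B.alg.res hU (hU.basicOpen r) (S.basicOpen_le r)) hψ y.1) ∈ B.p ⁻¹ᵁ U :=
    Frame.image_le hU ⊤ ⟨_, trivial, rfl⟩
  have h := B.hO.compat U hU r (B.p ⁻¹ᵁ U) (B.sec hb) y.1
    (B.p.preimage_mono (S.basicOpen_le r) y.2) hy'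
  refine ((B.val_rs _ _ y).trans ?_)
  refine h.trans ?_
  refine (congrArg (GrTwist.locMap (B.alg.res hU (hU.basicOpen r) (S.basicOpen_le r)) hψ y.1)
    (B.val_sec hb ⟨_, hy'⟩)).trans ?_
  rw [GrTwistOne.frac1, GrTwist.locMap_mk]
  exact congrArg (Localization.mk _) (Subtype.ext (map_one (B.alg.res hU (hU.basicOpen r) (S.basicOpen_le r))))

theorem Tw.sec_res {V : S.Opens} (hV : IsAffineOpen V) (i : V ≤ U) {b : B.R U} (hb : b ∈ B.alg.deg U hU 1) :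
    rs B.O1 (B.p.preimage_mono i) (B.sec hb) = B.sec ((B.alg.res hU hV i).map_mem hb) := by
  let ι := {p : Γ(S, U) × Γ(S, V) // S.basicOpen p.1 = S.basicOpen p.2}
  refine sections_ext_cover (fun p : ι => B.p ⁻¹ᵁ S.basicOpen p.1.2) B.O1 (V := B.p ⁻¹ᵁ V)
    (fun x hx => ?_) fun p => ?_
  · obtain ⟨f, g, e, hxf⟩ := exists_basicOpen_le_affine_inter hU hV _ ⟨i hx, hx⟩
    exact Opens.mem_iSup.2 ⟨⟨(f, g), e⟩, e ▸ hxf⟩
  · obtain ⟨⟨f, g⟩, e⟩ := p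
    have key : ∀ (W : S.Opens) (hW : IsAffineOpen W) (hWU : W ≤ U) (_ : W = S.basicOpen f),
        rs B.O1 (B.p.preimage_mono hWU) (B.sec hb) = B.sec ((B.alg.res hU hW hWU).map_mem hb) := by
      rintro W hW hWU rfl
      exact B.sec_basicOpen f hb
    have h1 := key (S.basicOpen g) (hV.basicOpen g) ((S.basicOpen_le g).trans i) e.symm
    have h2 := B.sec_basicOpen g ((B.alg.res hU hV i).map_mem hb)
    have h3 : B.alg.res hV (hV.basicOpen g) (S.basicOpen_le g) (B.alg.res hU hV i b) =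
        B.alg.res hU (hV.basicOpen g) ((S.basicOpen_le g).trans i) b :=
      DFunLike.congr_fun (Groth.Agent.H81.RelProj.Exists.res_comp B.alg hU hV (hV.basicOpen g) i (S.basicOpen_le g)) b
    have h4 := congrArg (rs B.O1 (inf_le_right : B.p ⁻¹ᵁ V ⊓ B.p ⁻¹ᵁ S.basicOpen g ≤ B.p ⁻¹ᵁ S.basicOpen g))
      ((h2.trans (B.sec_congr _ _ h3)).trans h1.symm)
    rw [rs_rs, rs_rs] at h4
    rw [rs_rs]
    exact h4.symm

end Groth.Agent.Lib.SymAlg.PE
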