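import Groth.Agent.Lib.Ample.Pow
import Groth.Agent.H81.RelProj.RelTensor
import Groth.Agent.H81.RelProj.RelTwist
import Groth.Agent.H81.RelProj.TwistInv

/-!
# Powers of `O(1)` under a morphism of relative Proj
-/

noncomputable section

set_option autoImplicit false
universe u

open CategoryTheory CategoryTheory.Limits AlgebraicGeometry Opposite TopologicalSpace

namespace Groth.Agent.Lib.SymAlg.PE

open Groth.Agent.Lib TensorMod TensorMod.Basic TensorMod.Pullback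

variable {Y P : Scheme.{u}} {𝒮 : RelProj.QCGrAlg Y} {p : P ⟶ Y}
  {chart : ∀ (U : Y.Opens) (hU : IsAffineOpen U), (((p ⁻¹ᵁ U : P.Opens) : Scheme.{u}) ≅ Proj (𝒮.deg U hU))}

theorem twist_add (hP : RelProj.IsRelProj 𝒮 p chart) (hgen : 𝒮.IsGenDegOne) {m n k : ℤ} (hk : k = m + n)
    {L L' L'' : P.Modules}
    {lam : ∀ (U : Y.Opens) (hU : IsAffineOpen U),
      L ⟶ (Scheme.Modules.pushforward (RelProj.emb p chart U hU)).obj (GrTwist.twist (𝒮.deg U hU) m)}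
    {lam' : ∀ (U : Y.Opens) (hU : IsAffineOpen U),
      L' ⟶ (Scheme.Modules.pushforward (RelProj.emb p chart U hU)).obj (GrTwist.twist (𝒮.deg U hU) n)}
    {lam'' : ∀ (U : Y.Opens) (hU : IsAffineOpen U),
      L'' ⟶ (Scheme.Modules.pushforward (RelProj.emb p chart U hU)).obj (GrTwist.twist (𝒮.deg U hU) k)}
    (hL : RelProj.IsRelTwist 𝒮 p chart m L lam) (hL' : RelProj.IsRelTwist 𝒮 p chart n L' lam')
    (hL'' : RelProj.IsRelTwist 𝒮 p chart k L'' lam'') : Nonempty (CohB1.tensorMod L L' ≅ L'') := by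
  subst hk
  exact H81.RelProj.RelTensor.twist_tensor_twist hP hgen hL hL' hL''

theorem twist_zero (hP : RelProj.IsRelProj 𝒮 p chart) (hgen : 𝒮.IsGenDegOne) {m : ℤ} (hm : m = 0) {L : P.Modules}
    {lam : ∀ (U : Y.Opens) (hU : IsAffineOpen U),
      L ⟶ (Scheme.Modules.pushforward (RelProj.emb p chart U hU)).obj (GrTwist.twist (𝒮.deg U hU) m)}
    (hL : RelProj.IsRelTwist 𝒮 p chart m L lam) : Nonempty (L ≅ Coh.structureModule P) := by
  obtain ⟨e⟩ := twist_add hP hgen (show m = m + m by omega) hL hL hL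
  exact ⟨TensorMod.Invertible.cancelRight (H81.RelProj.TwistInv.isInvertible hgen hL) (e ≪≫ (leftUnit L).symm)⟩

/-- If a morphism pulls `O(1)` back to `O(1) ⊗ p^*L`, it pulls `O(n)` back to `O(n) ⊗ p^*L^{⊗n}`. -/
theorem pullback_twist_pow {Q : Scheme.{u}} {𝒯 : RelProj.QCGrAlg Y} {q : Q ⟶ Y}
    {chartQ : ∀ (U : Y.Opens) (hU : IsAffineOpen U), (((q ⁻¹ᵁ U : Q.Opens) : Scheme.{u}) ≅ Proj (𝒯.deg U hU))}
    (hP : RelProj.IsRelProj 𝒮 p chart) (hgP : 𝒮.IsGenDegOne)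
    (hQ : RelProj.IsRelProj 𝒯 q chartQ) (hgQ : 𝒯.IsGenDegOne) (f : P ⟶ Q) (L : Y.Modules)
    {O1 : P.Modules}
    {lam1 : ∀ (U : Y.Opens) (hU : IsAffineOpen U),
      O1 ⟶ (Scheme.Modules.pushforward (RelProj.emb p chart U hU)).obj (GrTwist.twist (𝒮.deg U hU) 1)}
    (hO1 : RelProj.IsRelTwist 𝒮 p chart 1 O1 lam1) {Q1 : Q.Modules}
    {mu1 : ∀ (U : Y.Opens) (hU : IsAffineOpen U),
      Q1 ⟶ (Scheme.Modules.pushforward (RelProj.emb q chartQ U hU)).obj (GrTwist.twist (𝒯.deg U hU) 1)}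
    (hQ1 : RelProj.IsRelTwist 𝒯 q chartQ 1 Q1 mu1)
    (e1 : (Scheme.Modules.pullback f).obj Q1 ≅ CohB1.tensorMod O1 ((Scheme.Modules.pullback p).obj L)) (n : ℕ) :
    ∀ (k : ℤ), k = n → ∀ (OP : P.Modules)
      (lamP : ∀ (U : Y.Opens) (hU : IsAffineOpen U),
        OP ⟶ (Scheme.Modules.pushforward (RelProj.emb p chart U hU)).obj (GrTwist.twist (𝒮.deg U hU) k))
      (OQ : Q.Modules)
      (lamQ : ∀ (U : Y.Opens) (hU : IsAffineOpen U),
        OQ ⟶ (Scheme.Modules.pushforward (RelProj.emb q chartQ U hU)).obj (GrTwist.twist (𝒯.deg U hU) k)),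
      RelProj.IsRelTwist 𝒮 p chart k OP lamP → RelProj.IsRelTwist 𝒯 q chartQ k OQ lamQ →
        Nonempty ((Scheme.Modules.pullback f).obj OQ ≅
          CohB1.tensorMod OP ((Scheme.Modules.pullback p).obj (CohB1.tensorPow L n))) := by
  induction n with
  | zero =>
    intro k hk OP lamP OQ lamQ hOP hOQ
    obtain ⟨uP⟩ := twist_zero hP hgP (hk.trans Nat.cast_zero) hOP
    obtain ⟨uQ⟩ := twist_zero hQ hgQ (hk.trans Nat.cast_zero) hOQ
    exact ⟨(pb f).mapIso uQ ≪≫ PicLoc.pullbackStructureIso f ≪≫ (leftUnit _).symm ≪≫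
      tensorIso uP.symm (PicLoc.pullbackStructureIso p).symm⟩
  | succ n ih =>
    intro k hk OP lamP OQ lamQ hOP hOQ
    obtain ⟨A, lamA, hA⟩ := H81.RelProj.RelTwist.exists_isRelTwist hP (n : ℤ)
    obtain ⟨C, lamC, hC⟩ := H81.RelProj.RelTwist.exists_isRelTwist hQ (n : ℤ)
    obtain ⟨e2⟩ := ih _ rfl A lamA C lamC hA hC
    have hk' : k = (n : ℤ) + 1 := hk.trans (Nat.cast_succ n)
    obtain ⟨eP⟩ := twist_add hP hgP hk' hA hO1 hOP
    obtain ⟨eQ⟩ := twist_add hQ hgQ hk' hC hQ1 hOQ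
    exact ⟨(pb f).mapIso eQ.symm ≪≫ pullbackTensorIso f C Q1 ≪≫ tensorIso e2 e1 ≪≫
      Ample.Pow.middleFour _ _ _ _ ≪≫ tensorIso eP (pullbackTensorIso p (CohB1.tensorPow L n) L).symm⟩

end Groth.Agent.Lib.SymAlg.PE
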